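import Groth.Agent.H87.HopfModel
import Mathlib

/-!
A finitely presented Hopf algebra is defined over a finitely generated ring.
-/

open TensorProduct Groth.Agent.H87.HopfStage

set_option linter.style.haveILetI false

universe u

namespace Groth.Agent.Lib.OT67.HopfDescent

noncomputable section

theorem comul_one_tmul {A : Type u} [CommRing A] (R : Type u) [CommRing R] [Algebra A R] {B : Type u} [CommRing B]
    [Bialgebra A B] (b : B) :
    CoalgebraStruct.comul (R := R) ((1 : R) ⊗ₜ[A] b) =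
      AlgebraTensorModule.distribBaseChange A R B B ((1 : R) ⊗ₜ[A] CoalgebraStruct.comul (R := A) b) := by
  rw [TensorProduct.comul_tmul, CommSemiring.comul_apply]
  generalize CoalgebraStruct.comul (R := A) b = z
  induction z using TensorProduct.induction_on with
  | zero => simp
  | tmul p q => simp
  | add p q hp hq => simp only [_root_.map_add, TensorProduct.tmul_add, hp, hq]

theorem map_distrib {B A : Type u} [CommRing B] [CommRing A] [Algebra B A] {X : Type u} [CommRing X] [Algebra B X]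
    {Y : Type u} [CommRing Y] [Algebra A Y] {Z : Type u} [AddCommMonoid Z] (L : A ⊗[B] X →ₗ[A] Y)
    (F : (Y ⊗[A] Y) → Z) (G : (X ⊗[B] X) → Z)
    (hF0 : F 0 = 0) (hG0 : G 0 = 0) (hFa : ∀ a b, F (a + b) = F a + F b) (hGa : ∀ a b, G (a + b) = G a + G b)
    (h : ∀ p q, F (L ((1 : A) ⊗ₜ p) ⊗ₜ L ((1 : A) ⊗ₜ q)) = G (p ⊗ₜ q)) (z : X ⊗[B] X) :
    F (TensorProduct.map L L (AlgebraTensorModule.distribBaseChange B A X X ((1 : A) ⊗ₜ z))) = G z := by
  induction z using TensorProduct.induction_on with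
  | zero => simp [hF0, hG0]
  | tmul p q => simpa using h p q
  | add p q hp hq => simp only [TensorProduct.tmul_add, _root_.map_add, hFa, hGa, hp, hq]

set_option synthInstance.maxHeartbeats 200000 in
/-- Transitivity of extension of scalars for bialgebras. -/
theorem exists_tower (R L S : Type u) [CommRing R] [CommRing L] [CommRing S] [Algebra R L] [Algebra L S]
    [Algebra R S] [IsScalarTower R L S] (A : Type u) [CommRing A] [Bialgebra R A] :
    ∃ T : S ⊗[R] A ≃ₐc[S] S ⊗[L] (L ⊗[R] A), ∀ (s : S) (a : A), T (s ⊗ₜ[R] a) = s ⊗ₜ[L] ((1 : L) ⊗ₜ[R] a) := by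
  let T : S ⊗[L] (L ⊗[R] A) ≃ₐ[S] S ⊗[R] A := Algebra.TensorProduct.cancelBaseChange R L S S A
  have hT : ∀ (s : S) (a : A), T.symm (s ⊗ₜ[R] a) = s ⊗ₜ[L] ((1 : L) ⊗ₜ[R] a) := fun s a => by
    rw [AlgEquiv.symm_apply_eq]
    simp [T]
  refine ⟨BialgEquiv.ofAlgEquiv (R := S) (A := S ⊗[R] A) (B := S ⊗[L] (L ⊗[R] A)) T.symm
    (by
      ext a
      simp [hT, TensorProduct.counit_tmul, Algebra.algebraMap_eq_smul_one])
    (by
      ext a
      simp only [AlgHom.comp_apply, AlgHom.coe_restrictScalars', Algebra.TensorProduct.includeRight_apply]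
      show Algebra.TensorProduct.map T.symm.toAlgHom T.symm.toAlgHom (CoalgebraStruct.comul (R := S) ((1 : S) ⊗ₜ[R] a)) =
        CoalgebraStruct.comul (R := S) (T.symm ((1 : S) ⊗ₜ[R] a))
      rw [hT, TensorProduct.comul_tmul, TensorProduct.comul_tmul, TensorProduct.comul_tmul, Bialgebra.comul_one, Bialgebra.comul_one]
      generalize CoalgebraStruct.comul (R := R) a = z
      induction z using TensorProduct.induction_on with
      | zero => simp
      | tmul b c => simp [hT, Algebra.TensorProduct.one_def, Algebra.TensorProduct.map_tmul]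
      | add b c hb hc => simp only [TensorProduct.tmul_add, _root_.map_add, hb, hc]), hT⟩

/-- An algebra isomorphism which respects comultiplication respects the counit. -/
theorem counit_apply {R : Type u} [CommRing R] {X Y : Type u} [CommRing X] [Bialgebra R X] [CommRing Y] [Bialgebra R Y]
    (f : X ≃ₐ[R] Y)
    (hf : ∀ x, TensorProduct.map f.toLinearMap f.toLinearMap (CoalgebraStruct.comul (R := R) x) = CoalgebraStruct.comul (R := R) (f x))
    (x : X) : CoalgebraStruct.counit (R := R) (f x) = CoalgebraStruct.counit (R := R) x := by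
  obtain ⟨s, hs⟩ := TensorProduct.exists_finset (CoalgebraStruct.comul (R := R) x)
  have hx' : CoalgebraStruct.comul (R := R) (f x) = ∑ i ∈ s, f i.1 ⊗ₜ[R] f i.2 := by
    rw [← hf, hs, _root_.map_sum]; rfl
  have h1 : f x = ∑ i ∈ s, CoalgebraStruct.counit (R := R) (f i.2) • f i.1 := by
    have h := congrArg (TensorProduct.rid R Y) (Coalgebra.lTensor_counit_comul (R := R) (f x))
    rw [TensorProduct.rid_tmul, one_smul, hx', _root_.map_sum, _root_.map_sum] at h
    simpa using h.symm
  have h2 : x = ∑ i ∈ s, CoalgebraStruct.counit (R := R) i.1 • i.2 := by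
    have h := congrArg (TensorProduct.lid R X) (Coalgebra.rTensor_counit_comul (R := R) x)
    rw [TensorProduct.lid_tmul, one_smul, hs, _root_.map_sum, _root_.map_sum] at h
    simpa using h.symm
  have h3 : x = ∑ i ∈ s, CoalgebraStruct.counit (R := R) (f i.2) • i.1 := f.injective (by rw [h1, _root_.map_sum]; simp)
  conv_lhs => rw [h2]
  conv_rhs => rw [h3]
  simp only [_root_.map_sum, _root_.map_smul, smul_eq_mul]
  exact Finset.sum_congr rfl fun i _ => mul_comm _ _

/-- An algebra isomorphism which respects comultiplication is an isomorphism of bialgebras. -/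
theorem exists_bialgEquiv {R : Type u} [CommRing R] {X Y : Type u} [CommRing X] [Bialgebra R X] [CommRing Y] [Bialgebra R Y]
    (f : X ≃ₐ[R] Y)
    (hf : ∀ x, TensorProduct.map f.toLinearMap f.toLinearMap (CoalgebraStruct.comul (R := R) x) = CoalgebraStruct.comul (R := R) (f x)) :
    Nonempty (X ≃ₐc[R] Y) :=
  ⟨BialgEquiv.ofAlgEquiv f (AlgHom.ext fun x => counit_apply f hf x) (AlgHom.ext fun x => hf x)⟩

section Antipode

variable {B : Type u} [CommRing B] {Cb : Type u} [CommRing Cb] [Bialgebra B Cb]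
variable {A : Type u} [CommRing A] [Algebra B A] {C : Type u} [CommRing C] [HopfAlgebra A C]

set_option maxHeartbeats 1000000 in
set_option synthInstance.maxHeartbeats 200000 in
/-- The antipode is defined at a finite level. -/
theorem exists_level_hopf [Algebra.FinitePresentation B Cb] (T : (A ⊗[B] Cb) ≃ₐc[A] C) :
    ∃ (B' : Subalgebra B A) (_ : B'.FG) (C' : Type u) (_ : CommRing C') (_ : HopfAlgebra B' C'),
      Algebra.FinitePresentation B' C' ∧ Nonempty ((A ⊗[B'] C') ≃ₐc[A] C) := by
  classical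
  obtain ⟨n, π, hπ, G, hG⟩ := ‹Algebra.FinitePresentation B Cb›.out
  let SA : Cb →ₐ[B] A ⊗[B] Cb :=
    (((T.symm : C →ₐc[A] A ⊗[B] Cb).toAlgHom.comp ((HopfAlgebra.antipodeAlgHom A C).comp
      (T : A ⊗[B] Cb →ₐc[A] C).toAlgHom)).restrictScalars B).comp Algebra.TensorProduct.includeRight
  let mS : ∀ {X : Type u} [CommRing X] [Algebra B X], (Cb →ₐ[B] X) → (Cb →ₐ[B] X) → (Cb →ₐ[B] X) := fun f g =>
    (Algebra.TensorProduct.lift f g fun _ _ => .all _ _).comp (Bialgebra.comulAlgHom B Cb)
  let un : ∀ (X : Type u) [CommRing X] [Algebra B X], Cb →ₐ[B] X := fun X _ _ =>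
    (Algebra.ofId B X).comp (Bialgebra.counitAlgHom B Cb)
  have hnat : ∀ {X Y : Type u} [CommRing X] [Algebra B X] [CommRing Y] [Algebra B Y] (h : X →ₐ[B] Y)
      (f g : Cb →ₐ[B] X), h.comp (mS f g) = mS (h.comp f) (h.comp g) := by
    intro X Y _ _ _ _ h f g
    refine AlgHom.ext fun c => ?_
    simp only [mS, AlgHom.comp_apply]
    generalize Bialgebra.comulAlgHom B Cb c = z
    induction z using TensorProduct.induction_on with
    | zero => simp
    | tmul p q => simp
    | add p q hp hq => simp only [_root_.map_add, hp, hq]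
  have hSA : mS SA (Algebra.TensorProduct.includeRight : Cb →ₐ[B] A ⊗[B] Cb) = un _ ∧
      mS (Algebra.TensorProduct.includeRight : Cb →ₐ[B] A ⊗[B] Cb) SA = un _ := by
    have key : ∀ c, CoalgebraStruct.comul (R := A) (T ((1 : A) ⊗ₜ c)) = TensorProduct.map
        (T : A ⊗[B] Cb →ₐc[A] C).toLinearMap (T : A ⊗[B] Cb →ₐc[A] C).toLinearMap
        (AlgebraTensorModule.distribBaseChange B A Cb Cb ((1 : A) ⊗ₜ CoalgebraStruct.comul (R := B) c)) := fun c => by
      rw [← comul_one_tmul]
      exact (CoalgHomClass.map_comp_comul_apply T _).symm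
    have hε : ∀ c, algebraMap A C (CoalgebraStruct.counit (R := A) (T ((1 : A) ⊗ₜ c))) = T (un (A ⊗[B] Cb) c) := fun c => by
      rw [CoalgHomClass.counit_comp_apply, TensorProduct.counit_tmul, CommSemiring.counit_apply,
        show un (A ⊗[B] Cb) c = algebraMap A (A ⊗[B] Cb) (algebraMap B A (CoalgebraStruct.counit (R := B) c)) from
          IsScalarTower.algebraMap_apply B A (A ⊗[B] Cb) _, ← Algebra.algebraMap_eq_smul_one]
      exact ((T : A ⊗[B] Cb →ₐc[A] C).toAlgHom.commutes _).symm
    refine ⟨AlgHom.ext fun c => EquivLike.injective T ?_, AlgHom.ext fun c => EquivLike.injective T ?_⟩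
    · rw [← hε, ← HopfAlgebra.mul_antipode_rTensor_comul_apply (R := A), key]
      simp only [mS, AlgHom.comp_apply, Bialgebra.comulAlgHom_apply]
      generalize CoalgebraStruct.comul (R := B) c = z
      induction z using TensorProduct.induction_on with
      | zero => simp
      | tmul p q =>
        simp [SA]
        rfl
      | add p q hp hq => simp only [_root_.map_add, TensorProduct.tmul_add, hp, hq]
    · rw [← hε, ← HopfAlgebra.mul_antipode_lTensor_comul_apply (R := A), key]
      simp only [mS, AlgHom.comp_apply, Bialgebra.comulAlgHom_apply]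
      generalize CoalgebraStruct.comul (R := B) c = z
      induction z using TensorProduct.induction_on with
      | zero => simp
      | tmul p q =>
        simp [SA]
        rfl
      | add p q hp hq => simp only [_root_.map_add, TensorProduct.tmul_add, hp, hq]
  -- values on the generators
  let cg : Fin n → Cb := fun j => π (MvPolynomial.X j)
  obtain ⟨B₁, hB₁, hlev⟩ := exists_level (A := A) (X := Cb) (Finset.univ.image fun j => SA (cg j))
  choose s hs using fun j => hlev _ (Finset.mem_image_of_mem _ (Finset.mem_univ j))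
  let d : MvPolynomial (Fin n) B →ₐ[B] B₁ ⊗[B] Cb := MvPolynomial.aeval s
  let σ₁ : B₁ ⊗[B] Cb →ₐ[B] A ⊗[B] Cb := Algebra.TensorProduct.map B₁.val (AlgHom.id B Cb)
  have hσd : σ₁.comp d = SA.comp π := MvPolynomial.algHom_ext fun j => by
    show σ₁ (d (MvPolynomial.X j)) = SA (cg j)
    rw [show d (MvPolynomial.X j) = s j from MvPolynomial.aeval_X _ _, ← hs j]
    rfl
  obtain ⟨B₂, h₂, hB₂, hkill⟩ := exists_kill hB₁ (G.image d) fun t ht => by
    obtain ⟨g, hg, rfl⟩ := Finset.mem_image.1 ht
    refine (DFunLike.congr_fun hσd g).trans ?_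
    rw [AlgHom.comp_apply, show π g = 0 from RingHom.mem_ker.1 (hG ▸ Ideal.subset_span hg), _root_.map_zero]
  let ρ₂ : B₁ ⊗[B] Cb →ₐ[B] B₂ ⊗[B] Cb := Algebra.TensorProduct.map (Subalgebra.inclusion h₂) (AlgHom.id B Cb)
  let σ₂ : B₂ ⊗[B] Cb →ₐ[B] A ⊗[B] Cb := Algebra.TensorProduct.map B₂.val (AlgHom.id B Cb)
  have hker : RingHom.ker π ≤ RingHom.ker (ρ₂.comp d) := by
    refine hG.symm.le.trans (Ideal.span_le.2 fun g hg => ?_)
    exact hkill _ (Finset.mem_image_of_mem _ hg)
  let S₂ : Cb →ₐ[B] B₂ ⊗[B] Cb := AlgHom.liftOfSurjective π hπ (ρ₂.comp d) hker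
  have hS₂ : σ₂.comp S₂ = SA := by
    refine (AlgHom.cancel_right hπ).1 ?_
    rw [AlgHom.comp_assoc, show S₂.comp π = ρ₂.comp d from AlgHom.liftOfSurjective_comp _ _ _ _, ← AlgHom.comp_assoc, ← hσd]
    congr 1
    refine Algebra.TensorProduct.ext' fun a b => ?_
    simp [σ₁, σ₂, ρ₂]
  let E₁ : Cb →ₐ[B] B₂ ⊗[B] Cb := mS S₂ Algebra.TensorProduct.includeRight
  let E₂ : Cb →ₐ[B] B₂ ⊗[B] Cb := mS Algebra.TensorProduct.includeRight S₂
  have hincl : σ₂.comp Algebra.TensorProduct.includeRight = Algebra.TensorProduct.includeRight :=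
    AlgHom.ext fun c => by simp [σ₂]
  have hun : ∀ {X Y : Type u} [CommRing X] [Algebra B X] [CommRing Y] [Algebra B Y] (h : X →ₐ[B] Y),
      h.comp (un X) = un Y := fun h => AlgHom.ext fun c => h.commutes _
  obtain ⟨B₃, h₃, hB₃, hk₃⟩ := exists_kill hB₂ ((Finset.univ.image fun j => E₁ (cg j) - un _ (cg j)) ∪
      (Finset.univ.image fun j => E₂ (cg j) - un _ (cg j))) fun t ht => by
    show σ₂ t = 0
    rcases Finset.mem_union.1 ht with ht | ht <;> obtain ⟨j, -, rfl⟩ := Finset.mem_image.1 ht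
    · rw [_root_.map_sub, sub_eq_zero]
      exact (DFunLike.congr_fun ((hnat σ₂ S₂ _).trans (by rw [hS₂, hincl, hSA.1])) (cg j)).trans
        (DFunLike.congr_fun (hun σ₂) (cg j)).symm
    · rw [_root_.map_sub, sub_eq_zero]
      exact (DFunLike.congr_fun ((hnat σ₂ _ S₂).trans (by rw [hS₂, hincl, hSA.2])) (cg j)).trans
        (DFunLike.congr_fun (hun σ₂) (cg j)).symm
  let ρ₃ : B₂ ⊗[B] Cb →ₐ[B] B₃ ⊗[B] Cb := Algebra.TensorProduct.map (Subalgebra.inclusion h₃) (AlgHom.id B Cb)
  let S₃ : Cb →ₐ[B] B₃ ⊗[B] Cb := ρ₃.comp S₂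
  have hincl₃ : ρ₃.comp Algebra.TensorProduct.includeRight = Algebra.TensorProduct.includeRight :=
    AlgHom.ext fun c => by simp [ρ₃]
  have hax : mS S₃ (Algebra.TensorProduct.includeRight : Cb →ₐ[B] B₃ ⊗[B] Cb) = un _ ∧
      mS (Algebra.TensorProduct.includeRight : Cb →ₐ[B] B₃ ⊗[B] Cb) S₃ = un _ := by
    constructor
    · rw [← hincl₃, ← hnat, ← hun ρ₃]
      refine (AlgHom.cancel_right hπ).1 (MvPolynomial.algHom_ext fun j => sub_eq_zero.1 ?_)
      show ρ₃ (E₁ (cg j)) - ρ₃ (un _ (cg j)) = 0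
      rw [← _root_.map_sub]
      exact hk₃ _ (Finset.mem_union_left _ (Finset.mem_image_of_mem _ (Finset.mem_univ j)))
    · rw [← hincl₃, ← hnat, ← hun ρ₃]
      refine (AlgHom.cancel_right hπ).1 (MvPolynomial.algHom_ext fun j => sub_eq_zero.1 ?_)
      show ρ₃ (E₂ (cg j)) - ρ₃ (un _ (cg j)) = 0
      rw [← _root_.map_sub]
      exact hk₃ _ (Finset.mem_union_right _ (Finset.mem_image_of_mem _ (Finset.mem_univ j)))
  let C' := B₃ ⊗[B] Cb
  let S' : C' →ₐ[B₃] C' := Algebra.TensorProduct.lift (Algebra.ofId B₃ C') S₃ fun _ _ => .all _ _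
  have hcu : ∀ c, algebraMap B₃ C' (CoalgebraStruct.counit (R := B₃) ((1 : B₃) ⊗ₜ[B] c)) = un C' c := fun c => by
    rw [TensorProduct.counit_tmul, CommSemiring.counit_apply, ← Algebra.algebraMap_eq_smul_one,
      ← IsScalarTower.algebraMap_apply B B₃ C']
    rfl
  have hS' : ∀ p, S' ((1 : B₃) ⊗ₜ[B] p) = S₃ p := fun p =>
    (Algebra.TensorProduct.lift_tmul _ _ _ (1 : B₃) p).trans (by rw [_root_.map_one, one_mul])
  letI : HopfAlgebra B₃ C' := HopfAlgebra.ofAlgHom S'
    (Algebra.TensorProduct.ext (Subsingleton.elim _ _) (AlgHom.ext fun c => by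
      show Algebra.TensorProduct.lift S' (AlgHom.id B₃ C') (fun _ _ => .all _ _) (CoalgebraStruct.comul (R := B₃) ((1 : B₃) ⊗ₜ[B] c)) =
        algebraMap B₃ C' (CoalgebraStruct.counit (R := B₃) ((1 : B₃) ⊗ₜ[B] c))
      rw [hcu, ← DFunLike.congr_fun hax.1 c, comul_one_tmul]
      simp only [mS, AlgHom.comp_apply, Bialgebra.comulAlgHom_apply]
      generalize CoalgebraStruct.comul (R := B) c = z
      induction z using TensorProduct.induction_on with
      | zero => simp
      | tmul p q => simp [hS']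
      | add p q hp hq => simp only [_root_.map_add, TensorProduct.tmul_add, hp, hq]))
    (Algebra.TensorProduct.ext (Subsingleton.elim _ _) (AlgHom.ext fun c => by
      show Algebra.TensorProduct.lift (AlgHom.id B₃ C') S' (fun _ _ => .all _ _) (CoalgebraStruct.comul (R := B₃) ((1 : B₃) ⊗ₜ[B] c)) =
        algebraMap B₃ C' (CoalgebraStruct.counit (R := B₃) ((1 : B₃) ⊗ₜ[B] c))
      rw [hcu, ← DFunLike.congr_fun hax.2 c, comul_one_tmul]
      simp only [mS, AlgHom.comp_apply, Bialgebra.comulAlgHom_apply]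
      generalize CoalgebraStruct.comul (R := B) c = z
      induction z using TensorProduct.induction_on with
      | zero => simp
      | tmul p q => simp [hS']
      | add p q hp hq => simp only [_root_.map_add, TensorProduct.tmul_add, hp, hq]))
  obtain ⟨T', -⟩ := exists_tower B B₃ A Cb
  exact ⟨B₃, hB₃, C', inferInstance, inferInstance, inferInstance, ⟨T'.symm.trans T⟩⟩

end Antipode

set_option maxHeartbeats 800000 in
set_option synthInstance.maxHeartbeats 200000 in
/-- Descent of the antipode for a bialgebra model given by its laws. -/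
theorem exists_of_laws {A : Type u} [CommRing A] {C : Type u} [CommRing C] [HopfAlgebra A C]
    {B : Type u} [CommRing B] [Algebra B A] {X : Type u} [CommRing X] [Algebra B X] [Algebra.FinitePresentation B X]
    (Δ : X →ₐ[B] X ⊗[B] X) (ε : X →ₐ[B] B)
    (hco : (Algebra.TensorProduct.assoc B B B X X X : _ →ₐ[B] X ⊗[B] (X ⊗[B] X)).comp
        ((Algebra.TensorProduct.map Δ (AlgHom.id B X)).comp Δ) = (Algebra.TensorProduct.map (AlgHom.id B X) Δ).comp Δ)
    (hL : (Algebra.TensorProduct.map ε (AlgHom.id B X)).comp Δ = (Algebra.TensorProduct.lid B X).symm)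
    (hR : (Algebra.TensorProduct.map (AlgHom.id B X) ε).comp Δ = (Algebra.TensorProduct.rid B B X).symm)
    (T : A ⊗[B] X ≃ₐ[A] C)
    (hT : ∀ y, TensorProduct.map T.toLinearMap T.toLinearMap (AlgebraTensorModule.distribBaseChange B A X X ((1 : A) ⊗ₜ Δ y)) =
      CoalgebraStruct.comul (R := A) (T ((1 : A) ⊗ₜ y))) :
    ∃ (B' : Subalgebra B A) (_ : B'.FG) (C' : Type u) (_ : CommRing C') (_ : HopfAlgebra B' C'),
      Algebra.FinitePresentation B' C' ∧ Nonempty ((A ⊗[B'] C') ≃ₐc[A] C) := by
  letI : Bialgebra B X := Bialgebra.ofAlgHom Δ ε hco hL hR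
  have hcomul : ∀ x : A ⊗[B] X, TensorProduct.map T.toLinearMap T.toLinearMap (CoalgebraStruct.comul (R := A) x) =
      CoalgebraStruct.comul (R := A) (T x) := fun x => by
    induction x using TensorProduct.induction_on with
    | zero => simp
    | add p q hp hq => simp only [_root_.map_add, hp, hq]
    | tmul a y =>
      rw [show a ⊗ₜ[B] y = a • ((1 : A) ⊗ₜ[B] y) by rw [TensorProduct.smul_tmul', smul_eq_mul, mul_one], _root_.map_smul,
        _root_.map_smul, _root_.map_smul, _root_.map_smul, comul_one_tmul]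
      exact congrArg (a • ·) (hT y)
  obtain ⟨Tc⟩ := exists_bialgEquiv T hcomul
  exact exists_level_hopf Tc

set_option maxHeartbeats 1000000 in
set_option synthInstance.maxHeartbeats 200000 in
/-- **A finitely presented Hopf algebra is defined over a finitely generated ring.** -/
theorem exists_model (A : Type u) [CommRing A] (C : Type u) [CommRing C] [HopfAlgebra A C]
    [Algebra.FinitePresentation A C] :
    ∃ (A₀ : Type u) (_ : CommRing A₀) (_ : Algebra A₀ A) (C₀ : Type u) (_ : CommRing C₀) (_ : HopfAlgebra A₀ C₀),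
      Algebra.FiniteType ℤ A₀ ∧ Algebra.FinitePresentation A₀ C₀ ∧ Nonempty ((A ⊗[A₀] C₀) ≃ₐc[A] C) := by
  classical
  let P := Algebra.Presentation.ofFinitePresentation A C
  let A₁ := P.Core
  haveI : Algebra.FiniteType ℤ A₁ := inferInstance
  let C₁ := P.ModelOfHasCoeffs A₁
  let e : C ≃ₐ[A] A ⊗[A₁] C₁ := (P.tensorModelOfHasCoeffsEquiv A₁).symm
  obtain ⟨B, φ, ψ, hB, hφ, hco, huL, huR⟩ := Groth.Agent.H87.HopfModel.exists_level_bialgebra e
  haveI : Algebra.FiniteType A₁ B := B.fg_iff_finiteType.1 hB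
  let Cb := T1 (A₁ := A₁) B C₁
  haveI : Algebra.FinitePresentation B Cb := inferInstanceAs (Algebra.FinitePresentation B (B ⊗[A₁] C₁))
  let T : A ⊗[B] Cb ≃ₐ[A] C := (Algebra.TensorProduct.cancelBaseChange A₁ B A A C₁).trans e.symm
  let η : Cb → C := fun x => e.symm (σ1 B.val x)
  have hT : ∀ x, T ((1 : A) ⊗ₜ x) = η x := fun x => by
    induction x using TensorProduct.induction_on with
    | zero => simp [η]
    | tmul b c =>
      simp only [T, η, σ1_tmul, AlgEquiv.trans_apply]
      congr 1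
      rw [Algebra.TensorProduct.cancelBaseChange_tmul]
      simp [Algebra.smul_def]
    | add p q hp hq => simp only [η, TensorProduct.tmul_add, _root_.map_add] at hp hq ⊢; rw [hp, hq]
  obtain ⟨B', hB', C', _, _, hfp, hT'⟩ := exists_of_laws (com φ) (cou ψ) hco
    (AlgHom.ext fun x => (Algebra.TensorProduct.lid B Cb).injective
      ((AlgHom.congr_fun huL x).trans ((Algebra.TensorProduct.lid B Cb).apply_symm_apply x).symm))
    (AlgHom.ext fun x => (Algebra.TensorProduct.rid B B Cb).injective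
      ((AlgHom.congr_fun huR x).trans ((Algebra.TensorProduct.rid B B Cb).apply_symm_apply x).symm))
    T (fun y => by
      rw [hT]
      apply (Algebra.TensorProduct.congr e e).injective
      have h1 : Algebra.TensorProduct.map e.toAlgHom e.toAlgHom (CoalgebraStruct.comul (R := A) (η y)) =
          σ2 B.val (com φ y) := by
        rw [σ2_com, hφ, Groth.Agent.H87.HopfModel.com_φA]
        rfl
      refine Eq.trans ?_ h1.symm
      show Algebra.TensorProduct.map e.toAlgHom e.toAlgHom _ = σ2 B.val (com φ y)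
      refine map_distrib (B := B) (A := A) (X := Cb) (Z := T2 A C₁) T.toLinearMap
        (fun w => Algebra.TensorProduct.map e.toAlgHom e.toAlgHom w)
        (fun w : Cb ⊗[B] Cb => σ2 (C₁ := C₁) B.val w) (_root_.map_zero (Algebra.TensorProduct.map e.toAlgHom e.toAlgHom) :)
        (_root_.map_zero (σ2 (C₁ := C₁) B.val) :) (fun a b => (_root_.map_add (Algebra.TensorProduct.map e.toAlgHom e.toAlgHom) a b :))
        (fun a b => (_root_.map_add (σ2 (C₁ := C₁) B.val) a b :)) (fun p q => ?_) _
      show e (T ((1 : A) ⊗ₜ p)) ⊗ₜ[A] e (T ((1 : A) ⊗ₜ q)) = σ2 B.val (p ⊗ₜ q)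
      rw [σ2_tmul]
      exact congrArg₂ (· ⊗ₜ[A] ·) ((congrArg e (hT p)).trans (e.apply_symm_apply _))
        ((congrArg e (hT q)).trans (e.apply_symm_apply _)))
  haveI : Algebra.FiniteType B B' := B'.fg_iff_finiteType.1 hB'
  haveI : Algebra.FiniteType ℤ B := Algebra.FiniteType.trans (S := A₁) inferInstance inferInstance
  exact ⟨B', inferInstance, inferInstance, C', inferInstance, inferInstance,
    Algebra.FiniteType.trans (S := B) inferInstance inferInstance, hfp, hT'⟩

end

end Groth.Agent.Lib.OT67.HopfDescent
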