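import Groth.Agent.H83.MultType.BaseChange
import Groth.Agent.H83.MultType.Quot
import Groth.Agent.H83.MultType.Functorial
import Mathlib

/-!
Quasi-isotrivial groups: base change and transport along isomorphisms.
-/

open TensorProduct

set_option linter.style.haveILetI false

universe u

namespace Groth.Agent.Lib.OT67.QuasiIso

open Groth.Agent.H83.MultType

set_option synthInstance.maxHeartbeats 200000 in
set_option maxHeartbeats 800000 in
/-- Quasi-isotriviality is stable under base change. -/
theorem isQuasiIsotrivial_baseChange {R : Type u} [CommRing R] {A : Type u} [CommRing A] [HopfAlgebra R A]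
    (L : Type u) [CommRing L] [Algebra R L] (h : SGA3b.IsQuasiIsotrivial R A) : SGA3b.IsQuasiIsotrivial L (L ⊗[R] A) := by
  classical
  obtain ⟨s, hs, hsf⟩ := h
  refine ⟨algebraMap R L '' s, by rw [← Ideal.map_span, hs, Ideal.map_top], ?_⟩
  rintro f' ⟨f, hf, rfl⟩
  obtain ⟨S, _, _, het, hff, M, _, ⟨e⟩⟩ := hsf f hf
  let Rf := Localization.Away f
  let Lf := Localization.Away (algebraMap R L f)
  have hu : IsUnit (algebraMap R Lf f) := by
    rw [IsScalarTower.algebraMap_apply R L Lf]
    exact IsLocalization.Away.algebraMap_isUnit (algebraMap R L f)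
  letI : Algebra Rf Lf := (IsLocalization.Away.lift f (g := algebraMap R Lf) hu).toAlgebra
  haveI : IsScalarTower R Rf Lf := IsScalarTower.of_algebraMap_eq fun r =>
    (IsLocalization.Away.lift_eq f hu r).symm
  letI : Algebra R S := ((algebraMap Rf S).comp (algebraMap R Rf)).toAlgebra
  haveI : IsScalarTower R Rf S := IsScalarTower.of_algebraMap_eq fun _ => rfl
  let S2 := Lf ⊗[Rf] S
  haveI : IsScalarTower L Lf S2 := inferInstance
  haveI : IsScalarTower R Lf S2 := inferInstance
  haveI : IsScalarTower R L S2 := IsScalarTower.of_algebraMap_eq (R := R) (S := L) (A := S2) fun r => by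
    rw [IsScalarTower.algebraMap_apply L Lf S2, ← IsScalarTower.algebraMap_apply R L Lf, ← IsScalarTower.algebraMap_apply R Lf S2]
  haveI : Module.FaithfullyFlat Rf S := hff
  haveI : Algebra.Etale Rf S := het
  have hff2 : Module.FaithfullyFlat Lf S2 := inferInstance
  let g : S →ₐ[R] S2 :=
    { (Algebra.TensorProduct.includeRight : S →ₐ[Rf] S2).toRingHom with
      commutes' := fun r => by
        show (Algebra.TensorProduct.includeRight : S →ₐ[Rf] S2) (algebraMap Rf S (algebraMap R Rf r)) = algebraMap Lf S2 (algebraMap R Lf r)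
        rw [AlgHom.commutes, IsScalarTower.algebraMap_apply Rf Lf S2, ← IsScalarTower.algebraMap_apply R Rf Lf]
      }
  obtain ⟨T, -⟩ := exists_towerEquiv R Rf S A
  obtain ⟨e', -⟩ := exists_diag_map (A := A) g (T.trans e)
  obtain ⟨T₁, -⟩ := exists_towerEquiv L Lf S2 (L ⊗[R] A)
  obtain ⟨T₂, -⟩ := exists_towerEquiv R L S2 A
  exact ⟨S2, inferInstance, inferInstance, inferInstance, hff2, M, inferInstance, ⟨T₁.symm.trans (T₂.symm.trans e')⟩⟩

theorem isMultType {R : Type u} [CommRing R] {C : Type u} [CommRing C] [HopfAlgebra R C]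
    (h : SGA3b.IsQuasiIsotrivial R C) : SGA3b.IsMultType R C := by
  obtain ⟨s, hs, hc⟩ := h
  refine ⟨s, hs, fun f hf => ?_⟩
  obtain ⟨R', _, _, _, hff, hd⟩ := hc f hf
  exact ⟨R', inferInstance, inferInstance, hff, hd⟩

/-- Base change of an isomorphism of bialgebras. -/
noncomputable def bcCongr {R : Type u} [CommRing R] (S : Type u) [CommRing S] [Algebra R S] {C D : Type u} [CommRing C]
    [HopfAlgebra R C] [CommRing D] [HopfAlgebra R D] (e : C ≃ₐc[R] D) : (S ⊗[R] C) ≃ₐc[S] (S ⊗[R] D) :=
  BialgEquiv.ofBijective (Bialgebra.TensorProduct.map (BialgHom.id S S) (e : C →ₐc[R] D)) (by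
    refine Function.bijective_iff_has_inverse.2
      ⟨Bialgebra.TensorProduct.map (BialgHom.id S S) (e.symm : D →ₐc[R] C), fun x => ?_, fun x => ?_⟩
    · induction x using TensorProduct.induction_on with
      | zero => simp
      | tmul p q =>
        rw [Bialgebra.TensorProduct.map_tmul, Bialgebra.TensorProduct.map_tmul]
        exact congrArg (p ⊗ₜ[R] ·) (e.toAlgEquiv.symm_apply_apply q)
      | add p q hp hq => rw [map_add, map_add, hp, hq]
    · induction x using TensorProduct.induction_on with
      | zero => simp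
      | tmul p q =>
        rw [Bialgebra.TensorProduct.map_tmul, Bialgebra.TensorProduct.map_tmul]
        exact congrArg (p ⊗ₜ[R] ·) (e.toAlgEquiv.apply_symm_apply q)
      | add p q hp hq => rw [map_add, map_add, hp, hq])

theorem of_equiv {R : Type u} [CommRing R] {C D : Type u} [CommRing C] [HopfAlgebra R C] [CommRing D]
    [HopfAlgebra R D] (e : C ≃ₐc[R] D) (h : SGA3b.IsQuasiIsotrivial R C) : SGA3b.IsQuasiIsotrivial R D := by
  obtain ⟨s, hs, hc⟩ := h
  refine ⟨s, hs, fun f hf => ?_⟩
  obtain ⟨R', _, _, het, hff, M, _, ⟨g⟩⟩ := hc f hf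
  exact ⟨R', inferInstance, inferInstance, het, hff, M, inferInstance,
    ⟨(bcCongr R' (bcCongr (Localization.Away f) e)).symm.trans g⟩⟩

end Groth.Agent.Lib.OT67.QuasiIso
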