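import Groth.Agent.Lib.OT67.OpenPartMain
import Mathlib

/-!
Idempotents and connected fibres.
-/

open TensorProduct

set_option linter.style.haveILetI false

universe u

namespace Groth.Agent.Lib.OT67.IdemFibre

theorem eq_zero_or_one {R : Type u} [CommRing R] [ConnectedSpace (PrimeSpectrum R)] {e : R} (he : IsIdempotentElem e) :
    e = 0 ∨ e = 1 := by
  have h : IsClopen (PrimeSpectrum.basicOpen e : Set (PrimeSpectrum R)) :=
    PrimeSpectrum.isClopen_iff.2 ⟨e, he, rfl⟩
  rcases isClopen_iff.1 h with h0 | h1
  · left
    have hn : PrimeSpectrum.basicOpen e = ⊥ := SetLike.ext' h0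
    obtain ⟨n, hn⟩ := PrimeSpectrum.basicOpen_eq_bot_iff e |>.1 hn
    rcases n with _ | n
    · rw [pow_zero] at hn; rw [← mul_one e, hn, mul_zero]
    · rwa [he.pow_succ_eq] at hn
  · right
    have hu : IsUnit e := by
      by_contra hu
      obtain ⟨m, hm, hem⟩ := exists_max_ideal_of_mem_nonunits hu
      have := Set.ext_iff.1 h1 ⟨m, hm.isPrime⟩
      exact (this.2 (Set.mem_univ _)) hem
    exact (IsIdempotentElem.iff_eq_one_of_isUnit hu).1 he

theorem eq_zero_of_fibres {A : Type u} [CommRing A] {C : Type u} [CommRing C] [Algebra A C] {e : C}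
    (he : IsIdempotentElem e) (h : ∀ (p : Ideal A) [p.IsPrime], (1 : p.ResidueField) ⊗ₜ[A] e = 0) : e = 0 := by
  have hn : IsNilpotent e := by
    rw [nilpotent_iff_mem_prime]
    intro q hq
    let p := q.comap (algebraMap A C)
    haveI : q.LiesOver p := ⟨rfl⟩
    let f : p.ResidueField →ₐ[A] q.ResidueField :=
      Ideal.ResidueField.liftₐ p (Algebra.ofId A q.ResidueField)
        (fun a ha => by
          rw [RingHom.mem_ker]
          show algebraMap A q.ResidueField a = 0
          rw [IsScalarTower.algebraMap_apply A C q.ResidueField]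
          exact Ideal.algebraMap_residueField_eq_zero.2 ha)
        (fun a ha => by
          show IsUnit (algebraMap A q.ResidueField a)
          rw [IsScalarTower.algebraMap_apply A C q.ResidueField]
          exact isUnit_iff_ne_zero.2 fun h => ha ((Ideal.algebraMap_residueField_eq_zero (I := q)).1 h))
    have := congrArg (Algebra.TensorProduct.lift f (IsScalarTower.toAlgHom A C q.ResidueField) fun _ _ => .all _ _) (h p)
    rw [Algebra.TensorProduct.lift_tmul, map_one, one_mul, map_zero] at this
    exact Ideal.algebraMap_residueField_eq_zero.1 this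
  obtain ⟨n, hn⟩ := hn
  rcases n with _ | n
  · rw [pow_zero] at hn; rw [← mul_one e, hn, mul_zero]
  · rwa [he.pow_succ_eq] at hn

/-- With connected fibres the open part is everything. -/
theorem eq_zero_of_connected {A : Type u} [CommRing A] {C : Type u} [CommRing C] [HopfAlgebra A C] {e : C}
    (he : IsIdempotentElem e) (hε : CoalgebraStruct.counit (R := A) e = 0)
    (hconn : ∀ (p : Ideal A) [p.IsPrime], ConnectedSpace (PrimeSpectrum (p.ResidueField ⊗[A] C))) : e = 0 := by
  refine eq_zero_of_fibres (A := A) he fun p _ => ?_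
  haveI := hconn p
  rcases eq_zero_or_one (he.map (Algebra.TensorProduct.includeRight : C →ₐ[A] p.ResidueField ⊗[A] C)) with h | h
  · exact h
  · have := congrArg (Bialgebra.counitAlgHom p.ResidueField (p.ResidueField ⊗[A] C)) h
    rw [map_one] at this
    refine absurd this ?_
    rw [Algebra.TensorProduct.includeRight_apply, Bialgebra.counitAlgHom_apply, TensorProduct.counit_tmul, hε, zero_smul]
    exact zero_ne_one

/-- The whole group is isotrivial if the idempotent vanishes. -/
theorem isIsotrivial_of_injective {A : Type u} [CommRing A] {C : Type u} [CommRing C] [HopfAlgebra A C]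
    {B : Type u} [CommRing B] [HopfAlgebra A B] {φ : C →ₐc[A] B} (hs : Function.Surjective φ) {e : C}
    (hK : RingHom.ker (φ : C →ₐ[A] B) = Ideal.span {e}) (he : e = 0) (hB : SGA3b.IsIsotrivial A B) :
    SGA3b.IsIsotrivial A C := by
  refine OpenPartMain.isIsotrivial_of_equiv (BialgEquiv.ofBijective φ ⟨?_, hs⟩).symm hB
  intro x y hxy
  have h : x - y ∈ RingHom.ker (φ : C →ₐ[A] B) := by
    rw [RingHom.mem_ker, map_sub, sub_eq_zero]
    exact hxy
  rw [hK, he, Ideal.span_singleton_eq_bot.2 rfl, Ideal.mem_bot, sub_eq_zero] at h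
  exact h

end Groth.Agent.Lib.OT67.IdemFibre
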