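import Groth.Agent.Lib.OT67.BaseChange
import Mathlib

/-!
Deligne's theorem: a commutative finite locally free group scheme is killed by its order.
-/

open TensorProduct WithConv

universe u v

namespace Groth.Agent.Lib.OT67

variable {R : Type u} [CommRing R] {A : Type v} [CommRing A] [HopfAlgebra R A]

section transl

/-- The first inclusion, as a point. -/
noncomputable def inclL : WithConv (A →ₐ[R] A ⊗[R] A) := toConv Algebra.TensorProduct.includeLeft

/-- The second inclusion, as a point. -/
noncomputable def inclR : WithConv (A →ₐ[R] A ⊗[R] A) := toConv Algebra.TensorProduct.includeRight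

theorem id_antipode_cancel :
    toConv (AlgHom.id R A) * toConv (HopfAlgebra.antipodeAlgHom R A) = 1 := by
  apply WithConv.ofConv_injective
  apply AlgHom.toLinearMap_injective
  apply WithConv.toConv_injective
  rw [AlgHom.toLinearMap_convMul, AlgHom.toLinearMap_convOne]
  simp [LinearMap.id_mul_antipode]

theorem comp_one {B : Type*} [CommRing B] [Algebra R B] (h : A →ₐ[R] B) :
    toConv (h.comp (1 : WithConv (A →ₐ[R] A)).ofConv) = 1 :=
  WithConv.ofConv_injective (AlgHom.ext fun _ => h.commutes _)

theorem comp_antipode_mul {B : Type*} [CommRing B] [Algebra R B] (h : A →ₐ[R] B) :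
    toConv (h.comp (HopfAlgebra.antipodeAlgHom R A)) * toConv h = 1 := by
  rw [← comp_one h, ← AlgHom.antipode_id_cancel, AlgHom.comp_convMul_distrib]
  simp

theorem mul_comp_antipode {B : Type*} [CommRing B] [Algebra R B] (h : A →ₐ[R] B) :
    toConv h * toConv (h.comp (HopfAlgebra.antipodeAlgHom R A)) = 1 := by
  rw [← comp_one h, ← id_antipode_cancel, AlgHom.comp_convMul_distrib]
  simp

/-- The inverse of the first inclusion. -/
noncomputable def inclL' : WithConv (A →ₐ[R] A ⊗[R] A) :=
  toConv ((Algebra.TensorProduct.includeLeft : A →ₐ[R] A ⊗[R] A).comp (HopfAlgebra.antipodeAlgHom R A))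

/-- Extension of a point to an endomorphism fixing the first factor. -/
noncomputable def extL (g : WithConv (A →ₐ[R] A ⊗[R] A)) : A ⊗[R] A →ₐ[R] A ⊗[R] A :=
  Algebra.TensorProduct.lift Algebra.TensorProduct.includeLeft g.ofConv fun _ _ => .all ..

theorem extL_comp_left (g : WithConv (A →ₐ[R] A ⊗[R] A)) :
    (extL g).comp Algebra.TensorProduct.includeLeft = Algebra.TensorProduct.includeLeft :=
  Algebra.TensorProduct.lift_comp_includeLeft _ _ (fun _ _ => .all ..)

theorem extL_tmul (g : WithConv (A →ₐ[R] A ⊗[R] A)) (x y : A) :
    extL g (x ⊗ₜ y) = (x ⊗ₜ (1 : A)) * g.ofConv y :=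
  Algebra.TensorProduct.lift_tmul _ _ (fun _ _ => .all ..) _ _

theorem extL_comp_right (g : WithConv (A →ₐ[R] A ⊗[R] A)) :
    toConv ((extL g).comp (inclR (R := R) (A := A)).ofConv) = g :=
  WithConv.ofConv_injective (Algebra.TensorProduct.lift_comp_includeRight _ _ (fun _ _ => .all ..))

theorem extL_inverse (g g' : WithConv (A →ₐ[R] A ⊗[R] A))
    (h : toConv ((extL g).comp g'.ofConv) * g = inclR) (z : A ⊗[R] A) : extL g (extL (g' * inclR) z) = z := by
  induction z using TensorProduct.induction_on with
  | zero => simp
  | add p q hp hq => simp only [map_add, hp, hq]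
  | tmul x y =>
    have h1 : (extL g).comp (g' * inclR).ofConv = (inclR (R := R) (A := A)).ofConv := by
      rw [AlgHom.comp_convMul_distrib, extL_comp_right, h]
    have h2 : extL g (x ⊗ₜ (1 : A)) = x ⊗ₜ (1 : A) := DFunLike.congr_fun (extL_comp_left g) x
    rw [extL_tmul, map_mul, ← AlgHom.comp_apply, h1, h2]
    simp [inclR]

/-- Translation by the universal point. -/
noncomputable def transl : A ⊗[R] A ≃ₐ[R] A ⊗[R] A :=
  AlgEquiv.ofAlgHom (extL ((inclL (R := R) (A := A)) * inclR)) (extL ((inclL' (R := R) (A := A)) * inclR))
    (AlgHom.ext fun z => extL_inverse (R := R) (A := A) _ _ (by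
      rw [inclL', ofConv_toConv, ← AlgHom.comp_assoc, extL_comp_left, ← mul_assoc, inclL, comp_antipode_mul,
        one_mul]) z)
    (AlgHom.ext fun z => extL_inverse (R := R) (A := A) _ _ (by
      rw [inclL, ofConv_toConv, extL_comp_left, ← mul_assoc, inclL', mul_comp_antipode, one_mul]) z)

theorem transl_left (a : A) : transl (a ⊗ₜ[R] (1 : A)) = a ⊗ₜ[R] (1 : A) := by
  rw [transl, AlgEquiv.ofAlgHom_apply]
  rw [extL_tmul, map_one, mul_one]

theorem transl_right (a : A) : transl ((1 : A) ⊗ₜ[R] a) = (inclL * inclR).ofConv a := by
  rw [transl, AlgEquiv.ofAlgHom_apply]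
  rw [extL_tmul, ← Algebra.TensorProduct.one_def, one_mul]

end transl

section deligne
variable [Coalgebra.IsCocomm R A]

local notation "C" => WithConv (A →ₗ[R] A)
local notation "T" => WithConv (A →ₗ[R] A ⊗[R] A)

/-- The structure map. -/
noncomputable def structureHom : C →+* T where
  toFun f := toConv ((Algebra.TensorProduct.includeLeft : A →ₐ[R] A ⊗[R] A).toLinearMap ∘ₗ f.ofConv)
  map_one' := WithConv.ofConv_injective (LinearMap.ext fun a =>
    (Algebra.TensorProduct.includeLeft : A →ₐ[R] A ⊗[R] A).commutes _)
  map_mul' f g := WithConv.ofConv_injective (LinearMap.algHom_comp_convMul_distrib _ f g)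
  map_zero' := WithConv.ofConv_injective (LinearMap.comp_zero _)
  map_add' f g := WithConv.ofConv_injective (LinearMap.comp_add _ _ _)

theorem structureHom_mul_apply (f : C) (g : T) (a : A) :
    (structureHom f * g).ofConv a =
      LinearMap.mul' R (A ⊗[R] A) (TensorProduct.map (structureHom f).ofConv g.ofConv (Coalgebra.comul (R := R) a)) :=
  rfl

theorem pow_id_of_basis {ι : Type*} [Fintype ι] (b : Module.Basis ι R A) :
    (toConv (AlgHom.id R A)) ^ Fintype.card ι = 1 := by
  classical
  letI : Algebra C T := (structureHom (R := R) (A := A)).toAlgebra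
  let co : ι → (A ⊗[R] A →ₗ[R] A) := fun i => (TensorProduct.rid R A).toLinearMap ∘ₗ (b.coord i).lTensor A
  have hco : ∀ z : A ⊗[R] A, ∑ i, co i z ⊗ₜ[R] b i = z := by
    intro z
    induction z using TensorProduct.induction_on with
    | zero => simp
    | add p q hp hq => simp only [map_add, add_tmul, Finset.sum_add_distrib, hp, hq]
    | tmul x y =>
      simp only [co, LinearMap.comp_apply, LinearEquiv.coe_coe, LinearMap.lTensor_tmul, TensorProduct.rid_tmul,
        Module.Basis.coord_apply, smul_tmul]
      rw [← tmul_sum, b.sum_repr]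
  have hco2 : ∀ (i : ι) (x : ι → A), co i (∑ j, x j ⊗ₜ[R] b j) = x i := by
    intro i x
    simp only [map_sum, co, LinearMap.comp_apply, LinearEquiv.coe_coe, LinearMap.lTensor_tmul,
      TensorProduct.rid_tmul, Module.Basis.coord_apply, Module.Basis.repr_self, Finsupp.single_apply]
    simp
  let E : T ≃ₗ[C] (ι → C) :=
    { toFun := fun g i => toConv (co i ∘ₗ g.ofConv)
      map_add' := fun f g => funext fun i => WithConv.ofConv_injective (LinearMap.comp_add _ _ _)
      map_smul' := fun f g => funext fun i => WithConv.ofConv_injective (LinearMap.ext fun a => by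
        show co i ((structureHom f * g).ofConv a) = (f * toConv (co i ∘ₗ g.ofConv)).ofConv a
        rw [structureHom_mul_apply, LinearMap.convMul_def]
        simp only [ofConv_toConv, LinearMap.comp_apply]
        induction Coalgebra.comul (R := R) a using TensorProduct.induction_on with
        | zero => simp
        | add p q hp hq => simp only [map_add, hp, hq]
        | tmul p q =>
          simp only [TensorProduct.map_tmul, LinearMap.mul'_apply, LinearMap.comp_apply]
          rw [show (structureHom f).ofConv p = f.ofConv p ⊗ₜ[R] (1 : A) from rfl]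
          induction g.ofConv q using TensorProduct.induction_on with
          | zero => simp
          | add r s hr hs => simp only [mul_add, map_add, hr, hs]
          | tmul x y =>
            simp only [co, Algebra.TensorProduct.tmul_mul_tmul, one_mul, LinearMap.comp_apply, LinearEquiv.coe_coe,
              LinearMap.lTensor_tmul, TensorProduct.rid_tmul, mul_smul_comm])
      invFun := fun g => toConv (∑ i, (TensorProduct.mk R A A).flip (b i) ∘ₗ (g i).ofConv)
      left_inv := fun g => WithConv.ofConv_injective (LinearMap.ext fun a => by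
        simp only [ofConv_toConv, LinearMap.sum_apply, LinearMap.comp_apply]
        exact hco _)
      right_inv := fun g => funext fun i => WithConv.ofConv_injective (LinearMap.ext fun a => by
        simp only [ofConv_toConv, LinearMap.sum_apply, LinearMap.comp_apply]
        exact hco2 i fun j => (g j).ofConv a) }
  let bT : Module.Basis ι C T := .ofEquivFun E
  let t : T ≃ₐ[C] T :=
    { toFun := fun g => toConv ((transl (R := R) (A := A)).toLinearMap ∘ₗ g.ofConv)
      invFun := fun g => toConv ((transl (R := R) (A := A)).symm.toLinearMap ∘ₗ g.ofConv)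
      left_inv := fun g => WithConv.ofConv_injective (LinearMap.ext fun a => transl.symm_apply_apply _)
      right_inv := fun g => WithConv.ofConv_injective (LinearMap.ext fun a => transl.apply_symm_apply _)
      map_mul' := fun f g => WithConv.ofConv_injective
        (LinearMap.algHom_comp_convMul_distrib (transl (R := R) (A := A)).toAlgHom f g)
      map_add' := fun f g => WithConv.ofConv_injective (LinearMap.comp_add _ _ _)
      commutes' := fun f => WithConv.ofConv_injective (LinearMap.ext fun a => transl_left (f.ofConv a)) }
  let r : T := toConv (inclR (R := R) (A := A)).ofConv.toLinearMap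
  have hr : t r = algebraMap C T (toConv LinearMap.id) * r := by
    apply WithConv.ofConv_injective
    have h1 : algebraMap C T (toConv LinearMap.id) = toConv (inclL (R := R) (A := A)).ofConv.toLinearMap :=
      WithConv.ofConv_injective (LinearMap.ext fun a => rfl)
    rw [h1, ← AlgHom.toLinearMap_convMul]
    exact LinearMap.ext fun a => transl_right a
  have hu : IsUnit r := by
    refine IsUnit.of_mul_eq_one (toConv (AlgHom.comp (inclR (R := R) (A := A)).ofConv
      (HopfAlgebra.antipodeAlgHom R A)).toLinearMap) ?_
    show toConv (inclR (R := R) (A := A)).ofConv.toLinearMap * _ = 1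
    have h3 := mul_comp_antipode (inclR (R := R) (A := A)).ofConv
    rw [toConv_ofConv] at h3
    have h4 := congrArg (fun w : WithConv (A →ₐ[R] A ⊗[R] A) => toConv w.ofConv.toLinearMap) h3
    simpa [AlgHom.toLinearMap_convMul, AlgHom.toLinearMap_convOne] using h4
  have hn : (toConv LinearMap.id : C) ^ Fintype.card ι = 1 := by
    have h2 := congrArg (Algebra.norm C) hr
    rw [Algebra.norm_eq_of_algEquiv, map_mul, Algebra.norm_algebraMap_of_basis bT] at h2
    exact ((hu.map (Algebra.norm C)).mul_eq_right.1 h2.symm)
  apply WithConv.ofConv_injective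
  apply AlgHom.toLinearMap_injective
  apply WithConv.toConv_injective
  rw [AlgHom.toLinearMap_convPow, AlgHom.toLinearMap_convOne, ofConv_toConv, AlgHom.toLinearMap_id]
  exact hn

end deligne

end Groth.Agent.Lib.OT67

namespace Groth.Agent.Lib.OT67

variable {R : Type u} [CommRing R] {A : Type v} [CommRing A] [HopfAlgebra R A]

/-- Deligne's theorem. -/
theorem pow_id_eq_one_of_rank [Coalgebra.IsCocomm R A] [Module.Finite R A] [Module.Projective R A] (n : ℕ)
    (hn : ∀ q : PrimeSpectrum R, Module.rankAtStalk A q = n) :
    (toConv (AlgHom.id R A)) ^ n = 1 := by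
  refine WithConv.ofConv_injective (AlgHom.ext fun a => eq_of_localized (R := R) fun q _ => ?_)
  let S := Localization.AtPrime q
  haveI : Module.Free S (S ⊗[R] A) := Module.free_of_flat_of_isLocalRing
  have h := pow_id_of_basis (Module.finBasis S (S ⊗[R] A))
  rw [Fintype.card_fin, finrank_baseChange S A n hn] at h
  rw [← pow_id_one_tmul, h]
  show algebraMap S (S ⊗[R] A) (Coalgebra.counit (R := S) ((1 : S) ⊗ₜ[R] a)) =
    (1 : S) ⊗ₜ[R] algebraMap R A (Coalgebra.counit a)
  rw [TensorProduct.counit_tmul, CommSemiring.counit_apply, Algebra.TensorProduct.algebraMap_apply,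
    Algebra.algebraMap_eq_smul_one (R := R), tmul_smul, smul_tmul', Algebra.algebraMap_self, RingHom.id_apply]

end Groth.Agent.Lib.OT67
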