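import Groth.Prelude.Def_SGA3b
import Mathlib

/-!
Flatness of the infinitesimal neighbourhoods of a closed fibre.
-/

open TensorProduct

set_option linter.style.haveILetI false

universe u

namespace Groth.Agent.Lib.OT67.FormalFlat

theorem flat_baseChange {A : Type u} [CommRing A] {I J : Ideal A} {C : Type u} [CommRing C] [Algebra A C]
    (hfl : ∀ (q : Ideal C) [q.IsPrime], Ideal.map (algebraMap A C) I ≤ q → Module.Flat A (Localization.AtPrime q))
    (hIJ : I ≤ J.radical) : Module.Flat (A ⧸ J) ((A ⧸ J) ⊗[A] C) := by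
  let R := A ⧸ J
  let S := R ⊗[A] C
  let π : C →ₐ[A] S := Algebra.TensorProduct.includeRight
  have hπ : Function.Surjective π := TensorProduct.mk_surjective A C R Ideal.Quotient.mk_surjective
  refine Module.flat_of_isLocalized_maximal (R := R) S S (fun P [P.IsMaximal] => Localization.AtPrime P)
    (fun P [P.IsMaximal] => Algebra.linearMap S (Localization.AtPrime P)) fun P _ => ?_
  let q : Ideal C := P.comap π
  haveI : q.IsPrime := Ideal.IsPrime.comap π
  have hq : Ideal.map (algebraMap A C) I ≤ q := by
    refine Ideal.map_le_iff_le_comap.2 (hIJ.trans ?_)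
    haveI : (q.comap (algebraMap A C)).IsPrime := Ideal.IsPrime.comap _
    refine ((Ideal.IsPrime.radical_le_iff this).2 fun a ha => ?_)
    show π (algebraMap A C a) ∈ P
    rw [AlgHom.commutes, IsScalarTower.algebraMap_apply A R S, Ideal.Quotient.algebraMap_eq,
      Ideal.Quotient.eq_zero_iff_mem.2 ha, map_zero]
    exact zero_mem _
  haveI := hfl q hq
  let L := Localization.AtPrime q
  let ρ : S →ₐ[R] R ⊗[A] L := Algebra.TensorProduct.map (AlgHom.id R R) (IsScalarTower.toAlgHom A C L)
  have hu : ∀ y : P.primeCompl, IsUnit (ρ y) := fun y => by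
    obtain ⟨c, hc⟩ := hπ y
    have h1 : IsUnit (algebraMap C L c) :=
      IsLocalization.map_units L (⟨c, fun h => y.2 (by rw [← hc]; exact h)⟩ : q.primeCompl)
    have h2 := h1.map (Algebra.TensorProduct.includeRight : L →ₐ[A] R ⊗[A] L)
    rw [← hc]
    exact h2
  let a : Localization.AtPrime P →ₐ[R] R ⊗[A] L := IsLocalization.liftAlgHom (M := P.primeCompl) hu
  have hb : ∀ y : q.primeCompl, IsUnit (((IsScalarTower.toAlgHom A S (Localization.AtPrime P)).comp π) y) := fun y =>
    IsLocalization.map_units (Localization.AtPrime P) (⟨π y, y.2⟩ : P.primeCompl)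
  let b₀ : L →ₐ[A] Localization.AtPrime P := IsLocalization.liftAlgHom (M := q.primeCompl) hb
  let b : R ⊗[A] L →ₐ[R] Localization.AtPrime P := AlgHom.liftEquiv A R L (Localization.AtPrime P) b₀
  have hba : b.comp a = AlgHom.id R _ := by
    refine IsLocalization.algHom_ext P.primeCompl (Algebra.TensorProduct.ext (Subsingleton.elim _ _) (AlgHom.ext fun c => ?_))
    show b (a (algebraMap S _ ((1 : R) ⊗ₜ[A] c))) = algebraMap S (Localization.AtPrime P) ((1 : R) ⊗ₜ[A] c)
    simp only [a, IsLocalization.liftAlgHom_apply, IsLocalization.lift_eq]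
    show b ((1 : R) ⊗ₜ[A] algebraMap C L c) = _
    simp only [b, AlgHom.liftEquiv_tmul, one_smul, b₀, IsLocalization.liftAlgHom_apply, IsLocalization.lift_eq]
    rfl
  have hab : a.comp b = AlgHom.id R _ := by
    refine Algebra.TensorProduct.ext (Subsingleton.elim _ _)
      (IsLocalization.algHom_ext q.primeCompl (AlgHom.ext fun c => ?_))
    show a (b ((1 : R) ⊗ₜ[A] algebraMap C L c)) = (1 : R) ⊗ₜ[A] algebraMap C L c
    simp only [b, AlgHom.liftEquiv_tmul, one_smul, b₀, IsLocalization.liftAlgHom_apply, IsLocalization.lift_eq]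
    show a (algebraMap S (Localization.AtPrime P) (π c)) = _
    simp only [a, IsLocalization.liftAlgHom_apply, IsLocalization.lift_eq]
    rfl
  exact Module.Flat.of_linearEquiv (AlgEquiv.ofAlgHom a b hab hba).toLinearEquiv

end Groth.Agent.Lib.OT67.FormalFlat
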