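import Groth.Agent.Lib.OT67.Averaging
import Groth.Agent.H83.MultType.BaseChange
import Groth.Agent.H83.MultType.Quot
import Groth.Agent.S5241
import Mathlib

/-!
Homomorphisms between groups of multiplicative type lift along nilpotent ideals.
-/

open TensorProduct

set_option linter.style.haveILetI false

universe u

namespace Groth.Agent.Lib.OT67.MultLift

noncomputable section

open Groth.Agent.H83.MultType HomMod

variable {R : Type u} [CommRing R] {B : Type u} [CommRing B] [HopfAlgebra R B] {C : Type u} [CommRing C] [HopfAlgebra R C]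

/-- A group of multiplicative type is commutative. -/
theorem isCocomm (h : SGA3b.IsMultType R C) : Coalgebra.IsCocomm R C := by
  obtain ⟨s, hs, hc⟩ := MultFinite.exists_charts h
  let c : ∀ f ∈ s, MultFinite.Chart R C f := fun f hf => (hc f hf).some
  refine ⟨LinearMap.ext fun a => ?_⟩
  rw [← sub_eq_zero]
  refine MultFinite.eq_zero_of_charts hs c fun f hf => ?_
  haveI : Coalgebra.IsCocomm (c f hf).S ((c f hf).S ⊗[R] C) := (c f hf).isCocomm
  let Φ := TensorProduct.AlgebraTensorModule.distribBaseChange R (c f hf).S C C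
  apply Φ.injective
  rw [map_zero, TensorProduct.tmul_sub, map_sub, sub_eq_zero]
  have h1 : ∀ z : C ⊗[R] C, Φ ((1 : (c f hf).S) ⊗ₜ (TensorProduct.comm R C C z)) =
      TensorProduct.comm (c f hf).S _ _ (Φ ((1 : (c f hf).S) ⊗ₜ z)) := fun z => by
    induction z using TensorProduct.induction_on with
    | zero => simp
    | tmul p q => simp [Φ]
    | add p q hp hq => simp only [_root_.map_add, TensorProduct.tmul_add, hp, hq]
  show Φ ((1 : (c f hf).S) ⊗ₜ (TensorProduct.comm R C C (CoalgebraStruct.comul a))) = Φ (_ ⊗ₜ CoalgebraStruct.comul a)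
  rw [h1, ← HomMod.comul_one_tmul, Coalgebra.comm_comul]

/-- Lifting when the target group is split. -/
theorem exists_lift_split (hB : SGA3b.IsMultType R B) {M : Type u} [CommGroup M] (e : C ≃ₐc[R] MonoidAlgebra R M)
    {K : Ideal R} (hK : ∀ r ∈ K, IsNilpotent r) {f : C → B} (hf : IsHomMod K f) :
    ∃ φ : C →ₐc[R] B, ∀ c, φ c - f c ∈ (K • ⊤ : Submodule R B) := by
  classical
  let g : M → C := fun m => e.symm (MonoidAlgebra.single m 1)
  have hsingle : ∀ m : M, IsGroupLikeElem R (MonoidAlgebra.single m (1 : R)) := fun m => ⟨by simp, by simp⟩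
  have hg : ∀ m, IsGroupLikeElem R (g m) := fun m => (hsingle m).map e.symm
  have hgl : ∀ m, ∃ y : B, IsGroupLikeElem R y ∧ y - f (g m) ∈ (K • ⊤ : Submodule R B) := fun m => by
    refine exists_groupLike hB K hK ?_ ?_
    · have h := hf.comul (g m) {(g m, g m)} (by rw [Finset.sum_singleton]; exact (hg m).comul_eq_tmul_self)
      rwa [Finset.sum_singleton] at h
    · have h := hf.counit (g m)
      rwa [(hg m).counit_eq_one] at h
  choose y hy hy' using hgl
  have hy1 : y 1 = 1 := by
    refine groupLike_eq_of_sub_mem hB K hK (hy 1) IsGroupLikeElem.one ?_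
    have hg1 : g 1 = 1 := by
      show e.symm (MonoidAlgebra.single (1 : M) (1 : R)) = 1
      rw [← MonoidAlgebra.one_def, _root_.map_one]
    have h := hy' 1
    rw [hg1] at h
    have := add_mem h hf.map_one
    rwa [sub_add_sub_cancel] at this
  have hym : ∀ m l, y (m * l) = y m * y l := fun m l => by
    refine groupLike_eq_of_sub_mem hB K hK (hy _) ((hy m).mul (hy l)) ?_
    have hgm : g (m * l) = g m * g l := by
      simp only [g]
      rw [← _root_.map_mul, MonoidAlgebra.single_mul_single, one_mul]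
    have h1 := hy' (m * l)
    rw [hgm] at h1
    have h2 := hf.map_mul (g m) (g l)
    have h3 : f (g m) * f (g l) - y m * y l ∈ (K • ⊤ : Submodule R B) := by
      rw [show f (g m) * f (g l) - y m * y l =
        LinearMap.mulLeft R (f (g m)) (f (g l) - y l) + LinearMap.mulLeft R (y l) (f (g m) - y m) by
        simp only [LinearMap.mulLeft_apply]; ring]
      refine add_mem (map_mem_of_mem_smul _ ?_) (map_mem_of_mem_smul _ ?_) <;> rw [← neg_sub] <;>
        exact neg_mem (hy' _)
    have := add_mem (add_mem h1 h2) h3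
    rwa [sub_add_sub_cancel, sub_add_sub_cancel] at this
  let Y : M →* B := ⟨⟨y, hy1⟩, hym⟩
  let L : MonoidAlgebra R M →ₐ[R] B := MonoidAlgebra.lift R B M Y
  have hL : ∀ m r, L (MonoidAlgebra.single m r) = r • y m := fun m r => MonoidAlgebra.lift_single _ _ _
  let Lc : MonoidAlgebra R M →ₐc[R] B := BialgHom.ofAlgHom L
    (MonoidAlgebra.algHom_ext (fun m => by
      show CoalgebraStruct.counit (R := R) (L (MonoidAlgebra.single m 1)) = CoalgebraStruct.counit (R := R) (MonoidAlgebra.single m (1 : R))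
      rw [hL, one_smul, (hy m).counit_eq_one, (hsingle m).counit_eq_one]) (Subsingleton.elim _ _))
    (MonoidAlgebra.algHom_ext (fun m => by
      show Algebra.TensorProduct.map L L (CoalgebraStruct.comul (R := R) (MonoidAlgebra.single m (1 : R))) =
        CoalgebraStruct.comul (R := R) (L (MonoidAlgebra.single m 1))
      rw [(hsingle m).comul_eq_tmul_self, Algebra.TensorProduct.map_tmul, hL, one_smul, (hy m).comul_eq_tmul_self]) (Subsingleton.elim _ _))
  refine ⟨Lc.comp (e : C →ₐc[R] MonoidAlgebra R M), fun c => ?_⟩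
  show L (e c) - f c ∈ _
  obtain ⟨z, rfl⟩ := EquivLike.surjective e.symm c
  rw [show e (e.symm z) = z from e.toAlgEquiv.apply_symm_apply z]
  induction z using MonoidAlgebra.induction_linear with
  | zero =>
    have h := hf.map_smul 0 0
    rw [zero_smul, zero_smul] at h
    rw [_root_.map_zero, _root_.map_zero, zero_sub]
    simpa using h
  | add p q hp hq =>
    rw [_root_.map_add, _root_.map_add]
    have := sub_mem (add_mem hp hq) (hf.map_add (e.symm p) (e.symm q))
    convert this using 1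
    abel
  | single m r =>
    have hr : e.symm (MonoidAlgebra.single m r) = r • g m := by
      simp only [g]
      rw [← _root_.map_smul, MonoidAlgebra.smul_single, smul_eq_mul, mul_one]
    rw [hr, hL]
    have h := sub_mem (Submodule.smul_mem _ r (hy' m)) (hf.map_smul r (g m))
    rwa [smul_sub, sub_sub_sub_cancel_right] at h

/-- Base change of a homomorphism modulo `K`. -/
theorem exists_homMod_baseChange {K : Ideal R} {f : C → B} (hf : IsHomMod K f) (S : Type u) [CommRing S] [Algebra R S] :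
    ∃ F : S ⊗[R] C → S ⊗[R] B, IsHomMod (K.map (algebraMap R S)) F ∧
      ∀ c, F ((1 : S) ⊗ₜ c) - (1 : S) ⊗ₜ f c ∈ (K.map (algebraMap R S) • ⊤ : Submodule S (S ⊗[R] B)) := by
  let KS := K.map (algebraMap R S)
  let R' := S ⧸ KS
  have hJR : ∀ a ∈ K, algebraMap R R' a = 0 := fun a ha => by
    rw [IsScalarTower.algebraMap_apply R S R', Ideal.Quotient.algebraMap_eq, Ideal.Quotient.eq_zero_iff_mem]
    exact Ideal.mem_map_of_mem _ ha
  obtain ⟨ψ, hψ⟩ := HomMod.exists_bialgHom hf R' hJR
  obtain ⟨TC, hTC⟩ := exists_towerEquiv R S R' C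
  obtain ⟨TB, hTB⟩ := exists_towerEquiv R S R' B
  let φ' : (R' ⊗[S] (S ⊗[R] C)) →ₐc[R'] (R' ⊗[S] (S ⊗[R] B)) :=
    (TB : R' ⊗[R] B →ₐc[R'] R' ⊗[S] (S ⊗[R] B)).comp (ψ.comp (TC.symm : R' ⊗[S] (S ⊗[R] C) →ₐc[R'] R' ⊗[R] C))
  have hsur : ∀ x : R' ⊗[S] (S ⊗[R] B), ∃ y, (1 : R') ⊗ₜ[S] y = x := fun x =>
    TensorProduct.mk_surjective S (S ⊗[R] B) R' Ideal.Quotient.mk_surjective x
  choose F hF using fun x : S ⊗[R] C => hsur (φ' ((1 : R') ⊗ₜ[S] x))
  refine ⟨F, isHomMod_of_bialgHom φ' F hF, fun c => ?_⟩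
  rw [← one_tmul_eq_zero_iff, TensorProduct.tmul_sub, sub_eq_zero, hF]
  show TB (ψ (TC.symm ((1 : R') ⊗ₜ[S] ((1 : S) ⊗ₜ[R] c)))) = _
  rw [← hTC, show TC.symm (TC ((1 : R') ⊗ₜ[R] c)) = (1 : R') ⊗ₜ[R] c from TC.toAlgEquiv.symm_apply_apply _, hψ, hTB]

/-- A bialgebra homomorphism after base change, pushed to a further base. -/
theorem exists_push {S W : Type u} [CommRing S] [Algebra R S] [CommRing W] [Algebra R W] (θ : S →ₐ[R] W)
    (ψ : (S ⊗[R] C) →ₐc[S] (S ⊗[R] B)) :
    ∃ Ψ : (W ⊗[R] C) →ₐc[W] (W ⊗[R] B), ∀ c, Ψ ((1 : W) ⊗ₜ c) =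
      LinearMap.rTensor B θ.toLinearMap (ψ ((1 : S) ⊗ₜ c)) := by
  letI : Algebra S W := θ.toRingHom.toAlgebra
  haveI : IsScalarTower R S W := IsScalarTower.of_algebraMap_eq fun r => (θ.commutes r).symm
  obtain ⟨TC, hTC⟩ := exists_towerEquiv R S W C
  obtain ⟨TB, hTB⟩ := exists_towerEquiv R S W B
  let Ψ : (W ⊗[R] C) →ₐc[W] (W ⊗[R] B) := (TB.symm : W ⊗[S] (S ⊗[R] B) →ₐc[W] W ⊗[R] B).comp
    ((Bialgebra.TensorProduct.map (BialgHom.id W W) ψ).comp (TC : W ⊗[R] C →ₐc[W] W ⊗[S] (S ⊗[R] C)))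
  refine ⟨Ψ, fun c => ?_⟩
  show TB.symm (Bialgebra.TensorProduct.map (BialgHom.id W W) ψ (TC ((1 : W) ⊗ₜ c))) = _
  rw [hTC, Bialgebra.TensorProduct.map_tmul]
  have key : ∀ z : S ⊗[R] B, TB (LinearMap.rTensor B θ.toLinearMap z) = (1 : W) ⊗ₜ[S] z := fun z => by
    induction z using TensorProduct.induction_on with
    | zero => simp
    | tmul s b =>
      rw [LinearMap.rTensor_tmul, hTB]
      show θ s ⊗ₜ[S] ((1 : S) ⊗ₜ[R] b) = _
      rw [show θ s = s • (1 : W) from (mul_one (θ s)).symm, TensorProduct.smul_tmul, TensorProduct.smul_tmul', smul_eq_mul, mul_one]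
    | add p q hp hq => simp only [_root_.map_add, TensorProduct.tmul_add, hp, hq]
  show TB.symm ((1 : W) ⊗ₜ[S] ψ ((1 : S) ⊗ₜ[R] c)) = _
  rw [← key]
  exact TB.toAlgEquiv.symm_apply_apply _

set_option synthInstance.maxHeartbeats 200000 in
set_option maxHeartbeats 2000000 in
/-- **Homomorphisms between groups of multiplicative type lift along nilpotent ideals.** -/
theorem exists_lift (hB : SGA3b.IsMultType R B) (hC : SGA3b.IsMultType R C) {K : Ideal R} (hK : IsNilpotent K)
    {f : C → B} (hf : IsHomMod K f) : ∃ φ : C →ₐc[R] B, ∀ c, φ c - f c ∈ (K • ⊤ : Submodule R B) := by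
  classical
  haveI : Coalgebra.IsCocomm R C := isCocomm hC
  obtain ⟨s, hs, hc⟩ := MultFinite.exists_charts hC
  obtain ⟨t, hts, ht⟩ := (Ideal.span_eq_top_iff_finite s).1 hs
  let c : ∀ g : R, g ∈ (t : Set R) → MultFinite.Chart R C g := fun g hg => (hc g (hts hg)).some
  have hKn : ∀ (S : Type u) [CommRing S] [Algebra R S], ∀ r ∈ K.map (algebraMap R S), IsNilpotent r :=
    fun S _ _ r hr => by
      obtain ⟨n, hn⟩ := hK
      refine ⟨n, ?_⟩
      have := Ideal.pow_mem_pow hr n
      rwa [← Ideal.map_pow, hn, show (0 : Ideal R) = ⊥ from rfl, Ideal.map_bot, Submodule.mem_bot] at this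
  have hloc : ∀ g : t, ∃ ψ : ((c g.1 g.2).S ⊗[R] C) →ₐc[(c g.1 g.2).S] ((c g.1 g.2).S ⊗[R] B),
      ∀ a, ψ ((1 : (c g.1 g.2).S) ⊗ₜ a) - 1 ⊗ₜ f a ∈
        (K.map (algebraMap R (c g.1 g.2).S) • ⊤ : Submodule (c g.1 g.2).S ((c g.1 g.2).S ⊗[R] B)) := fun g => by
    obtain ⟨F, hF, hF'⟩ := exists_homMod_baseChange hf (c g.1 g.2).S
    obtain ⟨ψ, hψ⟩ := exists_lift_split (isMultType_baseChange _ hB) (c g.1 g.2).equiv (hKn _) hF
    exact ⟨ψ, fun a => by have := add_mem (hψ ((1 : (c g.1 g.2).S) ⊗ₜ a)) (hF' a); rwa [sub_add_sub_cancel] at this⟩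
  choose ψ hψ using hloc
  let T := ∀ g : t, (c g.1 g.2).S
  let pr : ∀ g : t, T →ₐ[R] (c g.1 g.2).S := fun g => Pi.evalAlgHom R _ g
  let Θ : ∀ (N : Type u) [AddCommGroup N] [Module R N], T ⊗[R] N ≃ₗ[R] ∀ g : t, (c g.1 g.2).S ⊗[R] N := fun N _ _ =>
    TensorProduct.comm R T N ≪≫ₗ TensorProduct.piRight R R N (fun g : t => (c g.1 g.2).S) ≪≫ₗ
      LinearEquiv.piCongrRight fun g => TensorProduct.comm R N (c g.1 g.2).S
  have hΘ : ∀ (N : Type u) [AddCommGroup N] [Module R N] (z : T ⊗[R] N) (g : t),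
      Θ N z g = LinearMap.rTensor N (pr g).toLinearMap z := fun N _ _ z g => by
    induction z using TensorProduct.induction_on with
    | zero => simp
    | tmul p q => simp [Θ, pr]; rfl
    | add p q hp hq => simp only [_root_.map_add, Pi.add_apply, hp, hq]
  have hdet : ∀ (N : Type u) [AddCommGroup N] [Module R N] (x : N), (1 : T) ⊗ₜ[R] x = 0 → x = 0 := fun N _ _ x hx => by
    refine MultFinite.eq_zero_of_charts ht c fun g hg => ?_
    have := congrArg (LinearMap.rTensor N (pr ⟨g, hg⟩).toLinearMap) hx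
    rw [LinearMap.rTensor_tmul, _root_.map_zero] at this
    exact this
  let X : C → T ⊗[R] B := fun a => (Θ B).symm fun g => ψ g ((1 : (c g.1 g.2).S) ⊗ₜ a)
  have hX : ∀ a g, LinearMap.rTensor B (pr g).toLinearMap (X a) = ψ g ((1 : (c g.1 g.2).S) ⊗ₜ a) := fun a g => by
    rw [← hΘ, LinearEquiv.apply_symm_apply]
  -- the local solutions agree on overlaps
  have hglue : ∀ a, LinearMap.lTensor T (TensorProduct.mk R T B 1) (X a) = (1 : T) ⊗ₜ[R] X a := by
    intro a
    apply (Θ (T ⊗[R] B)).injective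
    funext g
    rw [hΘ, hΘ, ← LinearMap.comp_apply (LinearMap.rTensor (T ⊗[R] B) _), LinearMap.rTensor_comp_lTensor,
      ← LinearMap.lTensor_comp_rTensor, LinearMap.comp_apply, hX, LinearMap.rTensor_tmul]
    apply ((Θ B).lTensor ((c g.1 g.2).S) ≪≫ₗ TensorProduct.piRight R R (c g.1 g.2).S _).injective
    funext h
    let W := (c g.1 g.2).S ⊗[R] (c h.1 h.2).S
    obtain ⟨Ψ₁, hΨ₁⟩ := exists_push (W := W) Algebra.TensorProduct.includeLeft (ψ g)
    obtain ⟨Ψ₂, hΨ₂⟩ := exists_push (W := W) Algebra.TensorProduct.includeRight (ψ h)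
    have hKW : IsNilpotent (K.map (algebraMap R W)) := hK.map (Ideal.mapHom (algebraMap R W))
    have hcong : ∀ {S : Type u} [CommRing S] [Algebra R S] (θ : S →ₐ[R] W) (z : S ⊗[R] B) (b : B),
        z - (1 : S) ⊗ₜ b ∈ (K.map (algebraMap R S) • ⊤ : Submodule S (S ⊗[R] B)) →
        (1 : W ⧸ K.map (algebraMap R W)) ⊗ₜ[W] LinearMap.rTensor B θ.toLinearMap z =
          (1 : W ⧸ K.map (algebraMap R W)) ⊗ₜ[W] ((1 : W) ⊗ₜ b) := by
      intro S _ _ θ z b hz
      rw [← sub_eq_zero, ← TensorProduct.tmul_sub, one_tmul_eq_zero_iff,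
        show ((1 : W) ⊗ₜ[R] b) = LinearMap.rTensor B θ.toLinearMap ((1 : S) ⊗ₜ b) by simp, ← _root_.map_sub]
      refine Submodule.smul_induction_on hz (fun r hr y hy => ?_) fun p q hp hq => by rw [_root_.map_add]; exact add_mem hp hq
      have hrw : θ r ∈ K.map (algebraMap R W) := by
        have := Ideal.mem_map_of_mem θ.toRingHom hr
        rwa [Ideal.map_map, show θ.toRingHom.comp (algebraMap R S) = algebraMap R W from θ.comp_algebraMap] at this
      rw [show LinearMap.rTensor B θ.toLinearMap (r • y) = θ r • LinearMap.rTensor B θ.toLinearMap y from ?_]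
      · exact Submodule.smul_mem_smul hrw Submodule.mem_top
      clear hy
      induction y using TensorProduct.induction_on with
      | zero => simp
      | tmul p q => simp [TensorProduct.smul_tmul']
      | add p q hp hq =>
        rw [smul_add, _root_.map_add, _root_.map_add, smul_add, hp, hq]
    have heq : Ψ₁ = Ψ₂ := by
      refine Groth.Agent.S5241.result W (K.map (algebraMap R W)) hKW (W ⊗[R] B) (isMultType_baseChange _ hB)
        (W ⊗[R] C) Ψ₁ Ψ₂ fun x => ?_
      induction x using TensorProduct.induction_on with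
      | zero => simp
      | tmul w a =>
        rw [show w ⊗ₜ[R] a = w • ((1 : W) ⊗ₜ[R] a) by rw [TensorProduct.smul_tmul', smul_eq_mul, mul_one],
          _root_.map_smul, _root_.map_smul, TensorProduct.tmul_smul, TensorProduct.tmul_smul, hΨ₁, hΨ₂,
          hcong _ _ _ (hψ g a), hcong _ _ _ (hψ h a)]
      | add p q hp hq => rw [_root_.map_add, _root_.map_add, TensorProduct.tmul_add, TensorProduct.tmul_add, hp, hq]
    let α : W ⊗[R] B ≃ₗ[R] (c g.1 g.2).S ⊗[R] ((c h.1 h.2).S ⊗[R] B) := TensorProduct.assoc R _ _ _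
    have h1 : ∀ z : (c g.1 g.2).S ⊗[R] B, α (LinearMap.rTensor B
        (Algebra.TensorProduct.includeLeft (R := R) (S := R) (B := (c h.1 h.2).S)).toLinearMap z) =
        ((Θ B).lTensor ((c g.1 g.2).S) ≪≫ₗ TensorProduct.piRight R R (c g.1 g.2).S _)
          (LinearMap.lTensor _ (TensorProduct.mk R T B 1) z) h := fun z => by
      induction z using TensorProduct.induction_on with
      | zero => simp
      | tmul p q => simp [α, hΘ, pr]; rfl
      | add p q hp hq => simp only [_root_.map_add, Pi.add_apply, hp, hq]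
    have h2 : ∀ w : T ⊗[R] B, α (LinearMap.rTensor B
        (Algebra.TensorProduct.includeRight (R := R) (A := (c g.1 g.2).S)).toLinearMap
          (LinearMap.rTensor B (pr h).toLinearMap w)) =
        ((Θ B).lTensor ((c g.1 g.2).S) ≪≫ₗ TensorProduct.piRight R R (c g.1 g.2).S _)
          ((pr g).toLinearMap 1 ⊗ₜ[R] w) h := fun w => by
      induction w using TensorProduct.induction_on with
      | zero => simp
      | tmul p q => simp [α, hΘ, pr]; rfl
      | add p q hp hq => simp only [_root_.map_add, TensorProduct.tmul_add, Pi.add_apply, hp, hq]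
    rw [← h1, ← h2, hX, ← hΨ₁, ← hΨ₂, heq]
  -- descent
  have hmem : ∀ a, ∃ b, (1 : T) ⊗ₜ[R] b = X a := fun a => by
    suffices h : X a ∈ LinearMap.range (TensorProduct.mk R T B 1) from h
    rw [← Submodule.Quotient.mk_eq_zero]
    refine hdet _ _ ?_
    have h := congrArg (LinearMap.lTensor T (LinearMap.range (TensorProduct.mk R T B 1)).mkQ) (hglue a)
    rw [← LinearMap.lTensor_comp_apply, LinearMap.range_mkQ_comp, LinearMap.lTensor_zero, LinearMap.zero_apply,
      LinearMap.lTensor_tmul] at h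
    exact h.symm
  choose φ hφ using hmem
  have hφψ : ∀ g (hg : g ∈ (t : Set R)) a, (1 : (c g hg).S) ⊗ₜ[R] φ a = ψ ⟨g, hg⟩ ((1 : (c g hg).S) ⊗ₜ a) := fun g hg a => by
    rw [← hX, ← hφ, LinearMap.rTensor_tmul]
    rfl
  have hz : ∀ {N : Type u} [AddCommGroup N] [Module R N] {x : N},
      (∀ g (hg : g ∈ (t : Set R)), (1 : (c g hg).S) ⊗ₜ[R] x = 0) → x = 0 :=
    fun hx => MultFinite.eq_zero_of_charts ht c hx
  let L : C →ₐ[R] B := AlgHom.ofLinearMap
    { toFun := φ
      map_add' := fun a b => sub_eq_zero.1 (hz fun g hg => by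
        rw [TensorProduct.tmul_sub, TensorProduct.tmul_add, hφψ g hg, hφψ g hg, hφψ g hg, TensorProduct.tmul_add, _root_.map_add, sub_self])
      map_smul' := fun r a => sub_eq_zero.1 (hz fun g hg => by
        rw [RingHom.id_apply, TensorProduct.tmul_sub, TensorProduct.tmul_smul, hφψ g hg, hφψ g hg, TensorProduct.tmul_smul,
          ← IsScalarTower.algebraMap_smul (c g hg).S r, _root_.map_smul, IsScalarTower.algebraMap_smul, sub_self]) }
    (sub_eq_zero.1 (hz fun g hg => by
      show (1 : (c g hg).S) ⊗ₜ[R] (φ 1 - 1) = 0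
      rw [TensorProduct.tmul_sub, hφψ g hg, ← Algebra.TensorProduct.one_def, _root_.map_one, ← Algebra.TensorProduct.one_def, sub_self]))
    (fun a b => sub_eq_zero.1 (hz fun g hg => by
      show (1 : (c g hg).S) ⊗ₜ[R] (φ (a * b) - φ a * φ b) = 0
      have h1 : ∀ x y : B, (1 : (c g hg).S) ⊗ₜ[R] (x * y) = ((1 : (c g hg).S) ⊗ₜ[R] x) * ((1 : (c g hg).S) ⊗ₜ[R] y) :=
        fun x y => by rw [Algebra.TensorProduct.tmul_mul_tmul, one_mul]
      rw [TensorProduct.tmul_sub, h1, hφψ g hg, hφψ g hg, hφψ g hg, ← _root_.map_mul, Algebra.TensorProduct.tmul_mul_tmul, one_mul, sub_self]))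
  refine ⟨BialgHom.ofAlgHom L (AlgHom.ext fun a => sub_eq_zero.1 (hz fun g hg => ?_)) (AlgHom.ext fun a => ?_), fun a => ?_⟩
  · show (1 : (c g hg).S) ⊗ₜ[R] (CoalgebraStruct.counit (R := R) (φ a) - CoalgebraStruct.counit (R := R) a) = 0
    apply (TensorProduct.rid R (c g hg).S).injective
    rw [TensorProduct.tmul_sub, _root_.map_sub, _root_.map_zero, TensorProduct.rid_tmul, TensorProduct.rid_tmul, sub_eq_zero]
    have h := CoalgHomClass.counit_comp_apply (ψ ⟨g, hg⟩) ((1 : (c g hg).S) ⊗ₜ[R] a)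
    rw [← hφψ g hg, TensorProduct.counit_tmul, TensorProduct.counit_tmul, CommSemiring.counit_apply] at h
    exact h
  · obtain ⟨σ, hσ⟩ := TensorProduct.exists_finset (CoalgebraStruct.comul (R := R) a)
    show Algebra.TensorProduct.map L L (CoalgebraStruct.comul (R := R) a) = CoalgebraStruct.comul (R := R) (φ a)
    refine sub_eq_zero.1 (hz fun g hg => ?_)
    apply (AlgebraTensorModule.distribBaseChange R (c g hg).S B B).injective
    rw [_root_.map_zero, TensorProduct.tmul_sub, _root_.map_sub, sub_eq_zero, ← HomMod.comul_one_tmul, hφψ g hg,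
      ← CoalgHomClass.map_comp_comul_apply (ψ ⟨g, hg⟩), HomMod.comul_one_tmul, hσ, TensorProduct.tmul_sum,
      _root_.map_sum, _root_.map_sum, _root_.map_sum, TensorProduct.tmul_sum, _root_.map_sum]
    refine Finset.sum_congr rfl fun i _ => ?_
    rw [Algebra.TensorProduct.map_tmul, AlgebraTensorModule.distribBaseChange_tmul, AlgebraTensorModule.distribBaseChange_tmul,
      TensorProduct.map_tmul]
    exact congrArg₂ (· ⊗ₜ[(c g hg).S] ·) (hφψ g hg i.1) (hφψ g hg i.2)
  · show φ a - f a ∈ _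
    rw [← Submodule.Quotient.mk_eq_zero]
    refine hz fun g hg => ?_
    show LinearMap.lTensor (c g hg).S (K • (⊤ : Submodule R B)).mkQ ((1 : (c g hg).S) ⊗ₜ (φ a - f a)) = 0
    rw [TensorProduct.tmul_sub, hφψ g hg]
    refine Submodule.smul_induction_on
      (p := fun x => LinearMap.lTensor (c g hg).S (K • (⊤ : Submodule R B)).mkQ x = 0) (hψ ⟨g, hg⟩ a) (fun r hr y hy => ?_)
      fun p q hp hq => by rw [_root_.map_add, hp, hq, add_zero]
    clear hy
    induction hr using Submodule.span_induction generalizing y with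
    | mem x hx =>
      obtain ⟨k, hk, rfl⟩ := hx
      induction y using TensorProduct.induction_on with
      | zero => simp
      | tmul p q =>
        rw [IsScalarTower.algebraMap_smul, ← TensorProduct.tmul_smul, LinearMap.lTensor_tmul, Submodule.mkQ_apply,
          (Submodule.Quotient.mk_eq_zero _).2 (Submodule.smul_mem_smul hk Submodule.mem_top), TensorProduct.tmul_zero]
      | add p q hp hq => rw [smul_add, _root_.map_add, hp, hq, add_zero]
    | zero => simp
    | add x x' _ _ hx hx' => rw [add_smul, _root_.map_add, hx, hx', add_zero]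
    | smul s x _ hx => rw [smul_eq_mul, mul_comm, mul_smul]; exact hx _

end

end Groth.Agent.Lib.OT67.MultLift
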