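import Groth.Agent.Lib.OT67.FormalLift
import Groth.Agent.Lib.OT67.FormalFlat
import Groth.Agent.Lib.OT67.MultLift
import Groth.Agent.Lib.OT67.QuasiIso
import Groth.Agent.S2987
import Groth.Agent.S5241
import Groth.Agent.S5270
import Groth.Prelude.Def_SGA3b
import Mathlib

/-!
Homomorphisms from an isotrivial group to a formally quasi-isotrivial group.
-/

open TensorProduct

set_option linter.style.haveILetI false

universe u

namespace Groth.Agent.Lib.OT67.FormalMult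

open Groth.Agent.H83.MultType HomMod

variable {A : Type u} [CommRing A] {I : Ideal A} {C : Type u} [CommRing C] [HopfAlgebra A C]

/-- The infinitesimal neighbourhoods of a quasi-isotrivial fibre are quasi-isotrivial. -/
theorem isQuasiIsotrivial_red
    (hfl : ∀ (q : Ideal C) [q.IsPrime], Ideal.map (algebraMap A C) I ≤ q → Module.Flat A (Localization.AtPrime q))
    (h0 : SGA3b.IsQuasiIsotrivial (A ⧸ I) ((A ⧸ I) ⊗[A] C)) (n : ℕ) :
    SGA3b.IsQuasiIsotrivial (A ⧸ I ^ (n + 1)) ((A ⧸ I ^ (n + 1)) ⊗[A] C) := by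
  let J := I ^ (n + 1)
  let R := A ⧸ J
  let K : Ideal R := I.map (Ideal.Quotient.mk J)
  haveI : Module.Flat R (R ⊗[A] C) :=
    FormalFlat.flat_baseChange hfl fun a ha => ⟨n + 1, Ideal.pow_mem_pow ha _⟩
  have hK : IsNilpotent K := ⟨n + 1, by rw [← Ideal.map_pow]; exact Ideal.map_quotient_self _⟩
  letI : Algebra (A ⧸ I) (R ⧸ K) :=
    (Ideal.Quotient.lift I ((Ideal.Quotient.mk K).comp (Ideal.Quotient.mk J)) fun a ha =>
      Ideal.Quotient.eq_zero_iff_mem.2 (Ideal.mem_map_of_mem _ ha)).toAlgebra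
  haveI : IsScalarTower A (A ⧸ I) (R ⧸ K) := IsScalarTower.of_algebraMap_eq fun _ => rfl
  obtain ⟨T₁, -⟩ := exists_towerEquiv A (A ⧸ I) (R ⧸ K) C
  obtain ⟨T₂, -⟩ := exists_towerEquiv A R (R ⧸ K) C
  exact Groth.Agent.S2987.result R (R ⊗[A] C) K hK
    (QuasiIso.of_equiv (T₁.symm.trans T₂) (QuasiIso.isQuasiIsotrivial_baseChange (R ⧸ K) h0))

variable [IsNoetherianRing A] [IsAdicComplete I A] {B : Type u} [CommRing B] [HopfAlgebra A B]

theorem isMultType_of_isotrivial (h : SGA3b.IsIsotrivial A B) : SGA3b.IsMultType A B := by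
  obtain ⟨S, _, _, -, -, hff, hd⟩ := h
  exact isMultType_of_diag (hS := hff) S hd

theorem eq_of_mod (hG : SGA3b.IsIsotrivial A B)
    (hfl : ∀ (q : Ideal C) [q.IsPrime], Ideal.map (algebraMap A C) I ≤ q → Module.Flat A (Localization.AtPrime q))
    (h0 : SGA3b.IsQuasiIsotrivial (A ⧸ I) ((A ⧸ I) ⊗[A] C)) (φ ψ : C →ₐc[A] B)
    (h : ∀ c : C, (1 : A ⧸ I) ⊗ₜ[A] (φ c) = (1 : A ⧸ I) ⊗ₜ[A] (ψ c)) : φ = ψ := by
  refine Groth.Agent.S5270.result A I B hG C φ ψ fun n c => ?_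
  let J := I ^ (n + 1)
  let R := A ⧸ J
  let K : Ideal R := I.map (Ideal.Quotient.mk J)
  have hK : IsNilpotent K := ⟨n + 1, by rw [← Ideal.map_pow]; exact Ideal.map_quotient_self _⟩
  haveI : Coalgebra.IsCocomm R (R ⊗[A] C) :=
    MultLift.isCocomm (QuasiIso.isMultType (isQuasiIsotrivial_red hfl h0 n))
  let Φ : (R ⊗[A] C) →ₐc[R] (R ⊗[A] B) := Bialgebra.TensorProduct.map (BialgHom.id R R) φ
  let Ψ : (R ⊗[A] C) →ₐc[R] (R ⊗[A] B) := Bialgebra.TensorProduct.map (BialgHom.id R R) ψ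
  have heq : Φ = Ψ := by
    refine Groth.Agent.S5241.result R K hK (R ⊗[A] B) (isMultType_baseChange R (isMultType_of_isotrivial hG))
      (R ⊗[A] C) Φ Ψ fun x => ?_
    obtain ⟨T, hT⟩ := exists_towerEquiv A R (R ⧸ K) B
    induction x using TensorProduct.induction_on with
    | zero => simp
    | add p q hp hq => rw [map_add, map_add, TensorProduct.tmul_add, TensorProduct.tmul_add, hp, hq]
    | tmul r c =>
      have hmem : φ c - ψ c ∈ (I • ⊤ : Submodule A B) := by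
        rw [← one_tmul_eq_zero_iff, TensorProduct.tmul_sub, sub_eq_zero]
        exact h c
      have h1 : (1 : R ⧸ K) ⊗ₜ[A] (φ c - ψ c) = 0 := one_tmul_eq_zero (R ⧸ K) (fun a ha => by
        rw [IsScalarTower.algebraMap_apply A R (R ⧸ K), Ideal.Quotient.algebraMap_eq, Ideal.Quotient.eq_zero_iff_mem]
        exact Ideal.mem_map_of_mem _ ha) hmem
      rw [TensorProduct.tmul_sub, sub_eq_zero] at h1
      rw [show r ⊗ₜ[A] c = r • ((1 : R) ⊗ₜ[A] c) by rw [TensorProduct.smul_tmul', smul_eq_mul, mul_one], map_smul, map_smul,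
        TensorProduct.tmul_smul, TensorProduct.tmul_smul, Bialgebra.TensorProduct.map_tmul, Bialgebra.TensorProduct.map_tmul]
      show r • ((1 : R ⧸ K) ⊗ₜ[R] ((1 : R) ⊗ₜ[A] φ c)) = r • ((1 : R ⧸ K) ⊗ₜ[R] ((1 : R) ⊗ₜ[A] ψ c))
      rw [← hT, ← hT, h1]
  exact DFunLike.congr_fun heq ((1 : R) ⊗ₜ c)

theorem exists_lift (hG : SGA3b.IsIsotrivial A B)
    (hfl : ∀ (q : Ideal C) [q.IsPrime], Ideal.map (algebraMap A C) I ≤ q → Module.Flat A (Localization.AtPrime q))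
    (h0 : SGA3b.IsQuasiIsotrivial (A ⧸ I) ((A ⧸ I) ⊗[A] C))
    (φ₀ : ((A ⧸ I) ⊗[A] C) →ₐc[A ⧸ I] ((A ⧸ I) ⊗[A] B)) :
    ∃ φ : C →ₐc[A] B, ∀ c : C, φ₀ ((1 : A ⧸ I) ⊗ₜ[A] c) = (1 : A ⧸ I) ⊗ₜ[A] (φ c) := by
  refine FormalLift.exists_lift hG φ₀ fun n f hf => ?_
  refine FormalLift.exists_next_of (Ideal.pow_le_pow_right (by omega)) (fun F hF => ?_) hf
  refine MultLift.exists_lift (isMultType_baseChange _ (isMultType_of_isotrivial hG))
    (QuasiIso.isMultType (isQuasiIsotrivial_red hfl h0 (n + 1))) ⟨2, ?_⟩ hF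
  rw [← Ideal.map_pow, ← pow_mul]
  exact Ideal.map_eq_bot_iff_le_ker _ |>.2 (by rw [Ideal.mk_ker]; exact Ideal.pow_le_pow_right (by omega))

end Groth.Agent.Lib.OT67.FormalMult
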