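import Groth.Agent.Lib.OT67.Averaging
import Groth.Agent.Lib.OT67.FormalMult
import Groth.Agent.S2980
import Groth.Prelude.Def_SGA3b
import Mathlib

/-!
The open and closed subgroup of multiplicative type of a group over a complete Noetherian ring.
-/

open TensorProduct WithConv

set_option linter.style.haveILetI false

universe u

namespace Groth.Agent.Lib.OT67.OpenPart

noncomputable section

open Groth.Agent.H83.MultType HomMod

variable {A : Type u} [CommRing A] {I : Ideal A} {B : Type u} [CommRing B] [HopfAlgebra A B]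
variable {C : Type u} [CommRing C] [HopfAlgebra A C] (φ : C →ₐc[A] B)

/-- A homomorphism to an isotrivial group which is surjective modulo `I` is surjective. -/
theorem surjective_of_mod (hI : I ≤ Ideal.jacobson ⊥) (hB : SGA3b.IsIsotrivial A B)
    (h : ∀ b : B, ∃ c : C, φ c - b ∈ (I • ⊤ : Submodule A B)) : Function.Surjective φ := by
  classical
  obtain ⟨S, _, _, het, hfin, hff, M, _, ⟨e⟩⟩ := hB
  let L : C →ₗ[A] MonoidAlgebra S M :=
    ((e : S ⊗[A] B →ₐc[S] MonoidAlgebra S M).toLinearMap.restrictScalars A) ∘ₗ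
      TensorProduct.mk A S B 1 ∘ₗ φ.toLinearMap
  let Q : Submodule S (MonoidAlgebra S M) := LinearMap.range (L.liftBaseChange S)
  have hQ : ∀ (s : S) c, s • e ((1 : S) ⊗ₜ φ c) ∈ Q := fun s c => ⟨s ⊗ₜ c, by rw [LinearMap.liftBaseChange_tmul]; rfl⟩
  -- the image is graded
  let Φ : M → MonoidAlgebra S M ⊗[S] MonoidAlgebra S M →ₗ[S] MonoidAlgebra S M := fun m =>
    TensorProduct.lift ((LinearMap.lsmul S (MonoidAlgebra S M)) ∘ₗ coeffAt S m)
  have hΦ : ∀ m y, Φ m (CoalgebraStruct.comul (R := S) y) = MonoidAlgebra.single m (coeffAt S m y) := by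
    intro m y
    induction y using MonoidAlgebra.induction_linear with
    | zero => simp
    | add x y hx hy => rw [map_add, map_add, hx, hy, map_add, MonoidAlgebra.single_add]
    | single n r =>
      rw [MonoidAlgebra.comul_single, CommSemiring.comul_apply, TensorProduct.map_tmul]
      simp only [Φ, TensorProduct.lift.tmul, LinearMap.comp_apply, LinearMap.lsmul_apply]
      rw [MonoidAlgebra.lsingle_apply, MonoidAlgebra.lsingle_apply, coeffAt_single, coeffAt_single, MonoidAlgebra.smul_single,
        smul_eq_mul]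
      by_cases hn : n = m
      · subst hn; simp
      · simp [hn]
  have hgr : ∀ m, ∀ x ∈ Q, MonoidAlgebra.single m (coeffAt S m x) ∈ Q := by
    rintro m x ⟨z, rfl⟩
    induction z using TensorProduct.induction_on with
    | zero => simp
    | add p q hp hq => rw [map_add, map_add, MonoidAlgebra.single_add]; exact add_mem hp hq
    | tmul s c =>
      rw [LinearMap.liftBaseChange_tmul, map_smul, show MonoidAlgebra.single m (s • coeffAt S m (L c)) =
        s • MonoidAlgebra.single m (coeffAt S m (L c)) by rw [MonoidAlgebra.smul_single]]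
      refine Submodule.smul_mem _ s ?_
      obtain ⟨σ, hσ⟩ := TensorProduct.exists_finset (CoalgebraStruct.comul (R := A) c)
      rw [← hΦ, show L c = e ((1 : S) ⊗ₜ φ c) from rfl, ← CoalgHomClass.map_comp_comul_apply e, HomMod.comul_one_tmul,
        ← CoalgHomClass.map_comp_comul_apply φ, hσ, map_sum, TensorProduct.tmul_sum, map_sum, map_sum, map_sum]
      refine Submodule.sum_mem _ fun i _ => ?_
      rw [TensorProduct.map_tmul, AlgebraTensorModule.distribBaseChange_tmul, TensorProduct.map_tmul]
      simp only [Φ, TensorProduct.lift.tmul, LinearMap.comp_apply, LinearMap.lsmul_apply]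
      exact hQ _ _
  -- and it is everything modulo `I`
  let IS := I.map (algebraMap A S)
  have hIS : IS ≤ Ideal.jacobson ⊥ := by
    refine Ideal.map_le_iff_le_comap.2 (hI.trans fun a ha => ?_)
    rw [Ideal.mem_comap, Ideal.jacobson, Submodule.mem_sInf]
    rintro P ⟨-, hP⟩
    haveI := hP
    haveI : (Ideal.comap (algebraMap A S) P).IsMaximal := Ideal.isMaximal_comap_of_isIntegral_of_isMaximal P
    rw [Ideal.jacobson, Submodule.mem_sInf] at ha
    exact ha (Ideal.comap (algebraMap A S) P) ⟨bot_le, inferInstance⟩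
  have hsingle : ∀ m : M, MonoidAlgebra.single m (1 : S) ∈ Q := by
    intro m
    obtain ⟨z, hz⟩ := EquivLike.surjective e (MonoidAlgebra.single m (1 : S))
    have key : ∀ z : S ⊗[A] B, ∃ x ∈ Q, coeffAt S m (e z - x) ∈ IS := fun z => by
      induction z using TensorProduct.induction_on with
      | zero => exact ⟨0, zero_mem _, by simp⟩
      | add p q hp hq =>
        obtain ⟨x, hx, hx'⟩ := hp
        obtain ⟨y, hy, hy'⟩ := hq
        refine ⟨x + y, add_mem hx hy, ?_⟩
        rw [map_add, add_sub_add_comm, map_add]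
        exact add_mem hx' hy'
      | tmul s b =>
        obtain ⟨c, hc⟩ := h b
        refine ⟨s • e ((1 : S) ⊗ₜ φ c), hQ s c, ?_⟩
        rw [show e (s ⊗ₜ b) = s • e ((1 : S) ⊗ₜ b) by rw [← map_smul, TensorProduct.smul_tmul', smul_eq_mul, mul_one], ← smul_sub,
          ← map_sub, ← TensorProduct.tmul_sub, map_smul, smul_eq_mul]
        refine Ideal.mul_mem_left _ _ ?_
        have h' := map_mem_of_mem_smul (((coeffAt S m).restrictScalars A) ∘ₗ
          ((e : S ⊗[A] B →ₐc[S] MonoidAlgebra S M).toLinearMap.restrictScalars A) ∘ₗ TensorProduct.mk A S B 1)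
          (show b - φ c ∈ (I • ⊤ : Submodule A B) by rw [← neg_sub]; exact neg_mem hc)
        rw [Ideal.smul_top_eq_map, Submodule.restrictScalars_mem] at h'
        exact h'
    obtain ⟨x, hx, hx'⟩ := key z
    rw [hz, map_sub, coeffAt_single, if_pos rfl] at hx'
    have hu : IsUnit (coeffAt S m x) := by
      have := Ideal.mem_jacobson_bot.1 (hIS hx') (-1)
      rwa [show (1 - coeffAt S m x) * -1 + 1 = coeffAt S m x by ring] at this
    obtain ⟨u, hu⟩ := hu
    have h1 := Submodule.smul_mem Q (↑u⁻¹ : S) (hgr m x hx)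
    rwa [MonoidAlgebra.smul_single, smul_eq_mul, ← hu, Units.inv_mul] at h1
  have hsurjS : Function.Surjective (LinearMap.lTensor S φ.toLinearMap) := by
    intro w
    have hw : e w ∈ Q := by
      induction (e w) using MonoidAlgebra.induction_linear with
      | zero => exact zero_mem _
      | add p q hp hq => exact add_mem hp hq
      | single m r =>
        rw [show MonoidAlgebra.single m r = r • MonoidAlgebra.single m (1 : S) by rw [MonoidAlgebra.smul_single, smul_eq_mul, mul_one]]
        exact Submodule.smul_mem _ _ (hsingle m)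
    obtain ⟨z, hz⟩ := hw
    refine ⟨z, EquivLike.injective e ?_⟩
    rw [← hz]
    clear hz
    induction z using TensorProduct.induction_on with
    | zero => simp
    | add p q hp hq => rw [map_add, map_add, map_add, hp, hq]
    | tmul s c =>
      rw [LinearMap.lTensor_tmul, LinearMap.liftBaseChange_tmul]
      show e (s ⊗ₜ φ c) = s • e ((1 : S) ⊗ₜ φ c)
      rw [← map_smul, TensorProduct.smul_tmul', smul_eq_mul, mul_one]
  exact (Module.FaithfullyFlat.lTensor_surjective_iff_surjective A S φ.toLinearMap).1 hsurjS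

variable {φ}

/-- The kernel of a surjective homomorphism is a Hopf ideal. -/
theorem isHopfIdeal_ker (hφ : Function.Surjective φ) : (RingHom.ker (φ : C →ₐ[A] B)).IsHopfIdeal A := by
  let K := RingHom.ker (φ : C →ₐ[A] B)
  refine { counit_eq_zero := fun x hx => ?_, map_mkQ_comul_eq_zero := fun x hx => ?_, antipode_mem := fun x hx => ?_ }
  · rw [← CoalgHomClass.counit_comp_apply φ x, show φ x = 0 from hx, map_zero]
  · let e : (C ⧸ (K.restrictScalars A)) ≃ₗ[A] B := φ.toLinearMap.quotKerEquivOfSurjective hφ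
    have he : e.toLinearMap ∘ₗ (K.restrictScalars A).mkQ = φ.toLinearMap := rfl
    apply (TensorProduct.congr e e).injective
    rw [map_zero]
    show TensorProduct.map e.toLinearMap e.toLinearMap
      (TensorProduct.map (K.restrictScalars A).mkQ (K.restrictScalars A).mkQ (CoalgebraStruct.comul x)) = 0
    rw [← LinearMap.comp_apply (TensorProduct.map e.toLinearMap e.toLinearMap), ← TensorProduct.map_comp, he]
    have := CoalgHomClass.map_comp_comul_apply φ x
    rw [show φ x = 0 from hx, map_zero] at this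
    exact this
  · -- uniqueness of inverses among points
    let u : WithConv (C →ₐ[A] B) := toConv (φ : C →ₐ[A] B)
    let v : WithConv (C →ₐ[A] B) := toConv ((HopfAlgebra.antipodeAlgHom A B).comp (φ : C →ₐ[A] B))
    have h1 : v * u = 1 := by
      have h := congrArg (fun w : WithConv (B →ₐ[A] B) => (toConv (w.ofConv.comp (φ : C →ₐ[A] B)) : WithConv (C →ₐ[A] B)))
        (AlgHom.antipode_id_cancel (R := A) (A := B))
      simp only [AlgHom.convMul_comp_bialgHom_distrib, toConv_ofConv, AlgHom.id_comp, ofConv_toConv] at h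
      refine h.trans (WithConv.ofConv_injective (AlgHom.ext fun c => ?_))
      show algebraMap A B (CoalgebraStruct.counit (φ c)) = algebraMap A B (CoalgebraStruct.counit c)
      rw [CoalgHomClass.counit_comp_apply]
    have h2 : v = u⁻¹ := eq_inv_of_mul_eq_one_left h1
    have h3 := DFunLike.congr_fun (congrArg WithConv.ofConv h2) x
    show φ (HopfAlgebra.antipode A x) = 0
    refine Eq.trans h3.symm ?_
    show HopfAlgebra.antipode A (φ x) = 0
    rw [show φ x = 0 from hx, map_zero]

set_option maxHeartbeats 1000000 in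
/-- The kernel is generated by an idempotent in `I C`. -/
theorem exists_idempotent [IsNoetherianRing A] (hI : I ≤ Ideal.jacobson ⊥) [Algebra.FiniteType A C] [Module.Flat A B]
    (hφ : Function.Surjective φ) (hinj : ∀ c, φ c ∈ (I • ⊤ : Submodule A B) → c ∈ (I • ⊤ : Submodule A C)) :
    ∃ e : C, IsIdempotentElem e ∧ e ∈ Ideal.map (algebraMap A C) I ∧ RingHom.ker (φ : C →ₐ[A] B) = Ideal.span {e} := by
  classical
  haveI : IsNoetherianRing C := Algebra.FiniteType.isNoetherianRing A C
  haveI := isHopfIdeal_ker hφ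
  let K := RingHom.ker (φ : C →ₐ[A] B)
  let Kp : Ideal C := RingHom.ker (Bialgebra.counitAlgHom A C)
  have hKI : ∀ x ∈ K, x ∈ (I • ⊤ : Submodule A C) := fun x hx => hinj x (by rw [show φ x = 0 from hx]; exact zero_mem _)
  -- `K = I K`
  have hpure : ∀ x ∈ K, x ∈ I • (K.restrictScalars A) := by
    intro x hx
    let κ := (K.restrictScalars A).subtype
    have hex : Function.Exact κ φ.toLinearMap := fun y => ⟨fun hy => ⟨⟨y, hy⟩, rfl⟩, by rintro ⟨y, rfl⟩; exact y.2⟩
    have hi : Function.Injective (κ.lTensor (A ⧸ I)) :=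
      LinearMap.lTensor_injective_of_exact_of_flat φ.toLinearMap hφ κ Subtype.val_injective hex (A ⧸ I)
    have h0 : (1 : A ⧸ I) ⊗ₜ[A] (⟨x, hx⟩ : K.restrictScalars A) = 0 := hi (by
      rw [LinearMap.lTensor_tmul, map_zero]
      exact one_tmul_eq_zero_iff.2 (hKI x hx))
    have := Submodule.mem_map_of_mem (f := κ) (one_tmul_eq_zero_iff.1 h0)
    rw [Submodule.map_smul''] at this
    exact Submodule.smul_mono le_rfl (by simp [κ]) this
  -- `K = K C⁺`
  have hKp : K ≤ K * Kp := by
    obtain ⟨g, hg⟩ := IsNoetherian.noetherian K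
    let N : Submodule A C := (K * Kp).restrictScalars A
    let N' : Submodule A C := Submodule.span A (g : Set C)
    have hdec : ∀ x ∈ K, x ∈ N' ⊔ N := by
      intro x hx
      rw [← hg] at hx
      obtain ⟨f, -, rfl⟩ := Submodule.mem_span_finset.1 hx
      refine Submodule.sum_mem _ fun y hy => ?_
      rw [show f y • y = CoalgebraStruct.counit (R := A) (f y) • y + (f y - algebraMap A C (CoalgebraStruct.counit (R := A) (f y))) * y by
        rw [sub_mul, ← Algebra.smul_def, smul_eq_mul]; abel]
      refine Submodule.add_mem_sup (Submodule.smul_mem _ _ (Submodule.subset_span hy)) ?_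
      show _ ∈ K * Kp
      rw [mul_comm (f y - _) y]
      refine Ideal.mul_mem_mul (hg ▸ Submodule.subset_span hy) ?_
      show CoalgebraStruct.counit (R := A) (f y - algebraMap A C (CoalgebraStruct.counit (R := A) (f y))) = 0
      rw [map_sub, Bialgebra.counit_algebraMap, sub_self]
    have hle : N' ≤ N ⊔ I • N' := by
      refine Submodule.span_le.2 fun y hy => ?_
      refine Submodule.smul_induction_on (p := fun z => z ∈ N ⊔ I • N') (hpure y (hg ▸ Submodule.subset_span hy))
        (fun r hr z hz => ?_) fun p q hp hq => add_mem hp hq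
      obtain ⟨a, ha, b, hb, rfl⟩ := Submodule.mem_sup.1 (hdec z hz)
      rw [smul_add, add_comm]
      exact Submodule.add_mem_sup (Submodule.smul_mem _ _ hb) (Submodule.smul_mem_smul hr ha)
    have hN := Submodule.le_of_le_smul_of_le_jacobson_bot (Submodule.fg_span g.finite_toSet) hI hle
    intro x hx
    exact (sup_le hN le_rfl) (hdec x hx)
  -- `K = K ^ 2`
  have hsq : K ≤ K * K := by
    let S' : C →ₐ[A] C := HopfAlgebra.antipodeAlgHom A C
    let φa : C →ₐ[A] B := φ
    let ι₁ : B →ₐ[A] B ⊗[A] C := Algebra.TensorProduct.includeLeft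
    let ι₂ : C →ₐ[A] B ⊗[A] C := Algebra.TensorProduct.includeRight
    let P : WithConv (C →ₐ[A] B ⊗[A] C) := Averaging.push ι₁ (toConv φa)
    let ψ : WithConv (C →ₐ[A] B ⊗[A] C) := P⁻¹ * toConv ι₂
    let ψ' : WithConv (C →ₐ[A] B ⊗[A] C) := P * toConv ι₂
    let σ : B ⊗[A] C →ₐ[A] B ⊗[A] C := Algebra.TensorProduct.lift ι₁ ψ.ofConv fun _ _ => .all _ _
    let μ : B ⊗[A] C →ₐ[A] B := Algebra.TensorProduct.lift (AlgHom.id A B) φa fun _ _ => .all _ _
    have hσ₁ : σ.comp ι₁ = ι₁ := AlgHom.ext fun b => by simp [σ, ι₁]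
    have hσ₂ : σ.comp ι₂ = ψ.ofConv := AlgHom.ext fun c => by simp [σ, ι₂]
    have hσψ : Averaging.push σ ψ' = toConv ι₂ := by
      show Averaging.push σ (P * toConv ι₂) = _
      rw [map_mul]
      show Averaging.push (σ.comp ι₁) (toConv φa) * toConv (σ.comp ι₂) = _
      rw [hσ₁, hσ₂]
      exact mul_inv_cancel_left _ _
    have hμψ : Averaging.push μ ψ = 1 := by
      show Averaging.push μ (P⁻¹ * toConv ι₂) = _
      rw [map_mul, map_inv]
      show (Averaging.push (μ.comp ι₁) (toConv φa))⁻¹ * toConv (μ.comp ι₂) = _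
      rw [show μ.comp ι₁ = AlgHom.id A B from AlgHom.ext fun b => by simp [μ, ι₁],
        show μ.comp ι₂ = φa from AlgHom.ext fun c => by simp [μ, ι₂]]
      exact inv_mul_cancel _
    let κ := (K.restrictScalars A).subtype
    let ιK : B ⊗[A] (K.restrictScalars A) →ₗ[A] B ⊗[A] C := κ.lTensor B
    have hinjK : Function.Injective ιK := Module.Flat.lTensor_preserves_injective_linearMap _ Subtype.val_injective
    let Kb : Ideal (B ⊗[A] C) := K.map ι₂
    have hKb : ∀ z, z ∈ Kb ↔ ∃ y, ιK y = z := fun z => by
      rw [← Submodule.restrictScalars_mem A, Ideal.map_includeRight_eq]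
      exact Iff.rfl
    have hμK : ∀ z ∈ Kb, μ z = 0 := fun z hz => by
      obtain ⟨y, rfl⟩ := (hKb z).1 hz
      induction y using TensorProduct.induction_on with
      | zero => simp
      | tmul b k =>
        show μ (b ⊗ₜ (k : C)) = 0
        simp [μ, φa, show φ (k : C) = 0 from k.2]
      | add p q hp hq => rw [map_add, map_add, hp ((hKb _).2 ⟨_, rfl⟩), hq ((hKb _).2 ⟨_, rfl⟩), add_zero]
    -- points of `G` preserve `K`
    have hmem : ∀ (w : WithConv (C →ₐ[A] B ⊗[A] C)), (∀ x ∈ K, w.ofConv x = 0) → ∀ x ∈ K, (w * toConv ι₂).ofConv x ∈ Kb := by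
      intro w hw x hx
      rw [show (w * toConv ι₂).ofConv x = Algebra.TensorProduct.lift w.ofConv ι₂ (fun _ _ => .all _ _) (CoalgebraStruct.comul x)
        from AlgHom.convMul_apply _ _ x]
      have hc := ((Submodule.isCoideal_iff_comul_mem _).1
        ((inferInstance : K.IsHopfIdeal A).toIsCoideal)).2 x hx
      obtain ⟨_, ⟨y, rfl⟩, _, ⟨z, rfl⟩, h⟩ := Submodule.mem_sup.1 hc
      rw [← h, map_add]
      refine add_mem ?_ ?_
      · clear h
        induction y using TensorProduct.induction_on with
        | zero => simp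
        | tmul p k =>
          rw [LinearMap.lTensor_tmul, Algebra.TensorProduct.lift_tmul]
          exact Ideal.mul_mem_left _ _ (Ideal.mem_map_of_mem _ k.2)
        | add p q hp hq => rw [map_add, map_add]; exact add_mem hp hq
      · clear h
        induction z using TensorProduct.induction_on with
        | zero => simp
        | tmul k p =>
          rw [LinearMap.rTensor_tmul, Algebra.TensorProduct.lift_tmul, Submodule.subtype_apply, hw _ k.2, zero_mul]
          exact zero_mem _
        | add p q hp hq => rw [map_add, map_add]; exact add_mem hp hq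
    have hP : ∀ x ∈ K, P.ofConv x = 0 := fun x hx => by
      show ι₁ (φ x) = 0
      rw [show φ x = 0 from hx, map_zero]
    have hPinv : ∀ x ∈ K, (P⁻¹).ofConv x = 0 := fun x hx => hP _ ((inferInstance : K.IsHopfIdeal A).antipode_mem hx)
    have hKKp : ∀ x ∈ K * Kp, ψ.ofConv x ∈ Kb * RingHom.ker μ := fun x hx => by
      refine Submodule.mul_induction_on hx (fun k hk w hw => ?_) fun p q hp hq => by rw [map_add]; exact add_mem hp hq
      rw [map_mul]
      refine Ideal.mul_mem_mul (hmem _ hPinv k hk) ?_
      rw [RingHom.mem_ker]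
      have := DFunLike.congr_fun (congrArg WithConv.ofConv hμψ) w
      refine this.trans ?_
      show algebraMap A B (CoalgebraStruct.counit w) = 0
      rw [show CoalgebraStruct.counit (R := A) w = 0 from hw, map_zero]
    have hσK : ∀ z ∈ Kb, σ z ∈ Kb * RingHom.ker μ := fun z hz => by
      obtain ⟨y, rfl⟩ := (hKb z).1 hz
      induction y using TensorProduct.induction_on with
      | zero => simp
      | tmul b k =>
        show σ (b ⊗ₜ (k : C)) ∈ _
        rw [show σ (b ⊗ₜ (k : C)) = ι₁ b * ψ.ofConv k by simp [σ]]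
        exact Ideal.mul_mem_left _ _ (hKKp _ (hKp k.2))
      | add p q hp hq => rw [map_add, map_add]; exact add_mem (hp ((hKb _).2 ⟨_, rfl⟩)) (hq ((hKb _).2 ⟨_, rfl⟩))
    -- restriction along the graph
    let KK : Submodule A C := (K * K).restrictScalars A
    let act : C →ₗ[A] (K.restrictScalars A) →ₗ[A] C ⧸ KK := ((LinearMap.mul A C).compl₂ κ).compr₂ KK.mkQ
    have hact : K.restrictScalars A ≤ LinearMap.ker act := fun c hc => by
      rw [LinearMap.mem_ker]
      exact LinearMap.ext fun k => (Submodule.Quotient.mk_eq_zero _).2 (Ideal.mul_mem_mul hc k.2)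
    let e : (C ⧸ (K.restrictScalars A)) ≃ₗ[A] B := φ.toLinearMap.quotKerEquivOfSurjective hφ
    let Qr : B ⊗[A] (K.restrictScalars A) →ₗ[A] C ⧸ KK :=
      TensorProduct.lift ((Submodule.liftQ _ act hact) ∘ₗ e.symm.toLinearMap)
    have hQr : ∀ (b : B) (c : C) (k : K.restrictScalars A), φ c = b → Qr (b ⊗ₜ k) = KK.mkQ (c * k) := fun b c k hb => by
      have : e.symm b = Submodule.Quotient.mk c := e.symm_apply_eq.2 hb.symm
      show Submodule.liftQ _ act hact (e.symm b) k = _
      rw [this]
      rfl
    have key : ∀ (w : B ⊗[A] C) (y : B ⊗[A] (K.restrictScalars A)), μ w = 0 →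
        ∃ y', ιK y' = w * ιK y ∧ Qr y' = 0 := by
      have gen : ∀ (w : B ⊗[A] C) (b : B) (k : K.restrictScalars A) (bl : C), φ bl = b →
          ∃ y', ιK y' = w * (b ⊗ₜ (k : C)) ∧ ∀ c, φ c = μ w → Qr y' = KK.mkQ (c * bl * k) := by
        intro w b k bl hbl
        induction w using TensorProduct.induction_on with
        | zero =>
          refine ⟨0, by simp, fun c hc => ?_⟩
          rw [map_zero] at hc
          rw [map_zero, eq_comm]
          refine (Submodule.Quotient.mk_eq_zero _).2 ?_
          show c * bl * k ∈ K * K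
          exact Ideal.mul_mem_mul (Ideal.mul_mem_right _ _ hc) k.2
        | tmul p q =>
          refine ⟨(p * b) ⊗ₜ ⟨q * k, Ideal.mul_mem_left K q k.2⟩, ?_, fun c hc => ?_⟩
          · simp [ιK, κ, Algebra.TensorProduct.tmul_mul_tmul]
          · obtain ⟨pl, hpl⟩ := hφ p
            rw [hQr _ (pl * bl) _ (by rw [map_mul, hpl, hbl]), ← sub_eq_zero, ← map_sub]
            refine (Submodule.Quotient.mk_eq_zero _).2 ?_
            show pl * bl * (q * k) - c * bl * k ∈ K * K
            rw [show pl * bl * (q * k) - c * bl * k = (pl * q - c) * bl * k by ring]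
            refine Ideal.mul_mem_mul (Ideal.mul_mem_right _ _ ?_) k.2
            show φ (pl * q - c) = 0
            rw [map_sub, map_mul, hpl, hc, show μ (p ⊗ₜ q) = p * φ q by simp [μ, φa], sub_self]
        | add p q hp hq =>
          obtain ⟨y, hy, hy'⟩ := hp
          obtain ⟨z, hz, hz'⟩ := hq
          refine ⟨y + z, by rw [map_add, hy, hz, add_mul], fun c hc => ?_⟩
          obtain ⟨cp, hcp⟩ := hφ (μ p)
          rw [map_add, hy' cp hcp, hz' (c - cp) (by rw [map_sub, hc, map_add, hcp, add_sub_cancel_left]), ← map_add,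
            ← add_mul, ← add_mul, add_sub_cancel]
      intro w y hw
      induction y using TensorProduct.induction_on with
      | zero => exact ⟨0, by simp, map_zero _⟩
      | tmul b k =>
        obtain ⟨bl, hbl⟩ := hφ b
        obtain ⟨y', hy', hy''⟩ := gen w b k bl hbl
        exact ⟨y', hy', (hy'' 0 (by rw [map_zero, hw])).trans (by rw [zero_mul, zero_mul, map_zero])⟩
      | add p q hp hq =>
        obtain ⟨p', hp', hp''⟩ := hp
        obtain ⟨q', hq', hq''⟩ := hq
        exact ⟨p' + q', by rw [map_add, map_add, hp', hq', mul_add], by rw [map_add, hp'', hq'', add_zero]⟩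
    have hgood : ∀ z ∈ Kb * RingHom.ker μ, ∃ y', ιK y' = z ∧ Qr y' = 0 := fun z hz => by
      refine Submodule.mul_induction_on hz (fun a ha w hw => ?_) fun p q hp hq => ?_
      · obtain ⟨y, rfl⟩ := (hKb a).1 ha
        rw [mul_comm]
        exact key w y hw
      · obtain ⟨p', hp', hp''⟩ := hp
        obtain ⟨q', hq', hq''⟩ := hq
        exact ⟨p' + q', by rw [map_add, hp', hq'], by rw [map_add, hp'', hq'', add_zero]⟩
    intro k hk
    have h1 : ι₂ k ∈ Kb * RingHom.ker μ := by
      rw [show ι₂ k = σ (ψ'.ofConv k) from (DFunLike.congr_fun (congrArg WithConv.ofConv hσψ) k).symm]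
      exact hσK _ (hmem P hP k hk)
    obtain ⟨y, hy, hy'⟩ := hgood _ h1
    rw [hinjK (hy.trans (show ι₂ k = ιK ((1 : B) ⊗ₜ ⟨k, hk⟩) from rfl)), hQr 1 1 _ (map_one φ), one_mul] at hy'
    exact (Submodule.Quotient.mk_eq_zero _).1 hy'
  obtain ⟨e, he, hKe⟩ := (Ideal.isIdempotentElem_iff_of_fg K (IsNoetherian.noetherian K)).1 (le_antisymm Ideal.mul_le_left hsq)
  refine ⟨e, he, ?_, hKe⟩
  have := hKI e (hKe ▸ Ideal.mem_span_singleton_self e)
  rwa [Ideal.smul_top_eq_map, Submodule.restrictScalars_mem] at this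

end

end Groth.Agent.Lib.OT67.OpenPart
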