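import Groth.Agent.Lib.OT67.SplitMult
import Groth.Agent.H83.MultType.Quot
import Groth.Agent.H83.MultType.Primitive
import Mathlib

/-!
A finite group of multiplicative type is projective, commutative and has etale Cartier dual.
-/

open TensorProduct WithConv

set_option linter.style.haveILetI false

universe u

namespace Groth.Agent.Lib.OT67.MultFinite

noncomputable section

variable {R : Type u} [CommRing R] {A : Type u} [CommRing A] [HopfAlgebra R A]

/-- A trivialising algebra over one open of the covering. -/
structure Chart (R : Type u) [CommRing R] (A : Type u) [CommRing A] [HopfAlgebra R A] (f : R) where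
  S : Type u
  [cS : CommRing S]
  [aLS : Algebra (Localization.Away f) S]
  [aRS : Algebra R S]
  [tower : IsScalarTower R (Localization.Away f) S]
  [ff : Module.FaithfullyFlat (Localization.Away f) S]
  M : Type u
  [cM : CommGroup M]
  equiv : (S ⊗[R] A) ≃ₐc[S] MonoidAlgebra S M

attribute [instance] Chart.cS Chart.aLS Chart.aRS Chart.tower Chart.ff Chart.cM

theorem exists_charts (h : SGA3b.IsMultType R A) :
    ∃ s : Set R, Ideal.span s = ⊤ ∧ ∀ f ∈ s, Nonempty (Chart R A f) := by
  obtain ⟨s, hs, hc⟩ := h
  refine ⟨s, hs, fun f hf => ?_⟩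
  obtain ⟨S, _, _, hff, P, _, ⟨e⟩⟩ := hc f hf
  letI algRS : Algebra R S := Algebra.compHom S (algebraMap R (Localization.Away f))
  haveI : IsScalarTower R (Localization.Away f) S := IsScalarTower.of_algebraMap_eq fun _ => rfl
  obtain ⟨T, -⟩ := Groth.Agent.H83.MultType.exists_towerEquiv R (Localization.Away f) S A
  exact ⟨{ S := S, M := P, equiv := T.trans e }⟩

theorem Chart.isDiag {f : R} (c : Chart R A f) : SGA3b.IsDiag c.S (c.S ⊗[R] A) :=
  ⟨c.M, c.cM, ⟨c.equiv⟩⟩

theorem Chart.free {f : R} (c : Chart R A f) : Module.Free c.S (c.S ⊗[R] A) :=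
  Module.Free.of_equiv c.equiv.toAlgEquiv.toLinearEquiv.symm

theorem Chart.isCocomm {f : R} (c : Chart R A f) : Coalgebra.IsCocomm c.S (c.S ⊗[R] A) := by
  refine ⟨LinearMap.ext fun x => ?_⟩
  obtain ⟨y, rfl⟩ := EquivLike.surjective c.equiv.symm x
  simp only [LinearMap.comp_apply, LinearEquiv.coe_coe]
  rw [← CoalgHomClass.map_comp_comul_apply c.equiv.symm]
  conv_rhs => rw [← Coalgebra.comm_comul (R := c.S) y]
  generalize CoalgebraStruct.comul (R := c.S) y = z
  induction z using TensorProduct.induction_on with
  | zero => simp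
  | tmul p q => rw [TensorProduct.map_tmul, TensorProduct.comm_tmul, TensorProduct.comm_tmul, TensorProduct.map_tmul]
  | add p q hp hq => simp only [map_add, hp, hq]

/-- Detection of zero on the charts. -/
theorem eq_zero_of_charts {s : Set R} (hs : Ideal.span s = ⊤) (c : ∀ f ∈ s, Chart R A f) {N : Type u}
    [AddCommGroup N] [Module R N] {x : N} (hx : ∀ f (hf : f ∈ s), (1 : (c f hf).S) ⊗ₜ[R] x = 0) : x = 0 := by
  have h := Groth.Agent.H83.MultType.mem_of_localization (A := N) hs ⊥ (x := x) fun f hf => by
    have h0 : (1 : Localization.Away f) ⊗ₜ[R] x = 0 := by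
      refine (Module.FaithfullyFlat.one_tmul_eq_zero_iff (R := Localization.Away f) (A := (c f hf).S) _ _).1 ?_
      have := congrArg (TensorProduct.AlgebraTensorModule.cancelBaseChange R (Localization.Away f) (c f hf).S (c f hf).S N).symm (hx f hf)
      rwa [map_zero, TensorProduct.AlgebraTensorModule.cancelBaseChange_symm_tmul] at this
    rw [h0]
    exact zero_mem _
  simpa using h

variable [Module.Finite R A]

theorem flat_fp (h : SGA3b.IsMultType R A) : Module.Flat R A ∧ Module.FinitePresentation R A := by
  obtain ⟨s, hs, hc⟩ := exists_charts h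
  have key : ∀ f : s, Module.Flat (Localization.Away f.1) (Localization.Away f.1 ⊗[R] A) ∧
      Module.FinitePresentation (Localization.Away f.1) (Localization.Away f.1 ⊗[R] A) := fun f => by
    obtain ⟨c⟩ := hc f.1 f.2
    haveI := c.free
    let E : c.S ⊗[R] A ≃ₐ[c.S] c.S ⊗[Localization.Away f.1] (Localization.Away f.1 ⊗[R] A) :=
      (Algebra.TensorProduct.cancelBaseChange R (Localization.Away f.1) c.S c.S A).symm
    haveI : Module.Free c.S (c.S ⊗[Localization.Away f.1] (Localization.Away f.1 ⊗[R] A)) :=
      Module.Free.of_equiv E.toLinearEquiv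
    haveI : Module.FinitePresentation c.S (c.S ⊗[Localization.Away f.1] (Localization.Away f.1 ⊗[R] A)) :=
      Module.finitePresentation_of_projective c.S _
    haveI : Algebra.FinitePresentation (Localization.Away f.1) (Localization.Away f.1 ⊗[R] A) :=
      Algebra.FinitePresentation.of_finitePresentation_tensorProduct_of_faithfullyFlat c.S
    haveI : Module.Flat c.S (c.S ⊗[Localization.Away f.1] (Localization.Away f.1 ⊗[R] A)) := Module.Flat.of_free
    exact ⟨Module.Flat.of_flat_tensorProduct (Localization.Away f.1) (Localization.Away f.1 ⊗[R] A) c.S,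
      Module.FinitePresentation.of_finite_of_finitePresentation _ _⟩
  refine ⟨?_, ?_⟩
  · refine Module.flat_of_isLocalized_span (R := R) (S := R) A s hs (fun f => Localization.Away f.1 ⊗[R] A)
      (fun f => TensorProduct.mk R (Localization.Away f.1) A 1) fun f => ?_
    haveI := (key f).1
    exact Module.Flat.trans R (Localization.Away f.1) _
  · exact Module.FinitePresentation.of_localizationSpan' s hs (Rₚ := fun f : s => Localization.Away f.1)
      (Mₚ := fun f : s => Localization.Away f.1 ⊗[R] A)
      (fun f => TensorProduct.mk R (Localization.Away f.1) A 1) fun f => (key f).2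

theorem projective (h : SGA3b.IsMultType R A) : Module.Projective R A := by
  obtain ⟨hf, hp⟩ := flat_fp h
  exact Module.Flat.projective_of_finitePresentation

theorem isCocomm (h : SGA3b.IsMultType R A) : Coalgebra.IsCocomm R A := by
  obtain ⟨s, hs, hc⟩ := exists_charts h
  let c : ∀ f ∈ s, Chart R A f := fun f hf => (hc f hf).some
  refine ⟨LinearMap.ext fun a => ?_⟩
  rw [← sub_eq_zero]
  refine eq_zero_of_charts hs c fun f hf => ?_
  let S := (c f hf).S
  haveI : Coalgebra.IsCocomm S (S ⊗[R] A) := (c f hf).isCocomm
  let Φ := TensorProduct.AlgebraTensorModule.distribBaseChange R S A A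
  apply Φ.injective
  rw [map_zero, TensorProduct.tmul_sub, map_sub, sub_eq_zero]
  have h1 : ∀ z : A ⊗[R] A, Φ ((1 : S) ⊗ₜ (TensorProduct.comm R A A z)) =
      TensorProduct.comm S (S ⊗[R] A) (S ⊗[R] A) (Φ ((1 : S) ⊗ₜ z)) := fun z => by
    induction z using TensorProduct.induction_on with
    | zero => simp
    | tmul p q => simp [Φ]
    | add p q hp hq => simp only [map_add, TensorProduct.tmul_add, hp, hq]
  have h2 : Φ ((1 : S) ⊗ₜ CoalgebraStruct.comul (R := R) a) = CoalgebraStruct.comul (R := S) ((1 : S) ⊗ₜ[R] a) := by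
    rw [TensorProduct.comul_tmul, CommSemiring.comul_apply]
    generalize CoalgebraStruct.comul (R := R) a = z
    induction z using TensorProduct.induction_on with
    | zero => simp
    | tmul p q => simp [Φ]
    | add p q hp hq => simp only [map_add, TensorProduct.tmul_add, hp, hq]
  show Φ ((1 : S) ⊗ₜ (TensorProduct.comm R A A (CoalgebraStruct.comul a))) = Φ ((1 : S) ⊗ₜ CoalgebraStruct.comul a)
  rw [h1, h2, Coalgebra.comm_comul]

attribute [local instance] Algebra.TensorProduct.rightAlgebra in
theorem etale_dual (h : SGA3b.IsMultType R A) [Module.Projective R A] [Coalgebra.IsCocomm R A] :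
    Algebra.Etale R (CartDual.D R A) := by
  obtain ⟨s, hs, hc⟩ := exists_charts h
  let c : ∀ f ∈ s, Chart R A f := fun f hf => (hc f hf).some
  haveI : Algebra.FormallyUnramified R (CartDual.D R A) := by
    refine ⟨⟨fun x y => sub_eq_zero.1 (eq_zero_of_charts hs c fun f hf => ?_)⟩⟩
    rcases subsingleton_or_nontrivial (c f hf).S with hS | hS
    · haveI := Module.subsingleton (c f hf).S ((c f hf).S ⊗[R] Ω[CartDual.D R A⁄R])
      exact Subsingleton.elim _ _
    haveI := SplitMult.etale_dual_baseChange_of_diag A (c f hf).S (c f hf).isDiag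
    haveI : Subsingleton ((c f hf).S ⊗[R] Ω[CartDual.D R A⁄R]) :=
      (KaehlerDifferential.tensorKaehlerEquivBase R (c f hf).S (CartDual.D R A) ((c f hf).S ⊗[R] CartDual.D R A)).toEquiv.subsingleton
    exact Subsingleton.elim _ _
  haveI : Module.FinitePresentation R (CartDual.D R A) := Module.finitePresentation_of_projective R _
  exact Algebra.Etale.of_formallyUnramified_of_flat

end

end Groth.Agent.Lib.OT67.MultFinite
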