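import Groth.Agent.Lib.OT67.MultFinite
import Groth.Agent.S5066
import Mathlib

/-!
Homomorphisms of finite groups with etale Cartier dual over a henselian local ring.
-/

open TensorProduct WithConv

set_option linter.style.haveILetI false

universe u

namespace Groth.Agent.Lib.OT67.HenselDual

noncomputable section

variable {R : Type u} [CommRing R]

section Local

variable [IsLocalRing R]

theorem one_tmul_smul_eq_zero {N : Type u} [AddCommGroup N] [Module R N] {c : R}
    (hc : IsLocalRing.residue R c = 0) (y : N) : (1 : IsLocalRing.ResidueField R) ⊗ₜ[R] (c • y) = 0 := by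
  rw [TensorProduct.tmul_smul, TensorProduct.smul_tmul', Algebra.smul_def, mul_one]
  rw [show algebraMap R (IsLocalRing.ResidueField R) c = 0 from hc, TensorProduct.zero_tmul]

/-- Reductions of elements of a dual are detected by residues of values. -/
theorem red_eq_zero {N M : Type u} [AddCommGroup N] [Module R N] [AddCommGroup M] [Module R M] [Module.Finite R M]
    [Module.Projective R M] (f : N ≃ₗ[R] Module.Dual R M) (z : N) (h : ∀ x, IsLocalRing.residue R (f z x) = 0) :
    (1 : IsLocalRing.ResidueField R) ⊗ₜ[R] z = 0 := by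
  classical
  obtain ⟨n, p, q, -, -, hpq⟩ := Module.Finite.exists_comp_eq_id_of_projective R M
  have hf : f z = ∑ i, f z (p (Pi.single i 1)) • (LinearMap.proj i).comp q := LinearMap.ext fun x => by
    conv_lhs => rw [← show p (q x) = x from LinearMap.congr_fun hpq x, pi_eq_sum_univ' (q x)]
    simp only [map_sum, LinearMap.sum_apply, map_smul, LinearMap.smul_apply]
    exact Finset.sum_congr rfl fun i _ => by simp [mul_comm]
  rw [← f.symm_apply_apply z, hf, map_sum, TensorProduct.tmul_sum]
  refine Finset.sum_eq_zero fun i _ => ?_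
  rw [map_smul]
  exact one_tmul_smul_eq_zero (h _) _

theorem exists_one_tmul {N : Type u} [AddCommGroup N] [Module R N] (z : IsLocalRing.ResidueField R ⊗[R] N) :
    ∃ b : N, (1 : IsLocalRing.ResidueField R) ⊗ₜ[R] b = z :=
  TensorProduct.mk_surjective R N (IsLocalRing.ResidueField R) IsLocalRing.residue_surjective z

theorem residue_apply_eq {B : Type u} [CommRing B] [Bialgebra R B] (x : CartDual.D R B) {b b' : B}
    (h : (1 : IsLocalRing.ResidueField R) ⊗ₜ[R] b = (1 : IsLocalRing.ResidueField R) ⊗ₜ[R] b') :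
    IsLocalRing.residue R (x.ofConv b) = IsLocalRing.residue R (x.ofConv b') := by
  have := congrArg (bcForm (IsLocalRing.ResidueField R) x).ofConv h
  rwa [bcForm_apply, bcForm_apply, one_mul, one_mul] at this

theorem red_eq {B : Type u} [CommRing B] [Bialgebra R B] [Module.Finite R B] [Module.Projective R B] {b b' : B}
    (h : ∀ x : CartDual.D R B, IsLocalRing.residue R (x.ofConv b) = IsLocalRing.residue R (x.ofConv b')) :
    (1 : IsLocalRing.ResidueField R) ⊗ₜ[R] b = (1 : IsLocalRing.ResidueField R) ⊗ₜ[R] b' := by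
  rw [← sub_eq_zero, ← TensorProduct.tmul_sub]
  refine red_eq_zero (Module.evalEquiv R B) _ fun x => ?_
  rw [Module.evalEquiv_apply, Module.Dual.eval_apply, map_sub, map_sub, sub_eq_zero]
  exact h (toConv x)

theorem red₂_eq {C : Type u} [CommRing C] [HopfAlgebra R C] [Module.Finite R C] [Module.Projective R C]
    {z z' : CartDual.D R C ⊗[R] CartDual.D R C}
    (h : ∀ c c' : C, IsLocalRing.residue R (CartDual.ev₂ R C z (c ⊗ₜ c')) =
      IsLocalRing.residue R (CartDual.ev₂ R C z' (c ⊗ₜ c'))) :
    (1 : IsLocalRing.ResidueField R) ⊗ₜ[R] z = (1 : IsLocalRing.ResidueField R) ⊗ₜ[R] z' := by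
  have e : ∀ w, IsLocalRing.residue R (CartDual.ev₂ R C z w) = IsLocalRing.residue R (CartDual.ev₂ R C z' w) := by
    intro w
    induction w using TensorProduct.induction_on with
    | zero => simp
    | add w w' hw hw' => simp only [map_add, hw, hw']
    | tmul c c' => exact h c c'
  rw [← sub_eq_zero]
  refine ((TensorProduct.mk R (IsLocalRing.ResidueField R) (CartDual.D R C ⊗[R] CartDual.D R C) 1).map_sub z z').symm.trans ?_
  refine red_eq_zero (N := CartDual.D R C ⊗[R] CartDual.D R C) (M := C ⊗[R] C) (CartDual.ev₂ R C) _ fun w => ?_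
  rw [map_sub, LinearMap.sub_apply, map_sub, sub_eq_zero]
  exact e w

end Local

variable [HenselianLocalRing R]

/-- Rigidity of etale algebras. -/
theorem red_bijective (E C : Type u) [CommRing E] [Algebra R E] [Algebra.Etale R E] [CommRing C] [Algebra R C]
    [Module.Finite R C] :
    Function.Bijective (fun φ : E →ₐ[R] C =>
      (Algebra.TensorProduct.includeRight : C →ₐ[R] IsLocalRing.ResidueField R ⊗[R] C).comp φ) := by
  let m := IsLocalRing.maximalIdeal R
  let e : (C ⧸ m.map (algebraMap R C)) ≃ₐ[R] IsLocalRing.ResidueField R ⊗[R] C :=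
    ((Algebra.TensorProduct.quotIdealMapEquivTensorQuot C m).restrictScalars R).trans
      (Algebra.TensorProduct.comm R C (R ⧸ m))
  have he : ∀ c : C, e (Ideal.Quotient.mk _ c) = (1 : IsLocalRing.ResidueField R) ⊗ₜ[R] c := fun c => rfl
  have h := (Groth.Agent.S5066.result R).1 inferInstance C E
  have : (fun φ : E →ₐ[R] C =>
      (Algebra.TensorProduct.includeRight : C →ₐ[R] IsLocalRing.ResidueField R ⊗[R] C).comp φ) =
      (fun ψ => e.toAlgHom.comp ψ) ∘ fun φ : E →ₐ[R] C =>
        (Ideal.Quotient.mkₐ R (m.map (algebraMap R C))).comp φ :=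
    funext fun φ => AlgHom.ext fun x => (he (φ x)).symm
  rw [this]
  refine Function.Bijective.comp ⟨fun a b hab => AlgHom.ext fun x => e.injective (AlgHom.congr_fun hab x),
    fun b => ⟨e.symm.toAlgHom.comp b, AlgHom.ext fun x => e.apply_symm_apply (b x)⟩⟩ h

variable {B C : Type u} [CommRing B] [HopfAlgebra R B] [Coalgebra.IsCocomm R B] [Module.Finite R B]
  [Module.Projective R B] [Algebra.Etale R (CartDual.D R B)]
  [CommRing C] [HopfAlgebra R C] [Coalgebra.IsCocomm R C] [Module.Finite R C] [Module.Projective R C]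

theorem bialgHom_ext {φ ψ : C →ₐc[R] B} (h : ∀ c : C, (1 : IsLocalRing.ResidueField R) ⊗ₜ[R] (φ c) =
    (1 : IsLocalRing.ResidueField R) ⊗ₜ[R] (ψ c)) : φ = ψ := by
  have ht : ∀ x : CartDual.D R B, CartDual.transpose R φ x = CartDual.transpose R ψ x :=
    AlgHom.congr_fun ((red_bijective (CartDual.D R B) (CartDual.D R C)).1
      (a₁ := (CartDual.transpose R φ : CartDual.D R B →ₐ[R] CartDual.D R C))
      (a₂ := (CartDual.transpose R ψ : CartDual.D R B →ₐ[R] CartDual.D R C)) (AlgHom.ext fun x => by
        rw [AlgHom.comp_apply, AlgHom.comp_apply, ← sub_eq_zero]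
        simp only [Algebra.TensorProduct.includeRight_apply, ← TensorProduct.tmul_sub]
        refine red_eq_zero (CartDual.toDual R C) _ fun c => ?_
        rw [map_sub, LinearMap.sub_apply, map_sub, sub_eq_zero]
        exact residue_apply_eq x (h c)))
  refine BialgHom.ext fun c => (Triple.eval_bijective (R := R) B).1 (WithConv.ofConv_injective (LinearMap.ext fun x => ?_))
  exact LinearMap.congr_fun (congrArg WithConv.ofConv (ht x)) c

set_option maxHeartbeats 1000000 in
theorem exists_lift (φ₀ : (IsLocalRing.ResidueField R ⊗[R] C) →ₐc[IsLocalRing.ResidueField R]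
      (IsLocalRing.ResidueField R ⊗[R] B)) :
    ∃ φ : C →ₐc[R] B, ∀ c : C, φ₀ ((1 : IsLocalRing.ResidueField R) ⊗ₜ[R] c) =
      (1 : IsLocalRing.ResidueField R) ⊗ₜ[R] (φ c) := by
  let k := IsLocalRing.ResidueField R
  choose β hβ using fun c : C => exists_one_tmul (φ₀ ((1 : k) ⊗ₜ[R] c))
  let g : CartDual.D R B →ₐ[R] k ⊗[R] CartDual.D R C :=
    ((SplitMult.bcEquiv (R := R) k C).symm.toAlgHom.restrictScalars R).comp
      (((CartDual.transpose k φ₀ : CartDual.D k (k ⊗[R] B) →ₐ[k] CartDual.D k (k ⊗[R] C)).restrictScalars R).comp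
        (((SplitMult.bcAlg (R := R) k B).restrictScalars R).comp Algebra.TensorProduct.includeRight))
  obtain ⟨t, ht⟩ := (red_bijective (CartDual.D R B) (CartDual.D R C)).2 g
  have key : ∀ (x : CartDual.D R B) (c : C),
      IsLocalRing.residue R ((t x).ofConv c) = IsLocalRing.residue R (x.ofConv (β c)) := by
    intro x c
    have h1 : SplitMult.bcEquiv (R := R) k C ((1 : k) ⊗ₜ t x) = _ :=
      congrArg (SplitMult.bcEquiv (R := R) k C) (AlgHom.congr_fun ht x)
    rw [show g x = (SplitMult.bcEquiv (R := R) k C).symm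
      (CartDual.transpose k φ₀ (SplitMult.bcAlg (R := R) k B ((1 : k) ⊗ₜ x))) from rfl, AlgEquiv.apply_symm_apply] at h1
    have h2 : (SplitMult.bcAlg (R := R) k C ((1 : k) ⊗ₜ t x)).ofConv ((1 : k) ⊗ₜ[R] c) =
        (SplitMult.bcAlg (R := R) k B ((1 : k) ⊗ₜ x)).ofConv (φ₀ ((1 : k) ⊗ₜ[R] c)) :=
      LinearMap.congr_fun (congrArg WithConv.ofConv h1) ((1 : k) ⊗ₜ[R] c)
    rw [SplitMult.bcAlg_apply, SplitMult.bcAlg_apply, SplitMult.bcLift_tmul, SplitMult.bcLift_tmul, one_smul, one_smul,
      ← hβ] at h2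
    have h3 : (bcForm k (t x)).ofConv ((1 : k) ⊗ₜ[R] c) = (bcForm k x).ofConv ((1 : k) ⊗ₜ[R] β c) := h2
    rwa [bcForm_apply, bcForm_apply, one_mul, one_mul] at h3
  have hβmul : ∀ c c' : C, (1 : k) ⊗ₜ[R] (β c * β c') = (1 : k) ⊗ₜ[R] β (c * c') := fun c c' => by
    rw [hβ, show (1 : k) ⊗ₜ[R] (β c * β c') = ((1 : k) ⊗ₜ[R] β c) * ((1 : k) ⊗ₜ[R] β c') by simp, hβ, hβ, ← map_mul]
    simp
  have hβone : (1 : k) ⊗ₜ[R] β 1 = (1 : k) ⊗ₜ[R] (1 : B) := by
    rw [hβ, ← Algebra.TensorProduct.one_def, map_one]
    rfl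
  let t' : CartDual.D R B →ₐc[R] CartDual.D R C := BialgHom.ofAlgHom t
    ((red_bijective (CartDual.D R B) R).1 (AlgHom.ext fun x => by
      simp only [AlgHom.comp_apply, Algebra.TensorProduct.includeRight_apply, Bialgebra.counitAlgHom_apply]
      apply (TensorProduct.rid R (IsLocalRing.ResidueField R)).injective
      rw [TensorProduct.rid_tmul, TensorProduct.rid_tmul, Algebra.smul_def, mul_one, Algebra.smul_def, mul_one]
      show IsLocalRing.residue R ((t x).ofConv 1) = IsLocalRing.residue R (x.ofConv 1)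
      rw [key, residue_apply_eq x hβone]))
    ((red_bijective (CartDual.D R B) (CartDual.D R C ⊗[R] CartDual.D R C)).1 (AlgHom.ext fun x => by
      simp only [AlgHom.comp_apply, Algebra.TensorProduct.includeRight_apply, Bialgebra.comulAlgHom_apply]
      refine red₂_eq fun c c' => ?_
      rw [CartDual.ev₂_coalgebra_comul_tmul]
      show _ = IsLocalRing.residue R ((t x).ofConv (c * c'))
      rw [key, ← residue_apply_eq x (hβmul c c'), show x.ofConv (β c * β c') = x (β c * β c') from rfl,
        ← CartDual.ev₂_coalgebra_comul_tmul R B x]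
      generalize CoalgebraStruct.comul (R := R) x = z
      induction z using TensorProduct.induction_on with
      | zero => simp
      | tmul p q =>
          rw [Algebra.TensorProduct.map_tmul, CartDual.ev₂_tmul, CartDual.ev₂_tmul, map_mul, map_mul]
          show IsLocalRing.residue R ((t p).ofConv c) * IsLocalRing.residue R ((t q).ofConv c') = _
          rw [key, key]
      | add p q hp hq => simp only [map_add, LinearMap.add_apply, hp, hq]))
  let evB := @BialgEquiv.ofBijective R B (CartDual.D R (CartDual.D R B)) _ _ _ _ _ (CartDual.eval R B)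
    (Triple.eval_bijective B)
  let φ : C →ₐc[R] B := ((evB.symm : CartDual.D R (CartDual.D R B) →ₐc[R] B).comp
    (CartDual.transpose R t')).comp (CartDual.eval R C)
  refine ⟨φ, fun c => ?_⟩
  rw [← hβ]
  refine (red_eq fun x => ?_)
  rw [← key]
  have h4 : evB (φ c) = CartDual.transpose R t' (CartDual.eval R C c) := evB.apply_symm_apply _
  have h5 : x.ofConv (φ c) = (t x).ofConv c := LinearMap.congr_fun (congrArg WithConv.ofConv h4) x
  rw [h5]

end

end Groth.Agent.Lib.OT67.HenselDual
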