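import Groth.Agent.Lib.OT67.OpenPart
import Groth.Agent.Lib.OT67.QuasiIso
import Mathlib

/-!
Existence of the open and closed subgroup of multiplicative type over a complete Noetherian ring.
-/

open TensorProduct

set_option linter.style.haveILetI false

universe u

namespace Groth.Agent.Lib.OT67.OpenPartMain

noncomputable section

open Groth.Agent.H83.MultType HomMod

theorem isQuasiIsotrivial {R : Type u} [CommRing R] {B : Type u} [CommRing B] [HopfAlgebra R B]
    (h : SGA3b.IsIsotrivial R B) : SGA3b.IsQuasiIsotrivial R B := by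
  obtain ⟨S, _, _, het, -, hff, M, _, ⟨e⟩⟩ := h
  refine ⟨{1}, Ideal.span_singleton_one, fun f hf => ?_⟩
  rw [Set.mem_singleton_iff] at hf
  subst hf
  let ε : R ≃ₐ[R] Localization.Away (1 : R) := IsLocalization.atOne R (Localization.Away (1 : R))
  let g : Localization.Away (1 : R) →+* S := (algebraMap R S).comp (ε.symm.toAlgHom.toRingHom)
  letI algLS : Algebra (Localization.Away (1 : R)) S := g.toAlgebra
  haveI : IsScalarTower R (Localization.Away (1 : R)) S := IsScalarTower.of_algebraMap_eq fun r => by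
    show algebraMap R S r = algebraMap R S (ε.symm (algebraMap R _ r))
    rw [AlgEquiv.commutes]; rfl
  have hg : g.FaithfullyFlat :=
    RingHom.FaithfullyFlat.stableUnderComposition _ _ (RingHom.FaithfullyFlat.of_bijective ε.symm.bijective)
      (RingHom.faithfullyFlat_algebraMap_iff.mpr hff)
  haveI : Algebra.Etale R (Localization.Away (1 : R)) := Algebra.Etale.of_isLocalizationAway (1 : R)
  obtain ⟨T, -⟩ := exists_towerEquiv R (Localization.Away (1 : R)) S B
  exact ⟨S, inferInstance, algLS, Algebra.Etale.of_restrictScalars R _ _, hg, M, inferInstance, ⟨T.symm.trans e⟩⟩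

theorem isIsotrivial_of_equiv {R : Type u} [CommRing R] {C D : Type u} [CommRing C] [HopfAlgebra R C] [CommRing D]
    [HopfAlgebra R D] (e : C ≃ₐc[R] D) (h : SGA3b.IsIsotrivial R C) : SGA3b.IsIsotrivial R D := by
  obtain ⟨R', _, _, het, hfin, hff, M, _, ⟨g⟩⟩ := h
  exact ⟨R', inferInstance, inferInstance, het, hfin, hff, M, inferInstance, ⟨(QuasiIso.bcCongr R' e).symm.trans g⟩⟩

theorem flat_of_isotrivial {R : Type u} [CommRing R] {B : Type u} [CommRing B] [HopfAlgebra R B]
    (h : SGA3b.IsIsotrivial R B) : Module.Flat R B := by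
  obtain ⟨S, _, _, -, -, hff, M, _, ⟨e⟩⟩ := h
  haveI : Module.Free S (S ⊗[R] B) := Module.Free.of_equiv e.toAlgEquiv.toLinearEquiv.symm
  exact Module.Flat.of_flat_tensorProduct R B S

/-- The homomorphism onto the open and closed subgroup of multiplicative type. -/
theorem exists_openPart {A : Type u} [CommRing A] [IsNoetherianRing A] {I : Ideal A} [IsAdicComplete I A]
    {C : Type u} [CommRing C] [HopfAlgebra A C] (hft : Algebra.FiniteType A C)
    (hfl : ∀ (q : Ideal C) [q.IsPrime], Ideal.map (algebraMap A C) I ≤ q → Module.Flat A (Localization.AtPrime q))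
    (h0 : SGA3b.IsIsotrivial (A ⧸ I) ((A ⧸ I) ⊗[A] C)) :
    ∃ (B : Type u) (_ : CommRing B) (_ : HopfAlgebra A B) (φ : C →ₐc[A] B) (e : C),
      SGA3b.IsIsotrivial A B ∧ Function.Surjective φ ∧ IsIdempotentElem e ∧
        e ∈ Ideal.map (algebraMap A C) I ∧ RingHom.ker (φ : C →ₐ[A] B) = Ideal.span {e} ∧
          (∀ c, φ c ∈ (I • ⊤ : Submodule A B) → c ∈ (I • ⊤ : Submodule A C)) ∧
            Nonempty (((A ⧸ I) ⊗[A] B) ≃ₐc[A ⧸ I] ((A ⧸ I) ⊗[A] C)) := by
  haveI := hft
  obtain ⟨B, _, _, hB, ⟨e₀⟩⟩ := Groth.Agent.S2980.result A I ((A ⧸ I) ⊗[A] C) h0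
  haveI := flat_of_isotrivial hB
  obtain ⟨φ, hφ⟩ := FormalMult.exists_lift hB hfl (isQuasiIsotrivial h0)
    (e₀.symm : ((A ⧸ I) ⊗[A] C) →ₐc[A ⧸ I] ((A ⧸ I) ⊗[A] B))
  have hinj : ∀ c, φ c ∈ (I • ⊤ : Submodule A B) → c ∈ (I • ⊤ : Submodule A C) := fun c hc => by
    rw [← one_tmul_eq_zero_iff] at hc ⊢
    refine EquivLike.injective e₀.symm ?_
    rw [_root_.map_zero]
    exact (hφ c).trans hc
  have hI : I ≤ Ideal.jacobson ⊥ := IsAdicComplete.le_jacobson_bot I
  have hsurj : Function.Surjective φ := OpenPart.surjective_of_mod φ hI hB fun b => by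
    obtain ⟨c, hc⟩ := TensorProduct.mk_surjective A C (A ⧸ I) Ideal.Quotient.mk_surjective (e₀ ((1 : A ⧸ I) ⊗ₜ b))
    refine ⟨c, ?_⟩
    rw [← one_tmul_eq_zero_iff, TensorProduct.tmul_sub, sub_eq_zero]
    refine (hφ c).symm.trans ?_
    show e₀.symm ((1 : A ⧸ I) ⊗ₜ[A] c) = _
    rw [show ((1 : A ⧸ I) ⊗ₜ[A] c) = e₀ ((1 : A ⧸ I) ⊗ₜ b) from hc]
    exact e₀.toAlgEquiv.symm_apply_apply _
  obtain ⟨e, he, heI, hK⟩ := OpenPart.exists_idempotent hI hsurj hinj
  exact ⟨B, inferInstance, inferInstance, φ, e, hB, hsurj, he, heI, hK, hinj, ⟨e₀⟩⟩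

/-- The quotient by the kernel is the image. -/
theorem exists_quotient_equiv {A : Type u} [CommRing A] {B : Type u} [CommRing B] [HopfAlgebra A B]
    {C : Type u} [CommRing C] [HopfAlgebra A C] {φ : C →ₐc[A] B} (hφ : Function.Surjective φ) (J : Ideal C)
    [J.IsHopfIdeal A] (hJ : RingHom.ker (φ : C →ₐ[A] B) = J) : Nonempty ((C ⧸ J) ≃ₐc[A] B) := by
  let L : (C ⧸ J) →ₐ[A] B := Ideal.Quotient.liftₐ J (φ : C →ₐ[A] B) fun a ha => by rw [← hJ] at ha; exact ha
  have hL : ∀ c, L (Ideal.Quotient.mk J c) = φ c := fun c => rfl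
  let Lc : (C ⧸ J) →ₐc[A] B := BialgHom.ofAlgHom L
    (Ideal.Quotient.algHom_ext A (AlgHom.ext fun c => CoalgHomClass.counit_comp_apply φ c))
    (Ideal.Quotient.algHom_ext A (AlgHom.ext fun c => by
      show Algebra.TensorProduct.map L L (CoalgebraStruct.comul (R := A) (Ideal.Quotient.mk J c)) =
        CoalgebraStruct.comul (R := A) (φ c)
      rw [← CoalgHomClass.map_comp_comul_apply φ c,
        show CoalgebraStruct.comul (R := A) (Ideal.Quotient.mk J c) =
          Algebra.TensorProduct.map (Ideal.Quotient.mkₐ A J) (Ideal.Quotient.mkₐ A J) (CoalgebraStruct.comul (R := A) c) from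
          (CoalgHomClass.map_comp_comul_apply (Bialgebra.Quotient.mkBialgHom J) c).symm]
      generalize CoalgebraStruct.comul (R := A) c = z
      induction z using TensorProduct.induction_on with
      | zero => simp
      | tmul p q => simp [hL]
      | add p q hp hq => simp only [_root_.map_add, hp, hq]))
  refine ⟨BialgEquiv.ofBijective Lc ⟨?_, fun b => ?_⟩⟩
  · intro x y hxy
    obtain ⟨a, rfl⟩ := Ideal.Quotient.mk_surjective x
    obtain ⟨b, rfl⟩ := Ideal.Quotient.mk_surjective y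
    refine Ideal.Quotient.eq.2 ?_
    rw [← hJ, RingHom.mem_ker, _root_.map_sub, sub_eq_zero]
    exact hxy
  · obtain ⟨c, rfl⟩ := hφ b
    exact ⟨Ideal.Quotient.mk J c, rfl⟩

end

end Groth.Agent.Lib.OT67.OpenPartMain
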