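import Mathlib
import Groth.Prelude.Def_W4c5ffgsreadingcourseOT
import Groth.Prelude.Def_CartDual
import Groth.Agent.S18467
import Groth.Agent.Lib.DualEval

open TensorProduct WithConv

universe u v

namespace Groth.Agent.Lib.OT67

section powConv
variable {R : Type u} [CommRing R] {A : Type v} [CommRing A] [Bialgebra R A]

theorem comp_pow {B : Type*} {C : Type*} [CommRing B] [Algebra R B] [CommRing C] [Algebra R C] (h : B →ₐ[R] C)
    (f : WithConv (A →ₐ[R] B)) (n : ℕ) :
    h.comp (f ^ n).ofConv = ((toConv (h.comp f.ofConv)) ^ n).ofConv := by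
  induction n with
  | zero => exact AlgHom.ext fun a => h.commutes _
  | succ n ih => rw [pow_succ, pow_succ, AlgHom.comp_convMul_distrib, ih, toConv_ofConv]

end powConv

variable {R : Type u} [CommRing R] {A : Type u} [CommRing A] [HopfAlgebra R A]

theorem powConv_comp (m n : ℕ) :
    (SGA3b.powConv R A m).comp (SGA3b.powConv R A n) = SGA3b.powConv R A (m * n) := by
  rw [SGA3b.powConv, SGA3b.powConv, comp_pow, ofConv_toConv, AlgHom.comp_id, toConv_ofConv, ← pow_mul,
    SGA3b.powConv]

theorem powConv_one : SGA3b.powConv R A 1 = AlgHom.id R A := by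
  rw [SGA3b.powConv, pow_one, ofConv_toConv]

theorem counit_powConv (n : ℕ) (a : A) :
    Bialgebra.counitAlgHom R A (SGA3b.powConv R A n a) = Bialgebra.counitAlgHom R A a := by
  rw [← AlgHom.comp_apply, SGA3b.powConv, comp_pow, ofConv_toConv, AlgHom.comp_id]
  have : toConv (Bialgebra.counitAlgHom R A) = (1 : WithConv (A →ₐ[R] R)) :=
    WithConv.ofConv_injective (AlgHom.ext fun _ => rfl)
  rw [this, one_pow]
  rfl

variable (p : ℕ) [Fact p.Prime]

theorem powConv_mod (hp : (toConv (AlgHom.id R A)) ^ p = 1) (n : ℕ) :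
    SGA3b.powConv R A n = SGA3b.powConv R A (n % p) := by
  rw [SGA3b.powConv, SGA3b.powConv, ← pow_eq_pow_mod n hp]

/-- The action of the units of `ℤ/p`. -/
noncomputable def rho (hp : (toConv (AlgHom.id R A)) ^ p = 1) : (ZMod p)ˣ →* Module.End R A where
  toFun m := (SGA3b.powConv R A (m : ZMod p).val).toLinearMap
  map_one' := by
    rw [Units.val_one, ZMod.val_one, powConv_one]
    rfl
  map_mul' m n := by
    rw [Units.val_mul, ZMod.val_mul, ← powConv_mod p hp, ← powConv_comp]
    rfl

variable (u : R) (χ : (ZMod p)ˣ →* Rˣ)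

theorem proj_eq_lift (hp : (toConv (AlgHom.id R A)) ^ p = 1) (i : ℕ) :
    OortTate.proj R A p u χ i =
      MonoidAlgebra.lift R (Module.End R A) (ZMod p)ˣ (rho p hp)
        (u • ∑ m : (ZMod p)ˣ, ((χ m⁻¹ : Rˣ) : R) ^ i • MonoidAlgebra.of R (ZMod p)ˣ m) := by
  rw [OortTate.proj, map_smul, map_sum]
  congr 1
  refine Finset.sum_congr rfl fun m _ => ?_
  rw [map_smul, MonoidAlgebra.lift_of]
  rfl

variable {u χ}

theorem proj_idem (hu : u * ((p - 1 : ℕ) : R) = 1) (hχ : ∀ m : (ZMod p)ˣ, m ≠ 1 → IsUnit ((χ m : R) - 1))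
    (hp : (toConv (AlgHom.id R A)) ^ p = 1) :
    CompleteOrthogonalIdempotents (fun i : Fin (p - 1) => (OortTate.proj R A p u χ i : Module.End R A)) := by
  simp only [proj_eq_lift p u χ hp]
  exact (Groth.Agent.S18467.result p R u hu χ hχ).map
    (MonoidAlgebra.lift R (Module.End R A) (ZMod p)ˣ (rho p hp)).toRingHom

theorem powConv_proj (hp : (toConv (AlgHom.id R A)) ^ p = 1) (m : (ZMod p)ˣ) (i : ℕ) (a : A) :
    SGA3b.powConv R A (m : ZMod p).val (OortTate.proj R A p u χ i a) =
      ((χ m : Rˣ) : R) ^ i • OortTate.proj R A p u χ i a := by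
  simp only [OortTate.proj, LinearMap.smul_apply, LinearMap.sum_apply, AlgHom.toLinearMap_apply, map_smul,
    map_sum, Finset.smul_sum, smul_smul]
  refine Fintype.sum_equiv (Equiv.mulLeft m) _ _ fun n => ?_
  rw [Equiv.coe_mulLeft]
  have h : SGA3b.powConv R A (m : ZMod p).val (SGA3b.powConv R A (n : ZMod p).val a) =
      SGA3b.powConv R A ((m * n : (ZMod p)ˣ) : ZMod p).val a :=
    (DFunLike.congr_fun (map_mul (rho p hp) m n) a).symm
  rw [h]
  congr 1
  have : ((χ m : Rˣ) : R) ^ i * ((χ m⁻¹ : Rˣ) : R) ^ i = 1 := by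
    rw [← mul_pow, ← Units.val_mul, ← map_mul, mul_inv_cancel, map_one, Units.val_one, one_pow]
  simp only [mul_inv, map_mul, Units.val_mul, mul_pow]
  linear_combination (-(u * ((χ n⁻¹ : Rˣ) : R) ^ i)) * this

theorem counit_proj (i : ℕ) (a : A) (ha : Bialgebra.counitAlgHom R A a = 0) :
    Bialgebra.counitAlgHom R A (OortTate.proj R A p u χ i a) = 0 := by
  simp only [OortTate.proj, LinearMap.smul_apply, LinearMap.sum_apply, AlgHom.toLinearMap_apply, map_smul,
    map_sum, counit_powConv, ha, smul_zero, Finset.sum_const_zero]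

theorem mem_eigenAug {i : ℕ} {a : A} :
    a ∈ OortTate.eigenAug R A p χ i ↔ Bialgebra.counitAlgHom R A a = 0 ∧
      ∀ m : (ZMod p)ˣ, SGA3b.powConv R A (m : ZMod p).val a = ((χ m : Rˣ) : R) ^ i • a := by
  simp [OortTate.eigenAug, Submodule.mem_inf, Submodule.mem_iInf, Module.End.mem_eigenspace_iff]

theorem proj_of_mem (hu : u * ((p - 1 : ℕ) : R) = 1) {i : ℕ} {a : A} (ha : a ∈ OortTate.eigenAug R A p χ i) :
    OortTate.proj R A p u χ i a = a := by
  rw [mem_eigenAug] at ha
  simp only [OortTate.proj, LinearMap.smul_apply, LinearMap.sum_apply, AlgHom.toLinearMap_apply, ha.2, smul_smul]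
  have : ∀ m : (ZMod p)ˣ, ((χ m⁻¹ : Rˣ) : R) ^ i * ((χ m : Rˣ) : R) ^ i = 1 := fun m => by
    rw [← mul_pow, ← Units.val_mul, ← map_mul, inv_mul_cancel, map_one, Units.val_one, one_pow]
  simp only [this, one_smul, Finset.sum_const, Finset.card_univ, ZMod.card_units]
  rw [← Nat.cast_smul_eq_nsmul R, smul_smul, hu, one_smul]

theorem map_proj (hu : u * ((p - 1 : ℕ) : R) = 1)
    (hp : (toConv (AlgHom.id R A)) ^ p = 1) (i : ℕ) :
    OortTate.eigenAug R A p χ i =
      Submodule.map (OortTate.proj R A p u χ i) (LinearMap.ker (Bialgebra.counitAlgHom R A).toLinearMap) := by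
  apply le_antisymm
  · intro a ha
    exact ⟨a, ((mem_eigenAug p).1 ha).1, proj_of_mem p hu ha⟩
  · rintro _ ⟨a, ha, rfl⟩
    exact (mem_eigenAug p).2 ⟨counit_proj p i a ha, fun m => powConv_proj p hp m i a⟩

theorem decomposition (hu : u * ((p - 1 : ℕ) : R) = 1) (hχ : ∀ m : (ZMod p)ˣ, m ≠ 1 → IsUnit ((χ m : R) - 1))
    (hp : (toConv (AlgHom.id R A)) ^ p = 1) :
    iSupIndep (fun i : Fin (p - 1) => OortTate.eigenAug R A p χ (i : ℕ)) ∧
      (⨆ i : Fin (p - 1), OortTate.eigenAug R A p χ (i : ℕ)) =
        LinearMap.ker (Bialgebra.counitAlgHom R A).toLinearMap := by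
  have hc := proj_idem p hu hχ hp
  refine ⟨fun i => ?_, le_antisymm (iSup_le fun i => inf_le_left) fun a ha => ?_⟩
  · rw [Submodule.disjoint_def]
    intro a ha hb
    rw [← proj_of_mem p hu ha]
    have hle : (⨆ (j : Fin (p - 1)) (_ : j ≠ i), OortTate.eigenAug R A p χ (j : ℕ)) ≤
        LinearMap.ker (OortTate.proj R A p u χ (i : ℕ)) := by
      refine iSup₂_le fun j hj b hb => ?_
      rw [LinearMap.mem_ker, ← proj_of_mem p hu hb]
      exact DFunLike.congr_fun (hc.ortho hj.symm) b
    exact hle hb
  · have h1 := DFunLike.congr_fun hc.complete a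
    rw [LinearMap.sum_apply, Module.End.one_apply] at h1
    rw [← h1]
    refine Submodule.sum_mem _ fun i _ => Submodule.mem_iSup_of_mem i ?_
    rw [map_proj p hu hp]
    exact ⟨a, ha, rfl⟩

section dual
variable [Module.Finite R A] [Module.Projective R A]

theorem ev₂_map_transpose (g h : CartDual.D R A →ₗ[R] CartDual.D R A) (g' h' : A →ₗ[R] A)
    (hg : ∀ f a, g f a = f (g' a)) (hh : ∀ f a, h f a = f (h' a)) (y : CartDual.D R A ⊗[R] CartDual.D R A)
    (t : A ⊗[R] A) :
    CartDual.ev₂ R A (TensorProduct.map g h y) t = CartDual.ev₂ R A y (TensorProduct.map g' h' t) := by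
  induction y using TensorProduct.induction_on with
  | zero => simp
  | add p q hp hq => simp only [map_add, LinearMap.add_apply, hp, hq]
  | tmul x z =>
    induction t using TensorProduct.induction_on with
    | zero => simp
    | add p q hp hq => simp only [map_add, hp, hq]
    | tmul a b => simp [hg, hh]

theorem powConv_dual_apply [Coalgebra.IsCocomm R A] (n : ℕ) (f : CartDual.D R A) (a : A) :
    SGA3b.powConv R (CartDual.D R A) n f a = f (SGA3b.powConv R A n a) := by
  induction n generalizing f a with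
  | zero =>
    show algebraMap R (CartDual.D R A) (Coalgebra.counit (R := R) f) a = f (algebraMap R A (Coalgebra.counit a))
    rw [Algebra.algebraMap_eq_smul_one, Algebra.algebraMap_eq_smul_one]
    show Coalgebra.counit (R := R) f * (1 : CartDual.D R A) a = f.ofConv (Coalgebra.counit (R := R) a • 1)
    rw [map_smul, smul_eq_mul, DualEval.one_apply, CartDual.coalgebra_counit_apply, CartDual.coe_apply, mul_comm]
  | succ n ih =>
    have h1 : ∀ {B : Type u} [CommRing B] [HopfAlgebra R B] (b : B),
        SGA3b.powConv R B (n + 1) b =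
          LinearMap.mul' R B (TensorProduct.map (SGA3b.powConv R B n).toLinearMap LinearMap.id
            (Coalgebra.comul (R := R) b)) := by
      intro B _ _ b
      rw [SGA3b.powConv, pow_succ, SGA3b.powConv]
      show ((toConv (AlgHom.id R B)) ^ n * toConv (AlgHom.id R B)) b = _
      rw [AlgHom.convMul_apply]
      induction Coalgebra.comul (R := R) b using TensorProduct.induction_on with
      | zero => simp
      | add p q hp hq => simp only [map_add, hp, hq]
      | tmul p q => simp
    rw [h1, h1]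
    have h2 : ∀ y : CartDual.D R A ⊗[R] CartDual.D R A,
        (LinearMap.mul' R (CartDual.D R A) y) a = CartDual.ev₂ R A y (Coalgebra.comul (R := R) a) := by
      intro y
      induction y using TensorProduct.induction_on with
      | zero => simp
      | add p q hp hq =>
        rw [map_add, map_add, LinearMap.add_apply, ← hp, ← hq]
        rfl
      | tmul x z =>
        rw [LinearMap.mul'_apply, DualEval.mul_apply, CartDual.ev₂_tmul_eq']
        rfl
    rw [h2, ev₂_map_transpose _ LinearMap.id (SGA3b.powConv R A n).toLinearMap LinearMap.id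
      (fun f a => ih f a) (fun f a => rfl)]
    induction (TensorProduct.map (SGA3b.powConv R A n).toLinearMap (LinearMap.id : A →ₗ[R] A))
      (Coalgebra.comul (R := R) a) using TensorProduct.induction_on with
    | zero => simp [CartDual.coe_apply]
    | add p q hp hq => simp only [map_add, hp, hq, CartDual.coe_apply]
    | tmul b c => rw [LinearMap.mul'_apply, CartDual.ev₂_coalgebra_comul_tmul]

theorem pow_eq_one_dual [Coalgebra.IsCocomm R A] (hp : (toConv (AlgHom.id R A)) ^ p = 1) :
    (toConv (AlgHom.id R (CartDual.D R A))) ^ p = 1 := by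
  apply WithConv.ofConv_injective
  refine AlgHom.ext fun f => WithConv.ext (LinearMap.ext fun a => ?_)
  show SGA3b.powConv R (CartDual.D R A) p f a = SGA3b.powConv R (CartDual.D R A) 0 f a
  rw [powConv_dual_apply, powConv_dual_apply, SGA3b.powConv, SGA3b.powConv, hp, pow_zero]

theorem eigen_restrict_bijective [Coalgebra.IsCocomm R A] (hu : u * ((p - 1 : ℕ) : R) = 1)
    (hp : (toConv (AlgHom.id R A)) ^ p = 1) (i : ℕ) :
    Function.Bijective (fun f : OortTate.eigenAug R (CartDual.D R A) p χ i =>
      ((CartDual.toDual R A) (f : CartDual.D R A)).comp (OortTate.eigenAug R A p χ i).subtype) := by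
  have hker : ∀ a : A, Bialgebra.counitAlgHom R A (a - Bialgebra.counitAlgHom R A a • (1 : A)) = 0 := fun a => by
    simp
  let P : A →ₗ[R] OortTate.eigenAug R A p χ i :=
    ((OortTate.proj R A p u χ i) ∘ₗ (LinearMap.id -
      (LinearMap.toSpanSingleton R A 1) ∘ₗ (Bialgebra.counitAlgHom R A).toLinearMap)).codRestrict _ fun a => by
        rw [map_proj p hu hp]
        exact ⟨_, hker a, rfl⟩
  have hP : ∀ a : A, (P a : A) =
      OortTate.proj R A p u χ i (a - Bialgebra.counitAlgHom R A a • (1 : A)) := fun a => rfl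
  have hPof : ∀ a : OortTate.eigenAug R A p χ i, P (a : A) = a := fun a => Subtype.ext <| by
    rw [hP, ((mem_eigenAug p).1 a.2).1, zero_smul, sub_zero, proj_of_mem p hu a.2]
  constructor
  · intro f g h
    have hf : ∀ F : OortTate.eigenAug R (CartDual.D R A) p χ i, ∀ a : A,
        (F : CartDual.D R A) a = (F : CartDual.D R A) (P a : A) := by
      intro F a
      obtain ⟨h1, h2⟩ := (mem_eigenAug p).1 F.2
      have h1' : (F : CartDual.D R A) (1 : A) = 0 := h1
      rw [hP]
      change (F : CartDual.D R A).ofConv _ = (F : CartDual.D R A).ofConv _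
      change (F : CartDual.D R A).ofConv _ = 0 at h1'
      have hb : (F : CartDual.D R A).ofConv (a - Bialgebra.counitAlgHom R A a • (1 : A)) = (F : CartDual.D R A).ofConv a := by
        rw [map_sub, map_smul, h1', smul_zero, sub_zero]
      conv_lhs => rw [← hb]
      generalize a - Bialgebra.counitAlgHom R A a • (1 : A) = b
      have h3 := congrArg (fun G : CartDual.D R A => G.ofConv b) (proj_of_mem p hu F.2)
      conv_lhs => rw [← h3]
      simp only [OortTate.proj, LinearMap.smul_apply, LinearMap.sum_apply, AlgHom.toLinearMap_apply,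
        WithConv.ofConv_smul, WithConv.ofConv_sum, map_smul, map_sum]
      congr 1
      refine Finset.sum_congr rfl fun m _ => ?_
      congr 1
      exact powConv_dual_apply _ _ _
    refine Subtype.ext (WithConv.ext (LinearMap.ext fun a => ?_))
    show (f : CartDual.D R A) a = (g : CartDual.D R A) a
    rw [hf f, hf g]
    exact LinearMap.congr_fun h (P a)
  · intro l
    refine ⟨⟨toConv (l ∘ₗ P), (mem_eigenAug p).2 ⟨?_, fun m => WithConv.ext (LinearMap.ext fun a => ?_)⟩⟩, ?_⟩
    · show l (P 1) = 0
      have : P 1 = 0 := Subtype.ext (by rw [hP, map_one, one_smul, sub_self, map_zero]; rfl)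
      rw [this, map_zero]
    · show (SGA3b.powConv R (CartDual.D R A) _ (toConv (l ∘ₗ P))) a = ((χ m : Rˣ) : R) ^ i * l (P a)
      rw [powConv_dual_apply]
      show l (P _) = _
      rw [← smul_eq_mul, ← map_smul]
      congr 1
      refine Subtype.ext ?_
      rw [hP, Submodule.coe_smul, hP, counit_powConv, ← powConv_proj p hp]
      have hb : SGA3b.powConv R A (m : ZMod p).val a - Bialgebra.counitAlgHom R A a • (1 : A) =
          SGA3b.powConv R A (m : ZMod p).val (a - Bialgebra.counitAlgHom R A a • 1) := by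
        rw [map_sub, map_smul, map_one]
      rw [hb]
      generalize a - Bialgebra.counitAlgHom R A a • (1 : A) = b
      simp only [OortTate.proj, LinearMap.smul_apply, LinearMap.sum_apply, AlgHom.toLinearMap_apply, map_smul,
        map_sum]
      congr 1
      refine Finset.sum_congr rfl fun n _ => ?_
      congr 1
      rw [← AlgHom.comp_apply, ← AlgHom.comp_apply, powConv_comp, powConv_comp, mul_comm]
    · refine LinearMap.ext fun a => ?_
      show l (P a.1) = l a
      rw [hPof]

end dual

end Groth.Agent.Lib.OT67
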