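import Groth.Agent.Lib.OT67.Averaging
import Groth.Agent.Lib.OT67.IdemFibre
import Groth.Agent.H83.MultType.Functorial
import Groth.Agent.H83.MultType.Quot
import Groth.Prelude.Def_SGA3b
import Mathlib

/-!
A commutative group all of whose torsion lies in an open subgroup of multiplicative type is that subgroup.
-/

open TensorProduct WithConv

set_option linter.style.haveILetI false

universe u

namespace Groth.Agent.Lib.OT67.TorsionDense

noncomputable section

open Groth.Agent.H83.MultType

theorem idem_eq_zero_of_isNilpotent {R : Type u} [CommRing R] {e : R} (he : IsIdempotentElem e) (hn : IsNilpotent e) :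
    e = 0 := by
  obtain ⟨n, hn⟩ := hn
  rcases n with _ | n
  · rw [pow_zero] at hn; rw [← mul_one e, hn, mul_zero]
  · rwa [he.pow_succ_eq] at hn

/-- A Noetherian ring has finitely many idempotents. -/
theorem finite_idempotents (R : Type u) [CommRing R] [IsNoetherianRing R] : {e : R | IsIdempotentElem e}.Finite := by
  classical
  refine Set.Finite.of_finite_image (f := fun e => {P ∈ minimalPrimes R | e ∈ P}) ?_ ?_
  · exact (minimalPrimes.finite_of_isNoetherianRing R).finite_subsets.subset
      (by rintro _ ⟨e, -, rfl⟩ P hP; exact hP.1)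
  · intro e he f hf hef
    have key : ∀ a b : R, IsIdempotentElem a → IsIdempotentElem b →
        (∀ P ∈ minimalPrimes R, b ∈ P → a ∈ P) → a = a * b := by
      intro a b ha hb h
      have hn : IsNilpotent (a * (1 - b)) := nilpotent_iff_mem_prime.2 fun Q hQ => by
        obtain ⟨P, hP, hPQ⟩ := Ideal.exists_minimalPrimes_le (I := (⊥ : Ideal R)) (J := Q) bot_le
        refine hPQ ?_
        by_cases hbP : b ∈ P
        · exact Ideal.mul_mem_right _ P (h P hP hbP)
        · refine Ideal.mul_mem_left _ _ ((hP.1.1.mem_or_mem ?_).resolve_left hbP)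
          rw [mul_sub, mul_one, hb.eq, sub_self]
          exact P.zero_mem
      have := idem_eq_zero_of_isNilpotent (ha.mul hb.one_sub) hn
      rwa [mul_sub, mul_one, sub_eq_zero] at this
    rw [key e f he hf fun P hP hfP => ((Set.ext_iff.1 hef P).2 ⟨hP, hfP⟩).2, mul_comm]
    exact (key f e hf he fun P hP heP => ((Set.ext_iff.1 hef P).1 ⟨hP, heP⟩).2).symm

/-- Roots of characters of a finitely generated group. -/
theorem exists_root {M : Type u} [CommGroup M] [Group.FG M] {K : Type u} [Field K] [IsAlgClosed K] (χ : M →* K) (l : ℕ)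
    (hl : 0 < l) : ∃ (N : ℕ) (v : M →* K), 0 < N ∧ ∀ m, v m ^ (l * N) = χ m ^ N := by
  classical
  obtain ⟨ι, j, _, _, p, hp, e, ⟨E⟩⟩ := CommGroup.equiv_free_prod_prod_multiplicative_zmod M
  haveI : ∀ i, NeZero (p i ^ e i) := fun i => ⟨pow_ne_zero _ (hp i).ne_zero⟩
  let F := (i : ι) → Multiplicative (ZMod (p i ^ e i))
  let χ' : (j → Multiplicative ℤ) × F →* Kˣ := χ.toHomUnits.comp E.symm.toMonoidHom
  choose ρ hρ using fun k : j => IsAlgClosed.exists_pow_nat_eq (χ' (Pi.mulSingle k (Multiplicative.ofAdd 1), 1) : K) hl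
  have hρ0 : ∀ k, ρ k ≠ 0 := fun k h => by
    have := hρ k
    rw [h, zero_pow hl.ne'] at this
    exact Units.ne_zero _ this.symm
  let v₁ : (j → Multiplicative ℤ) →* Kˣ :=
    ∏ k : j, (zpowersHom Kˣ (Units.mk0 (ρ k) (hρ0 k))).comp (Pi.evalMonoidHom _ k)
  let v : M →* K := (Units.coeHom K).comp ((v₁.comp (MonoidHom.fst _ F)).comp E.toMonoidHom)
  refine ⟨Fintype.card F, v, Fintype.card_pos, fun m => ?_⟩
  have hv₁ : ∀ k, v₁ (Pi.mulSingle k (Multiplicative.ofAdd 1)) = Units.mk0 (ρ k) (hρ0 k) := fun k => by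
    simp only [v₁, MonoidHom.finsetProd_apply, MonoidHom.comp_apply, Pi.evalMonoidHom_apply]
    rw [Finset.prod_eq_single k (fun b _ hb => by rw [Pi.mulSingle_eq_of_ne hb, map_one]) (by simp), Pi.mulSingle_eq_same]
    simp [zpowersHom_apply]
  have h1 : (powMonoidHom l : Kˣ →* Kˣ).comp v₁ = χ'.comp (MonoidHom.inl _ F) := by
    refine MonoidHom.functions_ext' _ _ _ fun k => ?_
    refine MonoidHom.ext_mint (Units.ext ?_)
    show ((v₁ (Pi.mulSingle k (Multiplicative.ofAdd 1)) ^ l : Kˣ) : K) = _
    rw [Units.val_pow_eq_pow_val, hv₁, Units.val_mk0, hρ]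
    rfl
  have h2 : ∀ (a : j → Multiplicative ℤ) (b : F), (v₁ a ^ l) ^ Fintype.card F = χ' (a, b) ^ Fintype.card F := fun a b => by
    have h1a : v₁ a ^ l = χ' (a, 1) := DFunLike.congr_fun h1 a
    rw [h1a, ← map_pow, ← map_pow, Prod.pow_mk, Prod.pow_mk, pow_card_eq_one (x := b), one_pow]
  have h := congrArg (Units.val : Kˣ → K) (h2 (E m).1 (E m).2)
  rw [Units.val_pow_eq_pow_val, Units.val_pow_eq_pow_val, Units.val_pow_eq_pow_val, ← pow_mul] at h
  simp only [v, MonoidHom.comp_apply, Units.coeHom_apply]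
  refine h.trans ?_
  simp [χ']

variable {A : Type u} [CommRing A] {B : Type u} [CommRing B] [HopfAlgebra A B]

/-- Points with values in an algebraically closed field of an isotrivial group have roots. -/
theorem exists_point_root [Algebra.FiniteType A B] (hB : SGA3b.IsIsotrivial A B) {K : Type u} [Field K] [IsAlgClosed K]
    [Algebra A K] (z : WithConv (B →ₐ[A] K)) (l : ℕ) (hl : 0 < l) :
    ∃ (N : ℕ) (v : WithConv (B →ₐ[A] K)), 0 < N ∧ v ^ (l * N) = z ^ N := by
  classical
  obtain ⟨S, _, _, -, hfin, hff, M, _, ⟨e⟩⟩ := hB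
  haveI : Nontrivial (S ⊗[A] K) := by
    by_contra hR
    rw [not_nontrivial_iff_subsingleton] at hR
    exact one_ne_zero ((Module.FaithfullyFlat.one_tmul_eq_zero_iff (R := A) (A := S) K (1 : K)).1 (Subsingleton.elim _ _))
  letI : Algebra K (S ⊗[A] K) := Algebra.TensorProduct.rightAlgebra
  haveI : Module.Finite K (S ⊗[A] K) :=
    Module.Finite.equiv (M := K ⊗[A] S) (Algebra.TensorProduct.commRight A K S).toLinearEquiv
  obtain ⟨mK, hmK⟩ := Ideal.exists_maximal (S ⊗[A] K)
  letI := Ideal.Quotient.field mK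
  let σ : K →ₐ[K] (S ⊗[A] K) ⧸ mK := Algebra.ofId _ _
  have hσ : Function.Bijective σ := IsAlgClosed.algebraMap_bijective_of_isIntegral (k := K) (K := (S ⊗[A] K) ⧸ mK)
  let g : S →ₐ[A] K := ((AlgEquiv.ofBijective σ hσ).symm.toAlgHom.restrictScalars A).comp
    ((Ideal.Quotient.mkₐ A mK).comp Algebra.TensorProduct.includeLeft)
  obtain ⟨d, -⟩ := exists_diag_map (A := B) g e
  haveI : Group.FG M := fg_of_finiteType inferInstance d
  let Y : WithConv (B →ₐ[A] K) → (K ⊗[A] B →ₐ[K] K) := fun y => AlgHom.liftEquiv A K B K y.ofConv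
  let γ : M → K ⊗[A] B := fun m => d.symm (MonoidAlgebra.single m 1)
  have hγ : ∀ m, IsGroupLikeElem K (γ m) := fun m =>
    (show IsGroupLikeElem K (MonoidAlgebra.single m (1 : K)) from ⟨by simp, by simp⟩).map d.symm
  have hmul : ∀ (y y' : WithConv (B →ₐ[A] K)) (m : M), Y (y * y') (γ m) = Y y (γ m) * Y y' (γ m) := fun y y' m => by
    have key : ∀ x : K ⊗[A] B, Y (y * y') x =
        Algebra.TensorProduct.lift (Y y) (Y y') (fun _ _ => .all _ _) (CoalgebraStruct.comul (R := K) x) := fun x => by
      induction x using TensorProduct.induction_on with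
      | zero => simp
      | add p q hp hq => simp only [_root_.map_add, hp, hq]
      | tmul r b =>
        rw [show r ⊗ₜ[A] b = r • ((1 : K) ⊗ₜ[A] b) by rw [TensorProduct.smul_tmul', smul_eq_mul, mul_one], _root_.map_smul,
          _root_.map_smul, _root_.map_smul, HomMod.comul_one_tmul]
        congr 1
        show AlgHom.liftEquiv A K B K (y * y').ofConv ((1 : K) ⊗ₜ b) = _
        rw [AlgHom.liftEquiv_tmul, one_smul, show (y * y').ofConv b = _ from AlgHom.convMul_apply y y' b]
        generalize CoalgebraStruct.comul (R := A) b = w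
        induction w using TensorProduct.induction_on with
        | zero => simp
        | tmul p q => simp [Y]
        | add p q hp hq => simp only [_root_.map_add, TensorProduct.tmul_add, hp, hq]
    rw [key, (hγ m).comul_eq_tmul_self, Algebra.TensorProduct.lift_tmul]
  have hpow : ∀ (y : WithConv (B →ₐ[A] K)) (n : ℕ) (m : M), Y (y ^ n) (γ m) = Y y (γ m) ^ n := fun y n m => by
    induction n with
    | zero =>
      have key : ∀ x : K ⊗[A] B, Y 1 x = CoalgebraStruct.counit (R := K) x := fun x => by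
        induction x using TensorProduct.induction_on with
        | zero => simp
        | tmul r b => simp [Y, Algebra.smul_def, mul_comm]
        | add p q hp hq => simp only [_root_.map_add, hp, hq]
      rw [pow_zero, pow_zero, key, (hγ m).counit_eq_one]
    | succ n ih => rw [pow_succ, hmul, ih, pow_succ]
  let χ : M →* K := (Y z).toMonoidHom.comp
    ((d.symm : MonoidAlgebra K M →ₐc[K] K ⊗[A] B).toAlgHom.toMonoidHom.comp (MonoidAlgebra.of K M))
  obtain ⟨N, v, hN, hv⟩ := exists_root χ l hl
  let V : K ⊗[A] B →ₐ[K] K :=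
    (MonoidAlgebra.lift K K M v).comp (d : K ⊗[A] B →ₐc[K] MonoidAlgebra K M).toAlgHom
  refine ⟨N, toConv ((AlgHom.liftEquiv A K B K).symm V), hN, WithConv.ofConv_injective ?_⟩
  apply (AlgHom.liftEquiv A K B K).injective
  have hext : ∀ φ ψ : K ⊗[A] B →ₐ[K] K, (∀ m, φ (γ m) = ψ (γ m)) → φ = ψ := fun φ ψ h => by
    refine AlgHom.ext fun x => ?_
    obtain ⟨w, rfl⟩ := EquivLike.surjective d.symm x
    induction w using MonoidAlgebra.induction_linear with
    | zero => simp
    | add p q hp hq => simp only [_root_.map_add, hp, hq]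
    | single m r =>
      rw [show MonoidAlgebra.single m r = r • MonoidAlgebra.single m (1 : K) by rw [MonoidAlgebra.smul_single, smul_eq_mul, mul_one],
        _root_.map_smul, _root_.map_smul, _root_.map_smul]
      exact congrArg (r • ·) (h m)
  refine hext _ _ fun m => ?_
  show Y (_ ^ (l * N)) (γ m) = Y (z ^ N) (γ m)
  rw [hpow, hpow]
  refine Eq.trans ?_ (hv m)
  congr 1
  show AlgHom.liftEquiv A K B K ((AlgHom.liftEquiv A K B K).symm V) (γ m) = v m
  rw [Equiv.apply_symm_apply]
  show MonoidAlgebra.lift K K M v (d (d.symm (MonoidAlgebra.single m 1))) = v m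
  rw [show d (d.symm (MonoidAlgebra.single m (1 : K))) = MonoidAlgebra.single m 1 from d.toAlgEquiv.apply_symm_apply _,
    MonoidAlgebra.lift_single, one_smul]

variable {C : Type u} [CommRing C] [HopfAlgebra A C] [Coalgebra.IsCocomm A C] {φ : C →ₐc[A] B}

set_option synthInstance.maxHeartbeats 400000 in
set_option maxHeartbeats 1000000 in
/-- An idempotent cutting out an open subgroup which contains the torsion vanishes. -/
theorem eq_zero [Algebra.FiniteType A C] (hB : SGA3b.IsIsotrivial A B) (hφ : Function.Surjective φ) {e : C}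
    (he : IsIdempotentElem e) (hK : RingHom.ker (φ : C →ₐ[A] B) = Ideal.span {e})
    (htors : ∀ n : ℕ, 0 < n → e ∈ SGA3b.torsionIdeal A C n) : e = 0 := by
  classical
  haveI : Algebra.FiniteType A B := Algebra.FiniteType.of_surjective (φ : C →ₐ[A] B) hφ
  refine IdemFibre.eq_zero_of_fibres (A := A) he fun p _ => ?_
  let κ := p.ResidueField
  let K := AlgebraicClosure κ
  by_contra hne
  obtain ⟨x, hx⟩ : ∃ x : WithConv (C →ₐ[A] K), x.ofConv e ≠ 0 := by
    by_contra hall
    push Not at hall
    refine hne (idem_eq_zero_of_isNilpotent (he.map (Algebra.TensorProduct.includeRight : C →ₐ[A] κ ⊗[A] C)) ?_)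
    haveI : Algebra.FiniteType κ (κ ⊗[A] C) := Algebra.FiniteType.baseChange κ
    haveI : IsJacobsonRing (κ ⊗[A] C) := isJacobsonRing_of_finiteType (A := κ)
    refine nilpotent_iff_mem_prime.2 fun Q hQ => ?_
    rw [← IsJacobsonRing.out' _ hQ.isRadical]
    rw [Ideal.jacobson, Submodule.mem_sInf]
    rintro (P : Ideal (κ ⊗[A] C)) ⟨-, hP⟩
    haveI := hP
    letI := Ideal.Quotient.field P
    haveI : Algebra.FiniteType κ ((κ ⊗[A] C) ⧸ P) :=
      Algebra.FiniteType.of_surjective (Ideal.Quotient.mkₐ κ P) Ideal.Quotient.mk_surjective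
    haveI : Module.Finite κ ((κ ⊗[A] C) ⧸ P) := finite_of_finite_type_of_isJacobsonRing κ _
    let ι : (κ ⊗[A] C) ⧸ P →ₐ[κ] K := IsAlgClosed.lift
    have h := hall (toConv (((ι.comp (Ideal.Quotient.mkₐ κ P)).restrictScalars A).comp Algebra.TensorProduct.includeRight))
    refine Ideal.Quotient.eq_zero_iff_mem.1 (ι.toRingHom.injective ?_)
    rw [_root_.map_zero]
    exact h
  have hxe : x.ofConv e = 1 := (IsIdempotentElem.iff_eq_zero_or_one.1 (he.map x.ofConv)).resolve_left hx
  -- points of the subgroup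
  let res : WithConv (B →ₐ[A] K) →* WithConv (C →ₐ[A] K) :=
    { toFun := fun y => toConv (y.ofConv.comp (φ : C →ₐ[A] B))
      map_one' := WithConv.ofConv_injective (AlgHom.ext fun c => by
        show algebraMap A K (CoalgebraStruct.counit (φ c)) = algebraMap A K (CoalgebraStruct.counit c)
        rw [CoalgHomClass.counit_comp_apply])
      map_mul' := fun a b => by
        apply WithConv.ofConv_injective
        rw [ofConv_toConv, AlgHom.convMul_comp_bialgHom_distrib] }
  have hsub : ∀ w : WithConv (C →ₐ[A] K), w.ofConv e = 0 → ∃ y, res y = w := fun w hw => by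
    have hker : ∀ c ∈ RingHom.ker (φ : C →ₐ[A] B), w.ofConv c = 0 := fun c hc => by
      rw [hK, Ideal.mem_span_singleton] at hc
      obtain ⟨d, rfl⟩ := hc
      rw [_root_.map_mul, hw, zero_mul]
    refine ⟨toConv (AlgHom.liftOfSurjective (φ : C →ₐ[A] B) hφ w.ofConv fun c hc => RingHom.mem_ker.2 (hker c hc)), ?_⟩
    exact WithConv.ofConv_injective (AlgHom.liftOfSurjective_comp _ _ _ _)
  have hres : ∀ y : WithConv (B →ₐ[A] K), (res y).ofConv e = 0 := fun y => by
    show y.ofConv (φ e) = 0
    rw [show φ e = 0 from (show e ∈ RingHom.ker (φ : C →ₐ[A] B) from hK ▸ Ideal.mem_span_singleton_self e), _root_.map_zero]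
  -- torsion points lie in the subgroup
  have hxt : ∀ (w : WithConv (C →ₐ[A] K)) (n : ℕ), 0 < n → w ^ n = 1 → w.ofConv e = 0 := fun w n hn hwn => by
    have h : SGA3b.torsionIdeal A C n ≤ RingHom.ker w.ofConv := by
      refine Ideal.map_le_iff_le_comap.2 fun c hc => ?_
      show w.ofConv (SGA3b.powConv A C n c) = 0
      have hp : Averaging.push w.ofConv ((toConv (AlgHom.id A C)) ^ n) = w ^ n := map_pow _ _ _
      rw [hwn] at hp
      have h' := DFunLike.congr_fun (congrArg WithConv.ofConv hp) c
      refine h'.trans ?_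
      show algebraMap A K (CoalgebraStruct.counit c) = 0
      rw [show CoalgebraStruct.counit (R := A) c = 0 from hc, _root_.map_zero]
    exact h (htors n hn)
  -- some power of `x` lies in the subgroup
  obtain ⟨l, hl, hxl⟩ : ∃ l : ℕ, 0 < l ∧ (x ^ l).ofConv e = 0 := by
    haveI : Algebra.FiniteType K (K ⊗[A] C) := Algebra.FiniteType.baseChange K
    haveI : IsNoetherianRing (K ⊗[A] C) := Algebra.FiniteType.isNoetherianRing K _
    let τ : WithConv (C →ₐ[A] K) → (C →ₐ[A] K ⊗[A] C) := fun w =>
      (Algebra.TensorProduct.map w.ofConv (AlgHom.id A C)).comp (Bialgebra.comulAlgHom A C)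
    have hev : ∀ w y : WithConv (C →ₐ[A] K),
        Algebra.TensorProduct.lift (AlgHom.id A K) y.ofConv (fun _ _ => .all _ _) (τ w e) = (w * y).ofConv e := fun w y => by
      rw [show (w * y).ofConv e = _ from AlgHom.convMul_apply w y e]
      show _ = Algebra.TensorProduct.lift w.ofConv y.ofConv _ (CoalgebraStruct.comul (R := A) e)
      show Algebra.TensorProduct.lift (AlgHom.id A K) y.ofConv _
        (Algebra.TensorProduct.map w.ofConv (AlgHom.id A C) (CoalgebraStruct.comul (R := A) e)) = _
      generalize CoalgebraStruct.comul (R := A) e = t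
      induction t using TensorProduct.induction_on with
      | zero => simp
      | tmul a b => simp
      | add a b ha hb => simp only [_root_.map_add, ha, hb]
    obtain ⟨i, -, j, -, hij, hτ⟩ := Set.infinite_univ.exists_lt_map_eq_of_mapsTo
      (f := fun i : ℕ => τ (x ^ i) e) (t := {a : K ⊗[A] C | IsIdempotentElem a})
      (fun i _ => he.map (τ (x ^ i))) (finite_idempotents _)
    refine ⟨j - i, by omega, ?_⟩
    have h1 := hev (x ^ j) (x ^ i)⁻¹
    rw [← show τ (x ^ i) e = τ (x ^ j) e from hτ, hev, mul_inv_cancel] at h1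
    rw [pow_sub x hij.le, ← h1]
    show algebraMap A K (CoalgebraStruct.counit (R := A) e) = 0
    rw [← CoalgHomClass.counit_comp_apply φ e,
      show φ e = 0 from (show e ∈ RingHom.ker (φ : C →ₐ[A] B) from hK ▸ Ideal.mem_span_singleton_self e), _root_.map_zero, _root_.map_zero]
  obtain ⟨z, hz⟩ := hsub _ hxl
  obtain ⟨N, v, hN, hv⟩ := exists_point_root hB z l hl
  have hw : (x * (res v)⁻¹) ^ (l * N) = 1 := by
    have hcomm : Commute x (res v)⁻¹ := mul_comm _ _
    rw [hcomm.mul_pow, pow_mul x, ← hz, ← _root_.map_pow, ← hv, inv_pow, _root_.map_pow]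
    exact mul_inv_cancel _
  obtain ⟨w, hw'⟩ := hsub _ (hxt _ _ (by positivity) hw)
  have hxv : x = res (w * v) := by rw [_root_.map_mul, hw', inv_mul_cancel_right]
  rw [hxv, hres] at hxe
  exact zero_ne_one hxe

end

end Groth.Agent.Lib.OT67.TorsionDense
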