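import Mathlib

/-!
Lifting bialgebra maps to quotients.
-/

open TensorProduct

universe u v w

namespace Groth.Agent.Lib.OT67

variable {R : Type u} [CommRing R] {A : Type v} [CommRing A] [HopfAlgebra R A] {B : Type w} [CommRing B]
  [Bialgebra R B] (I : Ideal A) [I.IsHopfIdeal R]

/-- The bialgebra map out of a quotient. -/
noncomputable def liftBialg (f : A →ₐc[R] B) (h : ∀ a ∈ I, f a = 0) : (A ⧸ I) →ₐc[R] B :=
  .ofAlgHom (Ideal.Quotient.liftₐ I (f : A →ₐ[R] B) h)
    (by
      refine Ideal.Quotient.algHom_ext _ (AlgHom.ext fun a => ?_)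
      exact CoalgHomClass.counit_comp_apply f a)
    (by
      refine Ideal.Quotient.algHom_ext _ (AlgHom.ext fun a => ?_)
      refine Eq.trans ?_ (CoalgHomClass.map_comp_comul_apply f a)
      show Algebra.TensorProduct.map _ _ (TensorProduct.map (Ideal.Quotient.mkₐ R I).toLinearMap
        (Ideal.Quotient.mkₐ R I).toLinearMap (Coalgebra.comul (R := R) a)) = _
      induction Coalgebra.comul (R := R) a using TensorProduct.induction_on with
      | zero => simp
      | add p q hp hq => simp only [map_add, hp, hq]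
      | tmul p q => rfl)

@[simp] theorem liftBialg_mk (f : A →ₐc[R] B) (h : ∀ a ∈ I, f a = 0) (a : A) :
    liftBialg I f h (Ideal.Quotient.mk I a) = f a :=
  Ideal.Quotient.lift_mk I (f : A →ₐ[R] B).toRingHom h

end Groth.Agent.Lib.OT67
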