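import Groth.Agent.Lib.Henselian.LocalRing
import Groth.Agent.S18472
import Mathlib

/-!
Finite local algebras with a rational point over a local ring.
-/

open TensorProduct

universe u v w

namespace Groth.Agent.Lib.OT67

variable {R : Type u} [CommRing R] [IsLocalRing R]

theorem eq_one_of_sub_mem_jacobson {C : Type*} [CommRing C] {x : C} (hx : IsIdempotentElem x)
    (h : 1 - x ∈ Ideal.jacobson (⊥ : Ideal C)) : x = 1 := by
  have h1 := Ideal.mem_jacobson_bot.1 h (-1)
  rw [show (1 - x) * -1 + 1 = x by ring] at h1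
  exact h1.mul_left_cancel (hx.eq.trans (mul_one x).symm)

section point

variable {Q : Type v} [CommRing Q] [Algebra R Q] [IsLocalRing Q] (ε : Q →ₐ[R] R)

theorem point_surjective : Function.Surjective ε := fun r => ⟨algebraMap R Q r, ε.commutes r⟩

theorem mem_maximalIdeal_iff (x : Q) :
    x ∈ IsLocalRing.maximalIdeal Q ↔ ε x ∈ IsLocalRing.maximalIdeal R := by
  have : Ideal.comap ε (IsLocalRing.maximalIdeal R) = IsLocalRing.maximalIdeal Q :=
    IsLocalRing.eq_maximalIdeal (Ideal.comap_isMaximal_of_surjective _ (point_surjective ε))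
  rw [← this, Ideal.mem_comap]

theorem ker_le_maximalIdeal : RingHom.ker ε ≤ IsLocalRing.maximalIdeal Q :=
  IsLocalRing.le_maximalIdeal (RingHom.ker_ne_top _)

theorem isUnit_of_point {x : Q} (h : IsUnit (ε x)) : IsUnit x := by
  by_contra hn
  have h1 : x ∈ IsLocalRing.maximalIdeal Q := hn
  rw [mem_maximalIdeal_iff ε] at h1
  exact h1 h

theorem eq_one_of_point {x : Q} (hx : IsIdempotentElem x) (h : ε x = 1) : x = 1 :=
  (isUnit_of_point ε (h ▸ isUnit_one)).mul_left_cancel (hx.eq.trans (mul_one x).symm)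

include ε in
theorem residue_surjective :
    Function.Surjective (IsLocalRing.residue Q ∘ algebraMap R Q) := by
  intro y
  obtain ⟨x, rfl⟩ := IsLocalRing.residue_surjective y
  refine ⟨ε x, ?_⟩
  rw [Function.comp_apply]
  refine Ideal.Quotient.eq.2 ?_
  exact ker_le_maximalIdeal ε (by simp [RingHom.mem_ker])

/-- Maps from an unramified algebra to a local algebra with a rational point are determined by the point. -/
theorem algHom_eq_of_unramified {S : Type w} [CommRing S] [Algebra R S] [Algebra.FormallyUnramified R S]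
    [Algebra.EssFiniteType R S] (f g : S →ₐ[R] Q) (h : ε.comp f = ε.comp g) : f = g := by
  obtain ⟨t, ht, ht1⟩ := Algebra.FormallyUnramified.iff_exists_tensorProduct.1 ‹_›
  let F := Algebra.TensorProduct.lift f g (fun _ _ => Commute.all _ _)
  have hu : IsUnit (F t) := by
    refine isUnit_of_point ε ?_
    have : ε.comp F = (ε.comp f).comp (Algebra.TensorProduct.lmul' R) := by
      refine Algebra.TensorProduct.ext' fun a b => ?_
      have hb := DFunLike.congr_fun h b
      simp only [AlgHom.comp_apply] at hb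
      simp [F, hb]
    have ht' := DFunLike.congr_fun this t
    simp only [AlgHom.comp_apply, ht1, map_one] at ht'
    rw [ht']
    exact isUnit_one
  refine AlgHom.ext fun s => ?_
  have h1 := congrArg F (ht s)
  rw [map_mul, map_sub, map_zero, hu.mul_left_eq_zero] at h1
  simp only [F, Algebra.TensorProduct.lift_tmul, map_one, one_mul, mul_one, sub_eq_zero] at h1
  exact h1.symm

variable [Module.Finite R Q]

/-- The kernel of `C ⊗ Q → C` lies in the radical. -/
theorem one_tmul_mem_jacobson {C : Type w} [CommRing C] [Algebra R C] [Module.Finite R C] {q : Q}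
    (hq : ε q = 0) : (1 : C) ⊗ₜ[R] q ∈ Ideal.jacobson (⊥ : Ideal (C ⊗[R] Q)) := by
  haveI : Algebra.IsIntegral R (C ⊗[R] Q) := Algebra.IsIntegral.of_finite R _
  rw [Ideal.jacobson, Ideal.mem_sInf]
  rintro M ⟨-, hM⟩
  haveI := hM
  have hMR : (M.comap (algebraMap R (C ⊗[R] Q))).IsMaximal := Ideal.isMaximal_comap_of_isIntegral_of_isMaximal M
  let P : Ideal Q := M.comap (Algebra.TensorProduct.includeRight : Q →ₐ[R] C ⊗[R] Q)
  haveI : P.IsPrime := Ideal.IsPrime.comap _
  haveI : Algebra.IsIntegral R Q := Algebra.IsIntegral.of_finite R _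
  have hP : P.comap (algebraMap R Q) = M.comap (algebraMap R (C ⊗[R] Q)) := by
    ext r
    simp only [P, Ideal.mem_comap, AlgHom.commutes]
  haveI : P.IsMaximal := Ideal.isMaximal_of_isIntegral_of_isMaximal_comap P (hP ▸ hMR)
  have : q ∈ P := (IsLocalRing.eq_maximalIdeal (inferInstanceAs P.IsMaximal)).ge (ker_le_maximalIdeal ε hq)
  exact this

theorem sub_mem_jacobson {C : Type w} [CommRing C] [Algebra R C] [Module.Finite R C] (z : C ⊗[R] Q) :
    z - Algebra.TensorProduct.lift (AlgHom.id R C) ((Algebra.ofId R C).comp ε) (fun _ _ => Commute.all _ _) z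
      ⊗ₜ[R] (1 : Q) ∈ Ideal.jacobson (⊥ : Ideal (C ⊗[R] Q)) := by
  induction z using TensorProduct.induction_on with
  | zero => simp
  | add a b ha hb =>
    rw [map_add, TensorProduct.add_tmul, add_sub_add_comm]
    exact add_mem ha hb
  | tmul c q =>
    have h := Ideal.mul_mem_left _ (c ⊗ₜ[R] (1 : Q))
      (one_tmul_mem_jacobson ε (C := C) (q := q - algebraMap R Q (ε q)) (by simp))
    rw [Algebra.TensorProduct.tmul_mul_tmul, mul_one, one_mul, TensorProduct.tmul_sub,
      Algebra.algebraMap_eq_smul_one, TensorProduct.tmul_smul] at h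
    convert h using 2
    simp [Algebra.algebraMap_eq_smul_one, TensorProduct.smul_tmul', mul_smul_comm]

theorem idempotent_eq_one {C : Type w} [CommRing C] [Algebra R C] [Module.Finite R C] {z : C ⊗[R] Q}
    (hz : IsIdempotentElem z)
    (h : Algebra.TensorProduct.lift (AlgHom.id R C) ((Algebra.ofId R C).comp ε) (fun _ _ => Commute.all _ _) z = 1) :
    z = 1 := by
  refine eq_one_of_sub_mem_jacobson hz ?_
  have h1 := sub_mem_jacobson ε z
  rw [h, ← Algebra.TensorProduct.one_def, ← neg_mem_iff, neg_sub] at h1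
  exact h1

end point

section quotient

variable {A : Type v} [CommRing A] [Algebra R A] (ε : A →ₐ[R] R) {e : A} (heε : ε e = 1)

/-- The point of the component of a point. -/
noncomputable def compPoint : (A ⧸ Ideal.span ({1 - e} : Set A)) →ₐ[R] R :=
  Ideal.Quotient.liftₐ _ ε fun a ha => by
    obtain ⟨b, rfl⟩ := Ideal.mem_span_singleton'.1 ha
    rw [map_mul, map_sub, map_one, heε, sub_self, mul_zero]

@[simp] theorem compPoint_mk (a : A) : compPoint ε heε (Ideal.Quotient.mk _ a) = ε a := rfl

omit [IsLocalRing R] in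
theorem flat_component [Module.Flat R A] (he : IsIdempotentElem e) :
    Module.Flat R (A ⧸ Ideal.span ({1 - e} : Set A)) := by
  let π := (Ideal.Quotient.mkₐ R (Ideal.span ({1 - e} : Set A))).toLinearMap
  let s : (A ⧸ Ideal.span ({1 - e} : Set A)) →ₗ[R] A :=
    ((Ideal.span ({1 - e} : Set A)).restrictScalars R).liftQ (LinearMap.mulLeft R e) (by
      intro a ha
      obtain ⟨b, rfl⟩ := Ideal.mem_span_singleton'.1 ha
      show e * (b * (1 - e)) = 0
      rw [mul_left_comm, mul_sub, mul_one, he.eq, sub_self, mul_zero])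
  refine Module.Flat.of_retract s π (LinearMap.ext fun x => ?_)
  obtain ⟨a, rfl⟩ := Ideal.Quotient.mk_surjective x
  show Ideal.Quotient.mk _ (e * a) = Ideal.Quotient.mk _ a
  rw [Ideal.Quotient.eq]
  exact Ideal.mem_span_singleton'.2 ⟨-a, by ring⟩

end quotient

end Groth.Agent.Lib.OT67
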