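import Groth.Agent.Lib.OT67.FinQuotRank
import Groth.Agent.Lib.OT67.UnitComp
import Mathlib

/-!
A finite group scheme with reduced subgroup splits as reduced times infinitesimal.
-/

open TensorProduct WithConv

set_option linter.style.haveILetI false

universe u

namespace Groth.Agent.Lib.OT67.RedSplit

noncomputable section

/-- The idempotent of the component of a point. -/
theorem exists_idempotent_component {k : Type u} [Field k] {E : Type u} [CommRing E] [Algebra k E]
    [FiniteDimensional k E] (ε : E →ₐ[k] k) :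
    ∃ e : E, IsIdempotentElem e ∧ ε e = 1 ∧ IsLocalRing (E ⧸ Ideal.span ({1 - e} : Set E)) := by
  haveI : IsArtinianRing E := IsArtinianRing.of_finite k E
  let M := RingHom.ker ε
  have hM : M.IsMaximal := RingHom.ker_isMaximal_of_surjective ε fun c => ⟨algebraMap k E c, ε.commutes c⟩
  obtain ⟨n, hn⟩ := IsArtinian.monotone_stabilizes ⟨(M ^ ·), @Ideal.pow_le_pow_right _ _ M⟩
  have hid : IsIdempotentElem (M ^ (n + 1)) := by
    show M ^ (n + 1) * M ^ (n + 1) = M ^ (n + 1)
    rw [← pow_add]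
    exact (hn (n + 1 + (n + 1)) (by omega)).symm.trans (hn (n + 1) (by omega))
  obtain ⟨f, hf, hfM⟩ := (Ideal.isIdempotentElem_iff_of_fg _ (IsNoetherian.noetherian _)).1 hid
  refine ⟨1 - f, hf.one_sub, ?_, ?_⟩
  · have hfm : f ∈ M := Ideal.pow_le_self (Nat.succ_ne_zero n) (hfM ▸ Ideal.mem_span_singleton_self f)
    rw [map_sub, map_one, RingHom.mem_ker.1 hfm, sub_zero]
  · rw [sub_sub_cancel, show Ideal.span ({f} : Set E) = M ^ (n + 1) from hfM.symm]
    haveI : Nontrivial (E ⧸ M ^ (n + 1)) :=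
      Ideal.Quotient.nontrivial_iff.2 (ne_top_of_le_ne_top hM.ne_top (Ideal.pow_le_self (Nat.succ_ne_zero n)))
    refine IsLocalRing.of_unique_max_ideal ⟨M.map (Ideal.Quotient.mk (M ^ (n + 1))), ?_, ?_⟩
    · exact Ideal.IsMaximal.map_of_surjective_of_ker_le Ideal.Quotient.mk_surjective
        (by rw [Ideal.mk_ker]; exact Ideal.pow_le_self (Nat.succ_ne_zero n))
    · intro P hP
      haveI := hP
      have hPc : (P.comap (Ideal.Quotient.mk (M ^ (n + 1)))).IsMaximal :=
        Ideal.comap_isMaximal_of_surjective _ Ideal.Quotient.mk_surjective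
      have hle : M ≤ P.comap (Ideal.Quotient.mk (M ^ (n + 1))) := by
        refine hPc.isPrime.le_of_pow_le (n := n + 1) ?_
        intro x hx
        show Ideal.Quotient.mk _ x ∈ P
        rw [Ideal.Quotient.eq_zero_iff_mem.2 hx]
        exact P.zero_mem
      rw [← Ideal.map_comap_of_surjective _ Ideal.Quotient.mk_surjective P]
      exact congrArg (Ideal.map _) (hM.eq_of_le hPc.ne_top hle).symm

variable {k : Type u} [Field k] [PerfectField k] {E : Type u} [CommRing E] [HopfAlgebra k E] [FiniteDimensional k E]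
  (I : Ideal E) [I.IsHopfIdeal k] [IsLocalRing (E ⧸ I)]

/-- The reduced quotient restricted to the invariants. -/
def res : FinQuot.inv (R := k) I →ₐ[k] E ⧸ nilradical E :=
  (Ideal.Quotient.mkₐ k (nilradical E)).comp (FinQuot.inv (R := k) I).val

omit [FiniteDimensional k E] [IsLocalRing (E ⧸ I)] [PerfectField k] in
theorem res_apply (b : FinQuot.inv (R := k) I) : res I b = Ideal.Quotient.mk (nilradical E) (b : E) := rfl

theorem res_surjective [Algebra.FormallyUnramified k (E ⧸ nilradical E)] : Function.Surjective (res (k := k) I) := by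
  classical
  haveI : IsScalarTower k ↥(FinQuot.inv (R := k) I) (E ⧸ nilradical E) := inferInstance
  haveI : Module.Finite ↥(FinQuot.inv (R := k) I) (E ⧸ nilradical E) := Module.Finite.of_restrictScalars_finite k ↥(FinQuot.inv (R := k) I) (E ⧸ nilradical E)
  suffices h : Algebra.IsEpi ↥(FinQuot.inv (R := k) I) (E ⧸ nilradical E) from Algebra.isEpi_iff_surjective_algebraMap_of_finite.1 h
  rw [Algebra.isEpi_iff_forall_one_tmul_eq]
  let qB : E →ₐ[↥(FinQuot.inv (R := k) I)] (E ⧸ nilradical E) := Ideal.Quotient.mkₐ _ (nilradical E)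
  let q : (E ⧸ nilradical E) ⊗[k] (E ⧸ nilradical E) →ₐ[k] ((E ⧸ nilradical E) ⊗[↥(FinQuot.inv (R := k) I)] (E ⧸ nilradical E)) :=
    Algebra.TensorProduct.lift ((Algebra.TensorProduct.includeLeft : (E ⧸ nilradical E) →ₐ[↥(FinQuot.inv (R := k) I)] ((E ⧸ nilradical E) ⊗[↥(FinQuot.inv (R := k) I)] (E ⧸ nilradical E))).restrictScalars k)
      ((Algebra.TensorProduct.includeRight : (E ⧸ nilradical E) →ₐ[↥(FinQuot.inv (R := k) I)] ((E ⧸ nilradical E) ⊗[↥(FinQuot.inv (R := k) I)] (E ⧸ nilradical E))).restrictScalars k) fun _ _ => Commute.all _ _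
  have hq : Function.Surjective q := by
    intro z
    induction z using TensorProduct.induction_on with
    | zero => exact ⟨0, map_zero _⟩
    | add a b ha hb =>
      obtain ⟨x, rfl⟩ := ha
      obtain ⟨y, rfl⟩ := hb
      exact ⟨x + y, map_add _ _ _⟩
    | tmul a b => exact ⟨a ⊗ₜ b, by simp [q]⟩
  haveI : Algebra.FormallyUnramified k ((E ⧸ nilradical E) ⊗[↥(FinQuot.inv (R := k) I)] (E ⧸ nilradical E)) := by
    haveI : Algebra.FormallyUnramified k ((E ⧸ nilradical E) ⊗[k] (E ⧸ nilradical E)) := Algebra.FormallyUnramified.comp k (E ⧸ nilradical E) _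
    exact Algebra.FormallyUnramified.of_surjective q hq
  haveI : Module.Finite k ((E ⧸ nilradical E) ⊗[↥(FinQuot.inv (R := k) I)] (E ⧸ nilradical E)) := Module.Finite.of_surjective q.toLinearMap hq
  haveI : IsReduced ((E ⧸ nilradical E) ⊗[↥(FinQuot.inv (R := k) I)] (E ⧸ nilradical E)) := Algebra.FormallyUnramified.isReduced_of_field k ((E ⧸ nilradical E) ⊗[↥(FinQuot.inv (R := k) I)] (E ⧸ nilradical E))
  let e := RingEquiv.ofBijective (FinQuot.cmp (R := k) I) (FinQuot.cmp_bijective (R := k) I)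
  let χ : E ⊗[k] (E ⧸ I) →+* ((E ⧸ nilradical E) ⊗[↥(FinQuot.inv (R := k) I)] (E ⧸ nilradical E)) := (Algebra.TensorProduct.map qB qB).toRingHom.comp e.symm.toRingHom
  have hχ : ∀ z, χ (FinQuot.cmp (R := k) I z) = Algebra.TensorProduct.map qB qB z := fun z =>
    congrArg (Algebra.TensorProduct.map qB qB) (e.symm_apply_apply z)
  have hR : ∀ a : E, χ (a ⊗ₜ[k] (1 : E ⧸ I)) = (1 : (E ⧸ nilradical E)) ⊗ₜ[↥(FinQuot.inv (R := k) I)] qB a := by
    intro a
    have h1 : FinQuot.cmp (R := k) I ((1 : E) ⊗ₜ a) = a ⊗ₜ[k] (1 : E ⧸ I) := by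
      rw [FinQuot.cmp_tmul, map_one, one_mul]
    rw [← h1, hχ, Algebra.TensorProduct.map_tmul, map_one]
  have hL : ∀ a : E, χ (FinQuot.act (R := k) I a) = qB a ⊗ₜ[↥(FinQuot.inv (R := k) I)] (1 : (E ⧸ nilradical E)) := by
    intro a
    have h1 : FinQuot.cmp (R := k) I (a ⊗ₜ (1 : E)) = FinQuot.act (R := k) I a := by
      rw [FinQuot.cmp_tmul, ← Algebra.TensorProduct.one_def, mul_one]
    rw [← h1, hχ, Algebra.TensorProduct.map_tmul, map_one]
  let ρ := Algebra.TensorProduct.lift (AlgHom.id k E) ((Algebra.ofId k E).comp (Bialgebra.counitAlgHom k (E ⧸ I)))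
    (fun _ _ => Commute.all _ _)
  haveI : IsArtinianRing (E ⧸ I) := IsArtinianRing.of_finite k (E ⧸ I)
  have hfac : ∀ z, χ z = χ (ρ z ⊗ₜ[k] (1 : E ⧸ I)) := by
    intro z
    induction z using TensorProduct.induction_on with
    | zero => simp
    | add a b ha hb => rw [map_add, ha, hb, map_add (f := ρ), add_tmul, map_add (f := χ)]
    | tmul a x =>
      let c := Bialgebra.counitAlgHom k (E ⧸ I) x
      have hn : IsNilpotent (x - algebraMap k (E ⧸ I) c) := by
        rw [← mem_nilradical, Ring.KrullDimLE.nilradical_eq_maximalIdeal (R := E ⧸ I)]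
        exact ker_le_maximalIdeal (Bialgebra.counitAlgHom k (E ⧸ I)) (by simp [RingHom.mem_ker, c])
      have h1 : a ⊗ₜ[k] x - ρ (a ⊗ₜ x) ⊗ₜ[k] (1 : E ⧸ I) =
          (a ⊗ₜ[k] (1 : E ⧸ I)) * ((1 : E) ⊗ₜ[k] (x - algebraMap k (E ⧸ I) c)) := by
        rw [Algebra.TensorProduct.tmul_mul_tmul, mul_one, one_mul, TensorProduct.tmul_sub]
        congr 1
        simp [ρ, c, Algebra.algebraMap_eq_smul_one, TensorProduct.smul_tmul']
      have h2 : IsNilpotent (χ (a ⊗ₜ[k] x) - χ (ρ (a ⊗ₜ x) ⊗ₜ[k] (1 : E ⧸ I))) := by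
        rw [← map_sub, h1, map_mul]
        exact (Commute.all _ _).isNilpotent_mul_left ((hn.map Algebra.TensorProduct.includeRight).map χ)
      exact sub_eq_zero.1 h2.eq_zero
  intro s
  obtain ⟨a, rfl⟩ := Ideal.Quotient.mk_surjective s
  have h := hfac (FinQuot.act (R := k) I a)
  rw [hL, hR, show ρ (FinQuot.act (R := k) I a) = a from DFunLike.congr_fun (FinQuot.act_counit I) a] at h
  exact h.symm

/-- The comorphism of multiplication `G_red × G⁰ → G`. -/
def split : E →ₐ[k] (E ⧸ nilradical E) ⊗[k] (E ⧸ I) :=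
  (Algebra.TensorProduct.map (Ideal.Quotient.mkₐ k (nilradical E)) (Ideal.Quotient.mkₐ k I)).comp
    (Bialgebra.comulAlgHom k E)

omit [FiniteDimensional k E] [IsLocalRing (E ⧸ I)] [PerfectField k] in
theorem split_apply (a : E) :
    split (k := k) I a = Algebra.TensorProduct.map (Ideal.Quotient.mkₐ k (nilradical E)) (AlgHom.id k _)
      (FinQuot.act (R := k) I a) := by
  show _ = Algebra.TensorProduct.map _ _ (Algebra.TensorProduct.map _ _ (Coalgebra.comul (R := k) a))
  simp only [split, AlgHom.comp_apply, Bialgebra.comulAlgHom_apply]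
  induction Coalgebra.comul (R := k) a using TensorProduct.induction_on with
  | zero => simp
  | add p q hp hq => simp only [map_add, hp, hq]
  | tmul p q => simp

theorem split_surjective (hres : Function.Surjective (res (k := k) I)) : Function.Surjective (split (k := k) I) := by
  let π := Algebra.TensorProduct.map (Ideal.Quotient.mkₐ k (nilradical E)) (AlgHom.id k (E ⧸ I))
  have hπ : Function.Surjective π := by
    intro z
    induction z using TensorProduct.induction_on with
    | zero => exact ⟨0, map_zero _⟩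
    | add a b ha hb =>
      obtain ⟨x, rfl⟩ := ha
      obtain ⟨y, rfl⟩ := hb
      exact ⟨x + y, map_add _ _ _⟩
    | tmul a b =>
      obtain ⟨c, rfl⟩ := Ideal.Quotient.mk_surjective a
      exact ⟨c ⊗ₜ b, by simp [π]⟩
  intro z
  obtain ⟨w, rfl⟩ := hπ z
  obtain ⟨v, rfl⟩ := (FinQuot.cmp_bijective (R := k) I).2 w
  show π (FinQuot.cmp (R := k) I v) ∈ Set.range (split (k := k) I)
  induction v using TensorProduct.induction_on with
  | zero => exact ⟨0, by simp⟩
  | add a b ha hb =>
    obtain ⟨x, hx⟩ := ha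
    obtain ⟨y, hy⟩ := hb
    exact ⟨x + y, by rw [map_add, hx, hy, map_add, map_add]⟩
  | tmul a a' =>
    obtain ⟨b, hb⟩ := hres (Ideal.Quotient.mk (nilradical E) a')
    refine ⟨a * (b : E), ?_⟩
    rw [FinQuot.cmp_tmul, map_mul, map_mul (f := π), split_apply, split_apply,
      (AlgHom.mem_equalizer _ _ _).1 b.2]
    simp [π, ← res_apply, hb]

end

end Groth.Agent.Lib.OT67.RedSplit

namespace Groth.Agent.Lib.OT67.RedSplit

theorem formallyUnramified_of_isReduced (k : Type u) [Field k] [PerfectField k] (A : Type u)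
    [CommRing A] [Algebra k A] [Module.Finite k A] [IsReduced A] : Algebra.FormallyUnramified k A := by
  haveI : IsArtinianRing A := IsArtinianRing.of_finite k A
  let e : A ≃ₐ[k] (∀ I : MaximalSpectrum A, A ⧸ I.asIdeal) := (IsArtinianRing.equivPi A).restrictScalars k
  haveI : ∀ I : MaximalSpectrum A, Algebra.FormallyUnramified k (A ⧸ I.asIdeal) := fun I => by
    letI : Field (A ⧸ I.asIdeal) := Ideal.Quotient.field I.asIdeal
    haveI : Algebra.IsAlgebraic k (A ⧸ I.asIdeal) := Algebra.IsAlgebraic.of_finite k _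
    exact Algebra.FormallyUnramified.of_isSeparable k (A ⧸ I.asIdeal)
  haveI := (Algebra.FormallyUnramified.pi_iff (R := k) (fun I : MaximalSpectrum A => A ⧸ I.asIdeal)).2 inferInstance
  exact Algebra.FormallyUnramified.of_equiv e.symm

end Groth.Agent.Lib.OT67.RedSplit
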