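import Groth.Agent.Lib.OT67.FinQuot

/-!
The rank of the quotient map by a finite locally free subgroup.
-/

open TensorProduct WithConv Groth.Agent.Lib.GrpdQuot

universe u v

namespace Groth.Agent.Lib.OT67.FinQuot

noncomputable section

variable {R : Type u} [CommRing R] {A : Type v} [CommRing A] [HopfAlgebra R A] (I : Ideal A) [I.IsHopfIdeal R]
  [Module.Finite R (A ⧸ I)] [Module.Projective R (A ⧸ I)]

/-- The comparison map with the scalars in the left factor. -/
def cmpLeft : A ⊗[inv (R := R) I] A →ₗ[A] A ⊗[R] (A ⧸ I) where
  toFun z := cmp (R := R) I (Algebra.TensorProduct.comm (inv (R := R) I) A A z)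
  map_add' _ _ := by simp
  map_smul' a z := by
    induction z using TensorProduct.induction_on with
    | zero => simp
    | add p q hp hq => simp only [smul_add, map_add, RingHom.id_apply] at *; rw [hp, hq]
    | tmul p q =>
      simp only [smul_tmul', smul_eq_mul, Algebra.TensorProduct.comm_tmul, cmp_tmul, RingHom.id_apply]
      rw [← smul_eq_mul a, ← TensorProduct.smul_tmul' (R := R) a p (1 : A ⧸ I), mul_smul_comm]

theorem cmpLeft_bijective : Function.Bijective (cmpLeft (R := R) I) :=
  (cmp_bijective (R := R) I).comp (Algebra.TensorProduct.comm (inv (R := R) I) A A).bijective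

theorem rankAtStalk_inv_comap (P : PrimeSpectrum A) :
    Module.rankAtStalk (R := inv (R := R) I) A (P.comap (algebraMap (inv (R := R) I) A)) =
      Module.rankAtStalk (R := R) (A ⧸ I) (P.comap (algebraMap R A)) := by
  haveI := finite (R := R) I
  haveI := projective (R := R) I
  rw [← Module.rankAtStalk_baseChange (R := inv (R := R) I) (M := A) (S := A) P,
    Module.rankAtStalk_eq_of_equiv (LinearEquiv.ofBijective _ (cmpLeft_bijective (R := R) I)),
    Module.rankAtStalk_baseChange]

theorem comap_inv_surjective :
    Function.Surjective (PrimeSpectrum.comap (algebraMap (inv (R := R) I) A)) :=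
  haveI := faithfullyFlat (R := R) I
  PrimeSpectrum.comap_surjective_of_faithfullyFlat

theorem rankAtStalk_inv (Q : PrimeSpectrum (inv (R := R) I)) :
    Module.rankAtStalk (R := inv (R := R) I) A Q =
      Module.rankAtStalk (R := R) (A ⧸ I) (Q.comap (algebraMap R (inv (R := R) I))) := by
  obtain ⟨P, rfl⟩ := comap_inv_surjective (R := R) I Q
  rw [rankAtStalk_inv_comap]
  congr 1

end

end Groth.Agent.Lib.OT67.FinQuot
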