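import Mathlib

/-!
Multiplicativity of the rank in towers `R → B → A`, and descent of flatness from `A` to `B`.
-/

open TensorProduct
set_option linter.style.haveILetI false

universe u v w

namespace Groth.Agent.Lib.OT67

theorem residueField_linear {R : Type u} [CommRing R] (q : Ideal R) [q.IsPrime] {M : Type v} {N : Type w}
    [AddCommGroup M] [Module R M] [Module q.ResidueField M] [IsScalarTower R q.ResidueField M]
    [AddCommGroup N] [Module R N] [Module q.ResidueField N] [IsScalarTower R q.ResidueField N]
    (f : M →ₗ[R] N) (k : q.ResidueField) (x : M) : f (k • x) = k • f x := by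
  obtain ⟨l, rfl⟩ := IsLocalRing.residue_surjective (R := Localization.AtPrime q) k
  obtain ⟨⟨r, s⟩, hrs⟩ := IsLocalization.surj q.primeCompl l
  dsimp only at hrs
  set k := IsLocalRing.residue (Localization.AtPrime q) l
  have h1 : algebraMap R q.ResidueField (s : R) * k = algebraMap R q.ResidueField r := by
    rw [IsScalarTower.algebraMap_apply R (Localization.AtPrime q) q.ResidueField,
      IsScalarTower.algebraMap_apply R (Localization.AtPrime q) q.ResidueField r, ← hrs, mul_comm l]
    exact (map_mul (IsLocalRing.residue _) _ _).symm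
  have hs : algebraMap R q.ResidueField (s : R) ≠ 0 := by
    rw [ne_eq, Ideal.algebraMap_residueField_eq_zero]
    exact s.2
  refine smul_right_injective N hs ?_
  simp only [smul_smul, h1, algebraMap_smul]
  rw [← map_smul, ← map_smul, ← algebraMap_smul q.ResidueField (s : R) (k • x), smul_smul, h1, algebraMap_smul]

variable {R : Type u} {B : Type v} {A : Type w} [CommRing R] [CommRing B] [CommRing A]
  [Algebra R B] [Algebra R A] [Algebra B A] [IsScalarTower R B A]

theorem flat_of_faithfullyFlat_top [Module.FaithfullyFlat B A] [Module.Flat R A] : Module.Flat R B := by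
  rw [Module.Flat.iff_rTensor_preserves_injective_linearMap]
  intro N N' _ _ _ _ f hf
  let g : ∀ (M : Type (max u v)) [AddCommGroup M] [Module R M], B ⊗[R] M →ₗ[R] A ⊗[R] M := fun M _ _ =>
    LinearMap.rTensor M (IsScalarTower.toAlgHom R B A).toLinearMap
  have hg : ∀ (M : Type (max u v)) [AddCommGroup M] [Module R M], Function.Injective (g M) := by
    intro M _ _
    have h : ∀ z, AlgebraTensorModule.cancelBaseChange R B A A M ((1 : A) ⊗ₜ[B] z) = g M z := by
      intro z
      induction z using TensorProduct.induction_on with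
      | zero => simp
      | add p q hp hq => rw [tmul_add, map_add, map_add, hp, hq]
      | tmul b m => simp [g, Algebra.smul_def]
    intro x y hxy
    rw [← h, ← h] at hxy
    exact Module.FaithfullyFlat.tensorProduct_mk_injective (A := B) (B := A) _
      ((AlgebraTensorModule.cancelBaseChange R B A A M).injective hxy)
  have hfA : Function.Injective (LinearMap.lTensor A f) :=
    Module.Flat.lTensor_preserves_injective_linearMap f hf
  have hfB : Function.Injective (LinearMap.lTensor B f) := by
    have hcomm : ∀ z, g N' (LinearMap.lTensor B f z) = LinearMap.lTensor A f (g N z) := by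
      intro z
      induction z using TensorProduct.induction_on with
      | zero => simp
      | add p q hp hq => simp only [map_add, hp, hq]
      | tmul b m => simp [g]
    intro x y hxy
    refine hg N (hfA ?_)
    rw [← hcomm, ← hcomm, hxy]
  intro x y hxy
  refine (TensorProduct.comm R N B).injective (hfB ?_)
  have h : ∀ z, LinearMap.lTensor B f (TensorProduct.comm R N B z) =
      TensorProduct.comm R N' B (LinearMap.rTensor B f z) := by
    intro z
    induction z using TensorProduct.induction_on with
    | zero => simp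
    | add p q hp hq => simp only [map_add, hp, hq]
    | tmul b m => simp
  rw [h, h, hxy]

theorem rankAtStalk_eq_mul [Module.Finite R B] [Module.Flat R B] [Module.Finite R A] [Module.Flat R A]
    [Module.Finite B A] [Module.Flat B A] (q : PrimeSpectrum R) (r : ℕ)
    (h : ∀ Q : PrimeSpectrum B, Q.comap (algebraMap R B) = q → Module.rankAtStalk (R := B) A Q = r) :
    Module.rankAtStalk (R := R) A q = r * Module.rankAtStalk (R := R) B q := by
  let κ := q.asIdeal.ResidueField
  let C := B ⊗[R] κ
  haveI : IsArtinianRing (κ ⊗[R] B) := IsArtinianRing.of_finite κ _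
  haveI : IsArtinianRing C := (Algebra.TensorProduct.comm R κ B).toRingEquiv.isArtinianRing
  have hC : ∀ P : MaximalSpectrum C, Module.finrank (C ⧸ P.1) ((C ⧸ P.1) ⊗[B] A) = r := by
    intro P
    haveI := P.2
    letI : Field (C ⧸ P.1) := Ideal.Quotient.field P.1
    haveI : Module.Free (C ⧸ P.1) ((C ⧸ P.1) ⊗[B] A) := Module.Free.of_divisionRing _ _
    let p : PrimeSpectrum (C ⧸ P.1) := ⟨⊥, Ideal.isPrime_bot⟩
    have h1 : Module.rankAtStalk (R := C ⧸ P.1) ((C ⧸ P.1) ⊗[B] A) p =
        Module.finrank (C ⧸ P.1) ((C ⧸ P.1) ⊗[B] A) := by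
      rw [Module.rankAtStalk_eq_finrank_of_free]; rfl
    rw [← h1, Module.rankAtStalk_baseChange]
    refine h _ (PrimeSpectrum.ext (Ideal.ext fun x => ?_))
    let ψ : κ →+* C ⧸ P.1 := (Ideal.Quotient.mk P.1).comp
      (Algebra.TensorProduct.includeRight : κ →ₐ[R] C).toRingHom
    have h2 : ψ (algebraMap R κ x) = algebraMap B (C ⧸ P.1) (algebraMap R B x) := by
      show Ideal.Quotient.mk P.1 ((Algebra.TensorProduct.includeRight : κ →ₐ[R] C) (algebraMap R κ x)) =
        Ideal.Quotient.mk P.1 (algebraMap B C (algebraMap R B x))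
      rw [AlgHom.commutes, IsScalarTower.algebraMap_apply R B C]
    show algebraMap B (C ⧸ P.1) (algebraMap R B x) ∈ (⊥ : Ideal (C ⧸ P.1)) ↔ _
    rw [Ideal.mem_bot, ← h2, map_eq_zero_iff _ ψ.injective, Ideal.algebraMap_residueField_eq_zero]
  obtain ⟨b⟩ : Nonempty (Module.Basis (Fin r) C (C ⊗[B] A)) := by
    haveI : Module.Free C (C ⊗[B] A) := by
      refine Module.free_of_flat_of_finrank_eq C (C ⊗[B] A) r fun P => ?_
      rw [← hC P]
      exact (AlgebraTensorModule.cancelBaseChange B C (C ⧸ P.1) (C ⧸ P.1) A).finrank_eq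
    rcases subsingleton_or_nontrivial C with hs | hs
    · haveI : Subsingleton (C ⊗[B] A) := Module.subsingleton C _
      exact ⟨Module.Basis.ofRepr
        { toFun := 0, map_add' := by simp, map_smul' := by simp, invFun := 0
          left_inv := fun _ => Subsingleton.elim _ _, right_inv := fun _ => Subsingleton.elim _ _ }⟩
    · refine ⟨Module.finBasisOfFinrankEq C _ ?_⟩
      obtain ⟨P, hP⟩ := Ideal.exists_maximal C
      have h3 := hC ⟨P, hP⟩
      haveI := hP
      letI : Field (C ⧸ P) := Ideal.Quotient.field P
      rw [← (AlgebraTensorModule.cancelBaseChange B C (C ⧸ P) (C ⧸ P) A).finrank_eq, Module.finrank_baseChange] at h3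
      exact h3
  let e1 : (Fin r → C) ≃ₗ[R] C ⊗[B] A := b.equivFun.symm.restrictScalars R
  let e2 : C ⊗[B] A ≃ₗ[R] A ⊗[R] κ :=
    ((TensorProduct.comm B C A).restrictScalars R).trans
      ((AlgebraTensorModule.cancelBaseChange R B B A κ).restrictScalars R)
  let e : (Fin r → κ ⊗[R] B) ≃ₗ[R] κ ⊗[R] A :=
    (((LinearEquiv.piCongrRight fun _ : Fin r => TensorProduct.comm R κ B).trans e1).trans e2).trans
      (TensorProduct.comm R A κ)
  let e' : (Fin r → κ ⊗[R] B) ≃ₗ[κ] κ ⊗[R] A :=
    { e with map_smul' := fun k x => residueField_linear q.asIdeal e.toLinearMap k x }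
  rw [Module.rankAtStalk_eq, Module.rankAtStalk_eq]
  refine e'.finrank_eq.symm.trans ?_
  rw [Module.finrank_pi_fintype, Finset.sum_const, Finset.card_univ, Fintype.card_fin, smul_eq_mul]

end Groth.Agent.Lib.OT67
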