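import Groth.Agent.Lib.OT67.FinQuot

/-!
The quotient by an open and closed finite subgroup is unramified.
-/

open TensorProduct WithConv

set_option linter.style.haveILetI false
set_option maxHeartbeats 1000000

universe u v

namespace Groth.Agent.Lib.OT67.FinQuot

noncomputable section

variable {R : Type u} [CommRing R] {A : Type v} [CommRing A] [HopfAlgebra R A]

variable (R A) in
/-- The shear automorphism. -/
def shear : A ⊗[R] A ≃ₐ[R] A ⊗[R] A :=
  let iL : A →ₐ[R] A ⊗[R] A := Algebra.TensorProduct.includeLeft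
  let iR : A →ₐ[R] A ⊗[R] A := Algebra.TensorProduct.includeRight
  let Δ := Bialgebra.comulAlgHom R A
  let sh : A ⊗[R] A →ₐ[R] A ⊗[R] A := Algebra.TensorProduct.lift Δ iL (fun _ _ => Commute.all _ _)
  let sh' : A ⊗[R] A →ₐ[R] A ⊗[R] A :=
    Algebra.TensorProduct.lift iR (toConv (iR.comp (HopfAlgebra.antipodeAlgHom R A)) * toConv iL).ofConv
      (fun _ _ => Commute.all _ _)
  have hΔ : toConv Δ = toConv iL * toConv iR := by
    refine WithConv.ofConv_injective (AlgHom.ext fun a => ?_)
    rw [AlgHom.convMul_apply, WithConv.ofConv_toConv]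
    show Coalgebra.comul (R := R) a = _
    induction Coalgebra.comul (R := R) a using TensorProduct.induction_on with
    | zero => simp
    | add p q hp hq => simp only [map_add, ← hp, ← hq]
    | tmul p q => simp [iL, iR]
  have hL : sh.comp iL = Δ := AlgHom.ext fun a => by simp [sh, iL]
  have hR : sh.comp iR = iL := AlgHom.ext fun a => by simp [sh, iR]
  have hL' : sh'.comp iL = iR := AlgHom.ext fun a => by simp [sh', iL]
  have hR' : toConv (sh'.comp iR) = toConv (iR.comp (HopfAlgebra.antipodeAlgHom R A)) * toConv iL := by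
    refine WithConv.ofConv_injective (AlgHom.ext fun a => ?_)
    rw [WithConv.ofConv_toConv]
    show sh' ((1 : A) ⊗ₜ a) = _
    exact (Algebra.TensorProduct.lift_tmul _ _ _ _ _).trans (by rw [map_one, one_mul])
  AlgEquiv.ofAlgHom sh sh'
    (by
      refine Algebra.TensorProduct.ext ?_ ?_
      · show (sh.comp sh').comp iL = (AlgHom.id R _).comp iL
        rw [AlgHom.comp_assoc, hL', hR, AlgHom.id_comp]
      · show (sh.comp sh').comp iR = (AlgHom.id R _).comp iR
        apply WithConv.toConv_injective
        rw [AlgHom.id_comp, AlgHom.comp_assoc, ← WithConv.ofConv_toConv (sh'.comp iR), hR',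
          AlgHom.comp_convMul_distrib]
        simp only [WithConv.toConv_ofConv, WithConv.ofConv_toConv, ← AlgHom.comp_assoc, hR, hL]
        rw [hΔ, ← mul_assoc, conv_antipode_mul, one_mul])
    (by
      refine Algebra.TensorProduct.ext ?_ ?_
      · show (sh'.comp sh).comp iL = (AlgHom.id R _).comp iL
        apply WithConv.toConv_injective
        rw [AlgHom.id_comp, AlgHom.comp_assoc, hL, ← WithConv.ofConv_toConv Δ, hΔ, AlgHom.comp_convMul_distrib]
        simp only [WithConv.toConv_ofConv, WithConv.ofConv_toConv, hL']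
        rw [hR', ← mul_assoc, conv_mul_antipode, one_mul]
      · show (sh'.comp sh).comp iR = (AlgHom.id R _).comp iR
        rw [AlgHom.comp_assoc, hR, hL', AlgHom.id_comp])

theorem shear_tmul (x y : A) : shear R A (x ⊗ₜ y) = Coalgebra.comul (R := R) x * (y ⊗ₜ[R] (1 : A)) := by
  simp [shear]

variable (I : Ideal A) [I.IsHopfIdeal R] [Module.Finite R A] [Module.Flat R A]
  [Module.Projective R (A ⧸ I)] [Module.Flat R (inv (R := R) I)]

theorem faithfullyFlat_map_val :
    letI := (Algebra.TensorProduct.map (inv (R := R) I).val (inv (R := R) I).val).toRingHom.toAlgebra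
    Module.FaithfullyFlat ((inv (R := R) I) ⊗[R] (inv (R := R) I)) (A ⊗[R] A) := by
  let B := inv (R := R) I
  let inc := Algebra.TensorProduct.map B.val B.val
  letI := inc.toRingHom.toAlgebra
  haveI : Module.Flat B A := flat (R := R) I
  have hval : B.val.Flat := by
    show (B.val.toRingHom).Flat
    exact RingHom.flat_algebraMap_iff.2 ‹Module.Flat B A›
  haveI : Module.Flat (B ⊗[R] B) (A ⊗[R] A) := RingHom.Flat.tensorProductMap hval hval
  haveI : IsScalarTower R (B ⊗[R] B) (A ⊗[R] A) := IsScalarTower.of_algebraMap_eq fun r => (inc.commutes r).symm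
  haveI : Algebra.IsIntegral R (A ⊗[R] A) := Algebra.IsIntegral.of_finite R _
  haveI : Algebra.IsIntegral (B ⊗[R] B) (A ⊗[R] A) := Algebra.IsIntegral.tower_top R
  refine Module.FaithfullyFlat.of_comap_surjective fun p => ?_
  obtain ⟨Q, -, hQ, hQp⟩ := Ideal.exists_ideal_over_prime_of_isIntegral p.asIdeal (⊥ : Ideal (A ⊗[R] A)) (fun c hc => by
    rw [Ideal.mem_comap, Ideal.mem_bot] at hc
    have h0 : c = 0 := TensorProduct.map_injective_of_flat_flat B.val.toLinearMap B.val.toLinearMap
      Subtype.val_injective Subtype.val_injective (hc.trans (map_zero inc).symm)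
    rw [h0]
    exact p.asIdeal.zero_mem)
  exact ⟨⟨Q, hQ⟩, PrimeSpectrum.ext hQp⟩

theorem formallyUnramified {u : A} (hu : IsIdempotentElem u) (hI : I = Ideal.span {u}) :
    Algebra.FormallyUnramified R (inv (R := R) I) := by
  classical
  let B := inv (R := R) I
  let inc := Algebra.TensorProduct.map B.val B.val
  let D := KaehlerDifferential.ideal R B
  let K := D.map inc.toRingHom
  let q : A ⊗[R] A →ₐ[R] A ⊗[B] A :=
    Algebra.TensorProduct.lift ((Algebra.TensorProduct.includeLeft : A →ₐ[B] A ⊗[B] A).restrictScalars R)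
      ((Algebra.TensorProduct.includeRight : A →ₐ[B] A ⊗[B] A).restrictScalars R) (fun _ _ => Commute.all _ _)
  let π := Algebra.TensorProduct.map (AlgHom.id R A) (Ideal.Quotient.mkₐ R I)
  have hq : ∀ z, cmp (R := R) I (q z) = π (shear R A z) := by
    intro z
    induction z using TensorProduct.induction_on with
    | zero => simp
    | add a b ha hb => simp only [map_add, ha, hb]
    | tmul x y =>
      simp [q, π, shear_tmul]
      exact cmp_tmul I x y
  let u' : A ⊗[R] A := 1 ⊗ₜ u
  have hπ : RingHom.ker π = Ideal.span {u'} := by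
    rw [Algebra.TensorProduct.lTensor_ker _ (Ideal.Quotient.mkₐ_surjective R I)]
    have : RingHom.ker (Ideal.Quotient.mkₐ R I) = Ideal.span {u} := hI ▸ Ideal.mk_ker
    rw [this, Ideal.map_span, Set.image_singleton]
    rfl
  let f := (shear R A).symm u'
  have hf : IsIdempotentElem f := by
    refine IsIdempotentElem.map ?_ _
    show u' * u' = u'
    simp [u', hu.eq]
  have hker : RingHom.ker q = Ideal.span {f} := by
    ext z
    rw [RingHom.mem_ker, ← map_eq_zero_iff _ (cmp_bijective (R := R) I).1, hq, ← RingHom.mem_ker, hπ,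
      Ideal.mem_span_singleton, Ideal.mem_span_singleton]
    constructor
    · intro h
      simpa [f] using map_dvd (shear R A).symm h
    · intro h
      simpa [f] using map_dvd (shear R A) h
  have hqK : RingHom.ker q = K := by
    apply le_antisymm
    · let f₁ : A →ₐ[B] (A ⊗[R] A) ⧸ K := (Ideal.Quotient.mkₐ B K).comp Algebra.TensorProduct.includeLeft
      let f₂ : A →ₐ[B] (A ⊗[R] A) ⧸ K :=
        { ((Ideal.Quotient.mkₐ R K).comp (Algebra.TensorProduct.includeRight : A →ₐ[R] A ⊗[R] A)).toRingHom with
          commutes' := fun b => by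
            refine (Ideal.Quotient.eq (I := K)).2 ?_
            have h1 : (1 : B) ⊗ₜ[R] b - b ⊗ₜ[R] (1 : B) ∈ D :=
              KaehlerDifferential.one_smul_sub_smul_one_mem_ideal R b
            have h2 := Ideal.mem_map_of_mem inc.toRingHom h1
            have h3 : (1 : A) ⊗ₜ[R] (b : A) - (b : A) ⊗ₜ[R] (1 : A) ∈ K := by simpa [inc, K] using h2
            exact h3 }
      let ψ := Algebra.TensorProduct.lift f₁ f₂ (fun _ _ => Commute.all _ _)
      have hψ : ∀ z, ψ (q z) = Ideal.Quotient.mk K z := by
        intro z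
        induction z using TensorProduct.induction_on with
        | zero => simp
        | add a b ha hb => simp only [map_add, ha, hb]
        | tmul x y =>
          simp only [q, Algebra.TensorProduct.lift_tmul, AlgHom.restrictScalars_apply,
            Algebra.TensorProduct.includeLeft_apply, Algebra.TensorProduct.includeRight_apply,
            Algebra.TensorProduct.tmul_mul_tmul, mul_one, one_mul, ψ]
          show Ideal.Quotient.mk K (x ⊗ₜ 1) * Ideal.Quotient.mk K (1 ⊗ₜ y) = _
          rw [← map_mul, Algebra.TensorProduct.tmul_mul_tmul, mul_one, one_mul]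
      intro z hz
      rw [← Ideal.Quotient.eq_zero_iff_mem, ← hψ, RingHom.mem_ker.1 hz, map_zero]
    · rw [Ideal.map_le_iff_le_comap]
      show D ≤ _
      rw [show D = KaehlerDifferential.ideal R B from rfl, ← KaehlerDifferential.span_range_eq_ideal]
      refine Ideal.span_le.2 ?_
      rintro _ ⟨b, rfl⟩
      show q (inc ((1 : B) ⊗ₜ[R] b - b ⊗ₜ[R] (1 : B))) = 0
      have h1 : (1 : A) ⊗ₜ[B] (b : A) = (b : A) ⊗ₜ[B] (1 : A) := by
        have : (b : A) = b • (1 : A) := (mul_one (b : A)).symm
        rw [this, TensorProduct.tmul_smul, TensorProduct.smul_tmul']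
      simp [q, inc, h1]
  letI := inc.toRingHom.toAlgebra
  haveI : Module.FaithfullyFlat (B ⊗[R] B) (A ⊗[R] A) := faithfullyFlat_map_val (R := R) I
  have hD : IsIdempotentElem D := by
    refine Ideal.map_injective_of_faithfullyFlat (B := A ⊗[R] A) ?_
    show (D * D).map inc.toRingHom = K
    rw [Ideal.map_mul, show D.map inc.toRingHom = K from rfl, ← hqK, hker, Ideal.span_singleton_mul_span_singleton,
      hf.eq]
  exact ⟨(Ideal.cotangent_subsingleton_iff _).2 hD⟩

end

end Groth.Agent.Lib.OT67.FinQuot
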