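import Groth.Agent.Lib.OT67.FinQuot

/-!
The quotient by a normal finite locally free subgroup is a Hopf subalgebra whose augmentation ideal cuts out the subgroup.
-/

open TensorProduct WithConv

set_option linter.style.haveILetI false

universe u v

namespace Groth.Agent.Lib.OT67.FinQuot

noncomputable section

/-- A tensor lies in `B ⊗ B` as soon as it is annihilated on both sides by a map with kernel `B`. -/
theorem mem_range_map_of_flat {R : Type*} [CommRing R] {B M P : Type*} [AddCommGroup B] [AddCommGroup M]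
    [AddCommGroup P] [Module R B] [Module R M] [Module R P] [Module.Flat R B] [Module.Flat R M] [Module.Flat R P]
    {val : B →ₗ[R] M} {δ : M →ₗ[R] P} (hex : Function.Exact val δ) (hval : Function.Injective val)
    {z : M ⊗[R] M} (h1 : LinearMap.rTensor M δ z = 0) (h2 : LinearMap.lTensor M δ z = 0) :
    z ∈ LinearMap.range (TensorProduct.map val val) := by
  obtain ⟨w, rfl⟩ := (Module.Flat.lTensor_exact M hex z).1 h2
  rw [← LinearMap.comp_apply, LinearMap.rTensor_comp_lTensor, ← LinearMap.lTensor_comp_rTensor,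
    LinearMap.comp_apply] at h1
  have h3 : LinearMap.rTensor B δ w = 0 :=
    Module.Flat.lTensor_preserves_injective_linearMap val hval (by rw [h1, map_zero])
  obtain ⟨w', rfl⟩ := (Module.Flat.rTensor_exact B hex w).1 h3
  exact ⟨w', by rw [← LinearMap.comp_apply, LinearMap.lTensor_comp_rTensor]⟩

variable {R : Type u} [CommRing R] {A : Type u} [CommRing A] [HopfAlgebra R A]

local notation "S" => HopfAlgebra.antipodeAlgHom R A

theorem toConv_conv3 {T : Type u} [CommRing T] [Algebra R T] (f g h : A →ₐ[R] T) :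
    toConv (Dyn.conv3 R A f g h) = toConv f * toConv g * toConv h := by
  refine WithConv.ofConv_injective (AlgHom.ext fun x => ?_)
  rw [AlgHom.convMul_apply, WithConv.ofConv_toConv]
  simp only [Dyn.conv3, AlgHom.comp_apply, Bialgebra.comulAlgHom_apply]
  induction Coalgebra.comul (R := R) x using TensorProduct.induction_on with
  | zero => simp
  | add p q hp hq => simp only [map_add, hp, hq]
  | tmul p q =>
    rw [WithConv.ofConv_toConv, Algebra.TensorProduct.map_tmul, AlgHom.id_apply, Bialgebra.comulAlgHom_apply,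
      Algebra.TensorProduct.map_tmul, Algebra.TensorProduct.lmul'_apply_tmul, Algebra.TensorProduct.lift_tmul,
      AlgHom.convMul_apply]
    congr 1
    induction Coalgebra.comul (R := R) p using TensorProduct.induction_on with
    | zero => simp
    | add r s hr hs => simp only [map_add, hr, hs]
    | tmul r s => simp

theorem comp_antipode_comp_antipode {T : Type*} [CommRing T] [Algebra R T] (g : A →ₐ[R] T) :
    (g.comp S).comp S = g := by
  apply WithConv.toConv_injective
  exact left_inv_eq_right_inv (conv_antipode_mul (g.comp S)) (conv_antipode_mul g)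

theorem mul_comp_antipode {T : Type*} [CommRing T] [Algebra R T] (g h : A →ₐ[R] T) :
    toConv ((toConv g * toConv h).ofConv.comp S) = toConv (h.comp S) * toConv (g.comp S) := by
  refine left_inv_eq_right_inv (conv_antipode_mul _) ?_
  rw [WithConv.toConv_ofConv, mul_assoc, ← mul_assoc (toConv h), conv_mul_antipode, one_mul, conv_mul_antipode]

theorem comp_comul {T : Type*} [CommRing T] [Algebra R T] (β : A ⊗[R] A →ₐ[R] T) :
    toConv (β.comp (Bialgebra.comulAlgHom R A)) = toConv (β.comp Algebra.TensorProduct.includeLeft) *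
      toConv (β.comp Algebra.TensorProduct.includeRight) := by
  refine WithConv.ofConv_injective (AlgHom.ext fun a => ?_)
  rw [WithConv.ofConv_toConv, AlgHom.convMul_apply]
  simp only [AlgHom.comp_apply, Bialgebra.comulAlgHom_apply]
  induction Coalgebra.comul (R := R) a using TensorProduct.induction_on with
  | zero => simp
  | add p q hp hq => simp only [map_add, hp, hq]
  | tmul p q => simp [← map_mul]

theorem lift_comp_inclR {T : Type*} [CommRing T] [Algebra R T] (f g : A →ₐ[R] T) :
    (Algebra.TensorProduct.lift f g fun _ _ => Commute.all _ _).comp Algebra.TensorProduct.includeRight = g :=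
  AlgHom.ext fun a => by simp

theorem map_id_right {P : Type*} [CommRing P] [Algebra R P] (f : A →ₐ[R] P) (z : A ⊗[R] A) :
    Algebra.TensorProduct.map f (AlgHom.id R A) z =
      Algebra.TensorProduct.lift ((Algebra.TensorProduct.includeLeft : P →ₐ[R] P ⊗[R] A).comp f)
        Algebra.TensorProduct.includeRight (fun _ _ => Commute.all _ _) z := by
  induction z using TensorProduct.induction_on with
  | zero => simp
  | add p q hp hq => simp only [map_add, hp, hq]
  | tmul p q => simp

theorem map_id_left {P : Type*} [CommRing P] [Algebra R P] (f : A →ₐ[R] P) (z : A ⊗[R] A) :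
    Algebra.TensorProduct.map (AlgHom.id R A) f z =
      Algebra.TensorProduct.lift (Algebra.TensorProduct.includeLeft : A →ₐ[R] A ⊗[R] P)
        ((Algebra.TensorProduct.includeRight : P →ₐ[R] A ⊗[R] P).comp f) (fun _ _ => Commute.all _ _) z := by
  induction z using TensorProduct.induction_on with
  | zero => simp
  | add p q hp hq => simp only [map_add, hp, hq]
  | tmul p q => simp

variable (I : Ideal A)

theorem mkₐ_eq_zero {a : A} (ha : a ∈ I) : Ideal.Quotient.mkₐ R I a = 0 :=
  Ideal.Quotient.eq_zero_iff_mem.2 ha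

variable [I.IsHopfIdeal R]

theorem mul_apply_inv {T : Type*} [CommRing T] [Algebra R T] {b : A} (hb : b ∈ inv (R := R) I) (x h : A →ₐ[R] T)
    (hh : ∀ a ∈ I, h a = 0) : (toConv x * toConv h).ofConv b = x b := by
  let β : A ⊗[R] (A ⧸ I) →ₐ[R] T :=
    Algebra.TensorProduct.lift x (Ideal.Quotient.liftₐ I h hh) (fun _ _ => Commute.all _ _)
  have h1 : toConv (β.comp (act (R := R) I)) = toConv x * toConv h := by
    rw [act_comp]
    congr 2 <;> exact AlgHom.ext fun a => by simp [β] <;> exact Ideal.Quotient.lift_mk _ _ _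
  have h2 := DFunLike.congr_fun (congrArg WithConv.ofConv h1) b
  simp only [WithConv.ofConv_toConv, AlgHom.comp_apply] at h2
  rw [← h2, (AlgHom.mem_equalizer _ _ _).1 hb]
  simp [β]

variable (hI : SGA3.IsNormalHopfIdeal R A I)
include hI

theorem mul_mul_apply_inv {T : Type u} [CommRing T] [Algebra R T] {b : A} (hb : b ∈ inv (R := R) I)
    (g h g' : A →ₐ[R] T) (hh : ∀ a ∈ I, h a = 0) :
    (toConv g * toConv h * toConv g').ofConv b = (toConv g * toConv g').ofConv b := by
  let k : A →ₐ[R] T := Dyn.conv3 R A (g'.comp S) h ((g'.comp S).comp S)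
  have hk : ∀ a ∈ I, k a = 0 := hI T (g'.comp S) h hh
  have h1 : toConv g * toConv h * toConv g' =
      toConv (toConv g * toConv g').ofConv * toConv k := by
    rw [WithConv.toConv_ofConv, toConv_conv3, comp_antipode_comp_antipode]
    simp only [WithConv.toConv_ofConv, mul_assoc]
    rw [← mul_assoc (toConv g') (toConv (g'.comp S)), conv_mul_antipode, one_mul]
  rw [h1, mul_apply_inv I hb _ _ hk]

theorem mul_inv_apply_inv {T : Type u} [CommRing T] [Algebra R T] {b : A} (hb : b ∈ inv (R := R) I)
    (g h : A →ₐ[R] T) (hh : ∀ a ∈ I, h a = 0) :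
    (toConv h * toConv (g.comp S)).ofConv b = (g.comp S) b := by
  let k : A →ₐ[R] T := Dyn.conv3 R A g h (g.comp S)
  have h2 : toConv h * toConv (g.comp S) = toConv (g.comp S) * toConv k := by
    rw [toConv_conv3, ← mul_assoc, ← mul_assoc, conv_antipode_mul, one_mul]
  rw [h2]
  exact mul_apply_inv I hb (g.comp S) k (hI T g h hh)

theorem antipode_mem_inv {b : A} (hb : b ∈ inv (R := R) I) : S b ∈ inv (R := R) I := by
  rw [AlgHom.mem_equalizer]
  let g : A →ₐ[R] A ⊗[R] (A ⧸ I) := Algebra.TensorProduct.includeLeft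
  let h : A →ₐ[R] A ⊗[R] (A ⧸ I) := Algebra.TensorProduct.includeRight.comp (Ideal.Quotient.mkₐ R I)
  have hh : ∀ a ∈ I, (h.comp S) a = 0 := by
    intro a ha
    have : S a ∈ I := Ideal.IsHopfIdeal.antipode_mem (R := R) ha
    show Algebra.TensorProduct.includeRight (Ideal.Quotient.mkₐ R I (S a)) = 0
    rw [mkₐ_eq_zero I this, map_zero]
  have h1 : (act (R := R) I).comp S = ((toConv (h.comp S)) * toConv (g.comp S)).ofConv := by
    rw [← mul_comp_antipode, WithConv.ofConv_toConv, act_eq_conv]
  show ((act (R := R) I).comp S) b = g (S b)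
  rw [h1]
  exact mul_inv_apply_inv I hI hb g (h.comp S) hh

theorem lift_act_left {T : Type u} [CommRing T] [Algebra R T] {b : A} (hb : b ∈ inv (R := R) I)
    (jL : A ⊗[R] (A ⧸ I) →ₐ[R] T) (g' : A →ₐ[R] T) :
    Algebra.TensorProduct.lift (jL.comp (act (R := R) I)) g' (fun _ _ => Commute.all _ _) (Coalgebra.comul (R := R) b) =
      Algebra.TensorProduct.lift (jL.comp Algebra.TensorProduct.includeLeft) g' (fun _ _ => Commute.all _ _)
        (Coalgebra.comul (R := R) b) := by
  let g : A →ₐ[R] T := jL.comp Algebra.TensorProduct.includeLeft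
  let h : A →ₐ[R] T := (jL.comp Algebra.TensorProduct.includeRight).comp (Ideal.Quotient.mkₐ R I)
  have h1 : toConv ((Algebra.TensorProduct.lift (jL.comp (act (R := R) I)) g' fun _ _ => Commute.all _ _).comp
      (Bialgebra.comulAlgHom R A)) = toConv g * toConv h * toConv g' := by
    rw [comp_comul, Algebra.TensorProduct.lift_comp_includeLeft, lift_comp_inclR,
      act_comp]
  have h2 : toConv ((Algebra.TensorProduct.lift g g' fun _ _ => Commute.all _ _).comp
      (Bialgebra.comulAlgHom R A)) = toConv g * toConv g' := by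
    rw [comp_comul, Algebra.TensorProduct.lift_comp_includeLeft, lift_comp_inclR]
  refine (DFunLike.congr_fun (congrArg WithConv.ofConv h1) b).trans
    (Eq.trans ?_ (DFunLike.congr_fun (congrArg WithConv.ofConv h2) b).symm)
  exact mul_mul_apply_inv I hI hb g h g' fun a ha => by
    show (jL.comp Algebra.TensorProduct.includeRight) (Ideal.Quotient.mkₐ R I a) = 0
    rw [mkₐ_eq_zero I ha, map_zero]

theorem comul_rTensor {b : A} (hb : b ∈ inv (R := R) I) :
    Algebra.TensorProduct.map (act (R := R) I) (AlgHom.id R A) (Coalgebra.comul (R := R) b) =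
      Algebra.TensorProduct.map (Algebra.TensorProduct.includeLeft : A →ₐ[R] A ⊗[R] (A ⧸ I)) (AlgHom.id R A)
        (Coalgebra.comul (R := R) b) := by
  rw [map_id_right, map_id_right]
  have h1 := lift_act_left (T := (A ⊗[R] (A ⧸ I)) ⊗[R] A) I hI hb Algebra.TensorProduct.includeLeft Algebra.TensorProduct.includeRight
  exact h1

omit hI in
theorem lift_act_right {T : Type u} [CommRing T] [Algebra R T] {b : A} (hb : b ∈ inv (R := R) I)
    (g : A →ₐ[R] T) (jR : A ⊗[R] (A ⧸ I) →ₐ[R] T) :
    Algebra.TensorProduct.lift g (jR.comp (act (R := R) I)) (fun _ _ => Commute.all _ _) (Coalgebra.comul (R := R) b) =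
      Algebra.TensorProduct.lift g (jR.comp Algebra.TensorProduct.includeLeft) (fun _ _ => Commute.all _ _)
        (Coalgebra.comul (R := R) b) := by
  let g' : A →ₐ[R] T := jR.comp Algebra.TensorProduct.includeLeft
  let h : A →ₐ[R] T := (jR.comp Algebra.TensorProduct.includeRight).comp (Ideal.Quotient.mkₐ R I)
  have h1 : toConv ((Algebra.TensorProduct.lift g (jR.comp (act (R := R) I)) fun _ _ => Commute.all _ _).comp
      (Bialgebra.comulAlgHom R A)) = toConv (toConv g * toConv g').ofConv * toConv h := by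
    rw [comp_comul, Algebra.TensorProduct.lift_comp_includeLeft, lift_comp_inclR,
      act_comp, WithConv.toConv_ofConv, mul_assoc]
  have h2 : toConv ((Algebra.TensorProduct.lift g g' fun _ _ => Commute.all _ _).comp
      (Bialgebra.comulAlgHom R A)) = toConv g * toConv g' := by
    rw [comp_comul, Algebra.TensorProduct.lift_comp_includeLeft, lift_comp_inclR]
  refine (DFunLike.congr_fun (congrArg WithConv.ofConv h1) b).trans
    (Eq.trans ?_ (DFunLike.congr_fun (congrArg WithConv.ofConv h2) b).symm)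
  exact mul_apply_inv I hb _ h fun a ha => by
    show (jR.comp Algebra.TensorProduct.includeRight) (Ideal.Quotient.mkₐ R I a) = 0
    rw [mkₐ_eq_zero I ha, map_zero]

omit hI in
theorem comul_lTensor {b : A} (hb : b ∈ inv (R := R) I) :
    Algebra.TensorProduct.map (AlgHom.id R A) (act (R := R) I) (Coalgebra.comul (R := R) b) =
      Algebra.TensorProduct.map (AlgHom.id R A) (Algebra.TensorProduct.includeLeft : A →ₐ[R] A ⊗[R] (A ⧸ I))
        (Coalgebra.comul (R := R) b) := by
  rw [map_id_left, map_id_left]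
  have h1 := lift_act_right (T := A ⊗[R] (A ⊗[R] (A ⧸ I))) I hb Algebra.TensorProduct.includeLeft Algebra.TensorProduct.includeRight
  exact h1

variable [Module.Finite R (A ⧸ I)] [Module.Projective R (A ⧸ I)] [Module.Flat R A] [Module.Flat R (inv (R := R) I)]

omit [Module.Finite R (A ⧸ I)] in
theorem isHopfSubalgebra : SGA3.IsHopfSubalgebra R A (inv (R := R) I) := by
  refine ⟨fun b hb => ?_, fun b hb => antipode_mem_inv I hI hb⟩
  let iL : A →ₐ[R] A ⊗[R] (A ⧸ I) := Algebra.TensorProduct.includeLeft
  let δ : A →ₗ[R] A ⊗[R] (A ⧸ I) := (act (R := R) I).toLinearMap - iL.toLinearMap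
  refine mem_range_map_of_flat (δ := δ) (fun a => ?_) Subtype.val_injective ?_ ?_
  · refine ⟨fun ha => ⟨⟨a, (AlgHom.mem_equalizer _ _ _).2 (sub_eq_zero.1 ha)⟩, rfl⟩, ?_⟩
    rintro ⟨a, rfl⟩
    exact sub_eq_zero.2 ((AlgHom.mem_equalizer _ _ _).1 a.2)
  · simp only [δ, LinearMap.rTensor_sub]
    exact sub_eq_zero.2 (comul_rTensor I hI hb)
  · simp only [δ, LinearMap.lTensor_sub]
    exact sub_eq_zero.2 (comul_lTensor I hb)

omit hI [Module.Flat R A] [Module.Flat R (inv (R := R) I)] in
theorem augIdealSpan_eq : SGA3.augIdealSpan R A (inv (R := R) I) = I := by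
  let J := SGA3.augIdealSpan R A (inv (R := R) I)
  let ε := Bialgebra.counitAlgHom R A
  let ρ : A ⊗[R] (A ⧸ I) →ₐ[R] A ⧸ I :=
    Algebra.TensorProduct.lift ((Algebra.ofId R (A ⧸ I)).comp ε) (AlgHom.id R _) (fun _ _ => Commute.all _ _)
  have hρ : ρ.comp (act (R := R) I) = Ideal.Quotient.mkₐ R I := by
    apply WithConv.toConv_injective
    have hl : toConv (ρ.comp Algebra.TensorProduct.includeLeft) = (1 : WithConv (A →ₐ[R] A ⧸ I)) :=
      WithConv.ofConv_injective (AlgHom.ext fun x => by simp [ρ, ε, AlgHom.convOne_apply])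
    have hr : (ρ.comp Algebra.TensorProduct.includeRight).comp (Ideal.Quotient.mkₐ R I) = Ideal.Quotient.mkₐ R I :=
      AlgHom.ext fun x => by simp [ρ]
    rw [act_comp, hl, hr, one_mul]
  apply le_antisymm
  · refine Ideal.span_le.2 fun b hb => ?_
    obtain ⟨hb, hεb⟩ := hb
    have h1 := DFunLike.congr_fun hρ b
    rw [AlgHom.comp_apply, (AlgHom.mem_equalizer _ _ _).1 hb] at h1
    simp [ρ, ε, hεb] at h1
    exact Ideal.Quotient.eq_zero_iff_mem.1 h1.symm
  · intro a ha
    let B := inv (R := R) I
    let f₁ : A →ₐ[B] A ⧸ J := Ideal.Quotient.mkₐ B J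
    let f₂ : A →ₐ[B] A ⧸ J :=
      { ((Algebra.ofId R (A ⧸ J)).comp ε).toRingHom with
        commutes' := fun b => by
          show algebraMap R (A ⧸ J) (ε b) = Ideal.Quotient.mk J b
          rw [IsScalarTower.algebraMap_apply R A (A ⧸ J)]
          refine (Ideal.Quotient.eq (I := J)).2 ?_
          rw [← neg_sub]
          refine neg_mem (Ideal.subset_span ⟨sub_mem b.2 (B.algebraMap_mem _), ?_⟩)
          simp [ε] }
    let ψ := Algebra.TensorProduct.lift f₁ f₂ (fun _ _ => Commute.all _ _)
    let e := RingEquiv.ofBijective (cmp (R := R) I) (cmp_bijective (R := R) I)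
    let Φ : A ⊗[R] (A ⧸ I) →+* A ⧸ J := ψ.toRingHom.comp e.symm.toRingHom
    have hΦ : ∀ z, Φ (cmp (R := R) I z) = ψ z := fun z => congrArg ψ (e.symm_apply_apply z)
    have hL : ∀ y : A, Φ (y ⊗ₜ[R] (1 : A ⧸ I)) = algebraMap R (A ⧸ J) (ε y) := by
      intro y
      have : cmp (R := R) I ((1 : A) ⊗ₜ y) = y ⊗ₜ[R] (1 : A ⧸ I) := by
        rw [cmp_tmul, map_one, one_mul]
      rw [← this, hΦ]
      exact (Algebra.TensorProduct.lift_tmul _ _ _ _ _).trans (by rw [map_one, one_mul]; rfl)
    have hfac : ∀ z, Φ z = Φ ((1 : A) ⊗ₜ[R] ρ z) := by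
      intro z
      induction z using TensorProduct.induction_on with
      | zero => simp
      | add p q hp hq => rw [map_add, hp, hq, map_add, tmul_add, map_add]
      | tmul y x =>
        have h1 : (1 : A) ⊗ₜ[R] ρ (y ⊗ₜ x) = algebraMap R (A ⊗[R] (A ⧸ I)) (ε y) * ((1 : A) ⊗ₜ[R] x) := by
          rw [← Algebra.smul_def, ← TensorProduct.tmul_smul]
          simp [ρ, ε, Algebra.smul_def]
        have h2 : (y ⊗ₜ[R] x : A ⊗[R] (A ⧸ I)) = (y ⊗ₜ 1) * (1 ⊗ₜ x) := by simp
        rw [h1, h2, map_mul, map_mul, hL]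
        congr 1
        rw [show algebraMap R (A ⊗[R] (A ⧸ I)) (ε y) = algebraMap R A (ε y) ⊗ₜ 1 from rfl, hL]
        simp [ε]
    have h3 := hΦ (a ⊗ₜ 1)
    rw [cmp_tmul, ← Algebra.TensorProduct.one_def, mul_one, hfac, ← AlgHom.comp_apply, hρ, mkₐ_eq_zero I ha,
      tmul_zero, map_zero] at h3
    have h4 : ψ (a ⊗ₜ 1) = Ideal.Quotient.mk J a :=
      (Algebra.TensorProduct.lift_tmul _ _ _ _ _).trans (by rw [map_one, mul_one]; rfl)
    exact Ideal.Quotient.eq_zero_iff_mem.1 (h4.symm.trans h3.symm)

end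

end Groth.Agent.Lib.OT67.FinQuot
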