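import Groth.Agent.Lib.OT67.DualExact
import Groth.Agent.Lib.OT67.QuotLift
import Groth.Agent.S11925
import Groth.Agent.S11926
import Groth.Agent.S11932
import Mathlib

/-!
Splittings of finite group schemes over perfect fields and their Cartier duals.
-/

open TensorProduct WithConv

set_option linter.style.haveILetI false

universe u

namespace Groth.Agent.Lib.OT67.Triple

noncomputable section

theorem isCocomm_quotient {R : Type*} [CommRing R] {A : Type*} [CommRing A] [HopfAlgebra R A] [Coalgebra.IsCocomm R A]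
    (I : Ideal A) [I.IsHopfIdeal R] : Coalgebra.IsCocomm R (A ⧸ I) := by
  refine ⟨LinearMap.ext fun x => ?_⟩
  obtain ⟨a, rfl⟩ := Ideal.Quotient.mk_surjective x
  simp only [LinearMap.comp_apply, LinearEquiv.coe_coe, Bialgebra.Quotient.comul_mk]
  rw [← TensorProduct.map_comm, Coalgebra.comm_comul]

theorem eval_bijective {R : Type u} [CommRing R] (A : Type u) [CommRing A] [Bialgebra R A]
    [Module.Finite R A] [Module.Projective R A] : Function.Bijective (CartDual.eval R A) := by
  have h := Module.bijective_dual_eval R A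
  refine ⟨fun b b' hb => h.1 (LinearMap.ext fun φ => ?_), fun t => ?_⟩
  · exact congrArg (fun t : CartDual.D R (CartDual.D R A) => t.ofConv (WithConv.toConv φ)) hb
  · obtain ⟨b, hb⟩ := h.2 (t.ofConv ∘ₗ (CartDual.toDual R A).symm.toLinearMap)
    exact ⟨b, WithConv.ofConv_injective (LinearMap.ext fun x => LinearMap.congr_fun hb x.ofConv)⟩

theorem transpose_bijective {R : Type u} [CommRing R] {A B : Type u} [CommRing A] [Bialgebra R A] [CommRing B]
    [Bialgebra R B] [Module.Finite R A] [Module.Projective R A] [Module.Finite R B] [Module.Projective R B]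
    (f : A →ₐc[R] B) (hf : Function.Bijective f) : Function.Bijective (CartDual.transpose R f) := by
  let e := LinearEquiv.ofBijective (f : A →ₗ[R] B) hf
  refine ⟨fun x y h => WithConv.ofConv_injective (LinearMap.ext fun b => ?_), fun x => ?_⟩
  · obtain ⟨a, rfl⟩ := hf.2 b
    exact LinearMap.congr_fun (congrArg WithConv.ofConv h) a
  · refine ⟨toConv (x.ofConv.comp e.symm.toLinearMap), WithConv.ofConv_injective (LinearMap.ext fun a => ?_)⟩
    show x.ofConv (e.symm (e a)) = x.ofConv a
    rw [e.symm_apply_apply]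

/-- The pairing of two duals. -/
def pair (k : Type u) [Field k] (C C' : Type u) [CommRing C] [Algebra k C] [Module.Finite k C] [CommRing C'] [Algebra k C']
    [Module.Finite k C'] : CartDual.D k C ⊗[k] CartDual.D k C' ≃ₗ[k] Module.Dual k (C ⊗[k] C') :=
  TensorProduct.congr (CartDual.toDual k C) (CartDual.toDual k C') ≪≫ₗ CartDual.dualTensorEquiv k C C'

theorem pair_tmul (k : Type u) [Field k] (C C' : Type u) [CommRing C] [Algebra k C] [Module.Finite k C] [CommRing C']
    [Algebra k C'] [Module.Finite k C'] (x : CartDual.D k C) (y : CartDual.D k C') (a : C) (a' : C') :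
    pair k C C' (x ⊗ₜ y) (a ⊗ₜ a') = x a * y a' := by
  simp [pair, CartDual.coe_apply]

/-- Duality turns a multiplicative splitting into a comultiplicative one. -/
theorem dual_split_bijective {k : Type u} [Field k] {E C C' : Type u} [CommRing E] [HopfAlgebra k E]
    [Module.Finite k E] [CommRing C] [Bialgebra k C] [Module.Finite k C] [CommRing C'] [Bialgebra k C']
    [Module.Finite k C'] (σ : C →ₐc[k] E) (τ : C' →ₐc[k] E)
    (h : Function.Bijective ((LinearMap.mul' k E).comp (TensorProduct.map (σ : C →ₗ[k] E) (τ : C' →ₗ[k] E)))) :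
    Function.Bijective ((TensorProduct.map (CartDual.transposeLin k (σ : C →ₗ[k] E))
      (CartDual.transposeLin k (τ : C' →ₗ[k] E))).comp
        (Coalgebra.comul : CartDual.D k E →ₗ[k] CartDual.D k E ⊗[k] CartDual.D k E)) := by
  let μ := (LinearMap.mul' k E).comp (TensorProduct.map (σ : C →ₗ[k] E) (τ : C' →ₗ[k] E))
  let Φ := (TensorProduct.map (CartDual.transposeLin k (σ : C →ₗ[k] E))
      (CartDual.transposeLin k (τ : C' →ₗ[k] E))).comp
        (Coalgebra.comul : CartDual.D k E →ₗ[k] CartDual.D k E ⊗[k] CartDual.D k E)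
  have key : (pair k C C').toLinearMap.comp Φ = μ.dualMap.comp (CartDual.toDual k E).toLinearMap := by
    refine LinearMap.ext fun x => TensorProduct.ext' fun c c' => ?_
    show pair k C C' (TensorProduct.map _ _ (Coalgebra.comul (R := k) x)) (c ⊗ₜ c') = x (σ c * τ c')
    rw [← CartDual.ev₂_coalgebra_comul_tmul k E x]
    induction Coalgebra.comul (R := k) x using TensorProduct.induction_on with
    | zero => simp
    | add p q hp hq => simp only [map_add, LinearMap.add_apply, hp, hq]
    | tmul p q =>
      rw [TensorProduct.map_tmul, pair_tmul, CartDual.ev₂_tmul]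
      rfl
  let e := LinearEquiv.ofBijective μ h
  have h1 : Function.Bijective (μ.dualMap.comp (CartDual.toDual k E).toLinearMap) :=
    e.dualMap.bijective.comp (CartDual.toDual k E).bijective
  rw [← key, LinearMap.coe_comp, LinearEquiv.coe_coe] at h1
  exact (Function.Bijective.of_comp_iff' (pair k C C').bijective Φ).1 h1

theorem transpose_injective {R : Type u} [CommRing R] {A B : Type u} [CommRing A] [Bialgebra R A] [CommRing B]
    [Bialgebra R B] [Module.Finite R A] [Module.Projective R A] [Module.Finite R B] [Module.Projective R B]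
    (f : A →ₐc[R] B) (hf : Function.Surjective f) : Function.Injective (CartDual.transpose R f) :=
  fun x y h => WithConv.ofConv_injective (LinearMap.ext fun b => by
    obtain ⟨a, rfl⟩ := hf b
    exact LinearMap.congr_fun (congrArg WithConv.ofConv h) a)

/-- A splitting of a bialgebra as reduced times local. -/
structure Split (k : Type u) [Field k] (E : Type u) [CommRing E] [HopfAlgebra k E]
    [(nilradical E).IsHopfIdeal k] where
  /-- the local ideal -/
  I : Ideal E
  isHopf : I.IsHopfIdeal k
  isLocal : IsLocalRing (E ⧸ I)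
  /-- inclusion of the reduced factor -/
  σ : (E ⧸ nilradical E) →ₐc[k] E
  /-- inclusion of the local factor -/
  τ : letI := isHopf; (E ⧸ I) →ₐc[k] E
  inv : letI := isHopf; ∀ (y : E ⧸ nilradical E) (x : E ⧸ I),
    Algebra.TensorProduct.map (Ideal.Quotient.mkₐ k (nilradical E)) (Ideal.Quotient.mkₐ k I)
      (Coalgebra.comul (R := k) (σ y * τ x)) = y ⊗ₜ x
  bij : Function.Bijective ((Algebra.TensorProduct.map (Ideal.Quotient.mkₐ k (nilradical E)) (Ideal.Quotient.mkₐ k I)).comp
    (Bialgebra.comulAlgHom k E))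

/-- The inclusion of the left factor. -/
def inclL {k : Type u} [CommRing k] (P Q : Type u) [CommRing P] [Bialgebra k P] [CommRing Q] [Bialgebra k Q] :
    P →ₐc[k] P ⊗[k] Q :=
  (Bialgebra.TensorProduct.map (BialgHom.id k P) (Bialgebra.unitBialgHom k Q)).comp
    (Bialgebra.TensorProduct.rid k k P).symm.toBialgHom

/-- The inclusion of the right factor. -/
def inclR {k : Type u} [CommRing k] (P Q : Type u) [CommRing P] [Bialgebra k P] [CommRing Q] [Bialgebra k Q] :
    Q →ₐc[k] P ⊗[k] Q :=
  (Bialgebra.TensorProduct.map (Bialgebra.unitBialgHom k P) (BialgHom.id k Q)).comp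
    (Bialgebra.TensorProduct.lid k Q).symm.toBialgHom

theorem inclL_apply {k : Type u} [CommRing k] (P Q : Type u) [CommRing P] [Bialgebra k P] [CommRing Q] [Bialgebra k Q]
    (p : P) : inclL P Q p = p ⊗ₜ[k] (1 : Q) := by
  show Bialgebra.TensorProduct.map (BialgHom.id k P) (Bialgebra.unitBialgHom k Q) (p ⊗ₜ[k] (1 : k)) = _
  rw [Bialgebra.TensorProduct.map_tmul, map_one]
  rfl

theorem inclR_apply {k : Type u} [CommRing k] (P Q : Type u) [CommRing P] [Bialgebra k P] [CommRing Q] [Bialgebra k Q]
    (q : Q) : inclR P Q q = (1 : P) ⊗ₜ[k] q := by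
  show Bialgebra.TensorProduct.map (Bialgebra.unitBialgHom k P) (BialgHom.id k Q) ((1 : k) ⊗ₜ[k] q) = _
  rw [Bialgebra.TensorProduct.map_tmul, map_one]
  rfl

theorem exists_split (k : Type u) [Field k] [PerfectField k] (p : ℕ) [Fact p.Prime] [CharP k p] (E : Type u)
    [CommRing E] [HopfAlgebra k E] [Coalgebra.IsCocomm k E] [FiniteDimensional k E] [(nilradical E).IsHopfIdeal k] :
    Nonempty (Split k E) := by
  obtain ⟨I, ⟨hI, hloc, hbij⟩, -⟩ := Groth.Agent.S11932.result k p E
  haveI := hI
  let s : E →ₐc[k] (E ⧸ nilradical E) ⊗[k] (E ⧸ I) :=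
    (Bialgebra.TensorProduct.map (Bialgebra.Quotient.mkBialgHom (nilradical E)) (Bialgebra.Quotient.mkBialgHom I)).comp
      (Bialgebra.comulBialgHom k E)
  let se := BialgEquiv.ofBijective s hbij
  refine ⟨⟨I, hI, hloc, se.symm.toBialgHom.comp (inclL _ _), se.symm.toBialgHom.comp (inclR _ _), fun y x => ?_, hbij⟩⟩
  show s (se.symm (inclL _ _ y) * se.symm (inclR _ _ x)) = _
  rw [← map_mul, inclL_apply, inclR_apply, Algebra.TensorProduct.tmul_mul_tmul, mul_one, one_mul]
  exact se.apply_symm_apply _

namespace Split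

variable {k : Type u} [Field k] {E : Type u} [CommRing E] [HopfAlgebra k E] [(nilradical E).IsHopfIdeal k]
  (S : Split k E)

instance : S.I.IsHopfIdeal k := S.isHopf
instance : IsLocalRing (E ⧸ S.I) := S.isLocal

/-- The splitting map. -/
def s : E →ₐ[k] (E ⧸ nilradical E) ⊗[k] (E ⧸ S.I) :=
  (Algebra.TensorProduct.map (Ideal.Quotient.mkₐ k (nilradical E)) (Ideal.Quotient.mkₐ k S.I)).comp
    (Bialgebra.comulAlgHom k E)

theorem eq_mul (a : E) (v : E →ₗ[k] E) (h : ∀ y x, v (S.σ y * S.τ x) = S.σ y * S.τ x) : v a = a := by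
  obtain ⟨z, hz⟩ : ∃ z, a = z := ⟨a, rfl⟩
  have hs : ∀ z : (E ⧸ nilradical E) ⊗[k] (E ⧸ S.I),
      ∃ b : E, S.s b = z ∧ v b = b := by
    intro z
    induction z using TensorProduct.induction_on with
    | zero => exact ⟨0, map_zero _, map_zero _⟩
    | add p q hp hq =>
      obtain ⟨b, hb, hb'⟩ := hp
      obtain ⟨c, hc, hc'⟩ := hq
      exact ⟨b + c, by rw [map_add, hb, hc], by rw [map_add, hb', hc']⟩
    | tmul y x => exact ⟨S.σ y * S.τ x, S.inv y x, h y x⟩
  obtain ⟨b, hb, hb'⟩ := hs (S.s a)
  rwa [S.bij.1 hb] at hb'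

theorem mk_σ (y : E ⧸ nilradical E) : Ideal.Quotient.mk (nilradical E) (S.σ y) = y := by
  have h := S.inv y 1
  rw [map_one, mul_one] at h
  have h2 := congrArg (Algebra.TensorProduct.lift (AlgHom.id k (E ⧸ nilradical E))
    ((Algebra.ofId k _).comp (Bialgebra.counitAlgHom k (E ⧸ S.I))) fun _ _ => Commute.all _ _) h
  rw [Algebra.TensorProduct.lift_tmul, AlgHom.id_apply, map_one, mul_one] at h2
  refine Eq.trans ?_ h2
  have key : ∀ z : E ⊗[k] E, Algebra.TensorProduct.lift (AlgHom.id k (E ⧸ nilradical E))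
      ((Algebra.ofId k _).comp (Bialgebra.counitAlgHom k (E ⧸ S.I))) (fun _ _ => Commute.all _ _)
      (Algebra.TensorProduct.map (Ideal.Quotient.mkₐ k (nilradical E)) (Ideal.Quotient.mkₐ k S.I) z) =
      Ideal.Quotient.mk (nilradical E) (TensorProduct.rid k E (Coalgebra.counit.lTensor E z)) := by
    intro z
    induction z using TensorProduct.induction_on with
    | zero => simp
    | add p q hp hq => simp only [map_add, hp, hq]
    | tmul p q =>
      simp only [Algebra.TensorProduct.map_tmul, Algebra.TensorProduct.lift_tmul, Ideal.Quotient.mkₐ_eq_mk,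
        AlgHom.id_apply, LinearMap.lTensor_tmul, TensorProduct.rid_tmul, AlgHom.comp_apply,
        Bialgebra.counitAlgHom_apply, Bialgebra.Quotient.counit_mk]
      rw [Algebra.smul_def, map_mul, mul_comm]
      rfl
  rw [key, Coalgebra.lTensor_counit_comul, TensorProduct.rid_tmul, one_smul]

theorem mk_τ (x : E ⧸ S.I) : Ideal.Quotient.mk S.I (S.τ x) = x := by
  have h := S.inv 1 x
  rw [map_one, one_mul] at h
  have h2 := congrArg (Algebra.TensorProduct.lift ((Algebra.ofId k _).comp (Bialgebra.counitAlgHom k (E ⧸ nilradical E)))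
    (AlgHom.id k (E ⧸ S.I)) fun _ _ => Commute.all _ _) h
  rw [Algebra.TensorProduct.lift_tmul, AlgHom.id_apply, map_one, one_mul] at h2
  refine Eq.trans ?_ h2
  have key : ∀ z : E ⊗[k] E, Algebra.TensorProduct.lift ((Algebra.ofId k _).comp (Bialgebra.counitAlgHom k (E ⧸ nilradical E)))
      (AlgHom.id k (E ⧸ S.I)) (fun _ _ => Commute.all _ _)
      (Algebra.TensorProduct.map (Ideal.Quotient.mkₐ k (nilradical E)) (Ideal.Quotient.mkₐ k S.I) z) =
      Ideal.Quotient.mk S.I (TensorProduct.lid k E (Coalgebra.counit.rTensor E z)) := by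
    intro z
    induction z using TensorProduct.induction_on with
    | zero => simp
    | add p q hp hq => simp only [map_add, hp, hq]
    | tmul p q =>
      simp only [Algebra.TensorProduct.map_tmul, Algebra.TensorProduct.lift_tmul, Ideal.Quotient.mkₐ_eq_mk,
        AlgHom.id_apply, LinearMap.rTensor_tmul, TensorProduct.lid_tmul, AlgHom.comp_apply,
        Bialgebra.counitAlgHom_apply, Bialgebra.Quotient.counit_mk]
      rw [Algebra.smul_def, map_mul]
      rfl
  rw [key, Coalgebra.rTensor_counit_comul, TensorProduct.lid_tmul, one_smul]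

variable [FiniteDimensional k E]

omit [FiniteDimensional k E] in
theorem isReduced_quotient (E : Type u) [CommRing E] : IsReduced (E ⧸ nilradical E) :=
  (Ideal.isRadical_iff_quotient_reduced _).1 (by rw [nilradical]; exact Ideal.radical_isRadical _)

theorem apply_eq_of_isLocalRing {F : Type u} [CommRing F] [Bialgebra k F] [FiniteDimensional k F] [IsLocalRing F]
    (f : E →ₐc[k] F) (a : E) : f a = f (S.τ (Ideal.Quotient.mk S.I a)) := by
  haveI := isReduced_quotient E
  have h := (Groth.Agent.S11925.result k F (E ⧸ nilradical E)).2 (f.comp S.σ)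
  have hs : ∀ y x, f (S.σ y * S.τ x) = f (S.τ (Ideal.Quotient.mk S.I (S.σ y * S.τ x))) := by
    intro y x
    have h2 := (Groth.Agent.S11925.result k (E ⧸ S.I) (E ⧸ nilradical E)).2
      ((Bialgebra.Quotient.mkBialgHom S.I).comp S.σ)
    have e1 : f (S.σ y) = algebraMap k F (Coalgebra.counit (R := k) y) := h y
    have e2 : Ideal.Quotient.mk S.I (S.σ y) = algebraMap k (E ⧸ S.I) (Coalgebra.counit (R := k) y) := h2 y
    rw [map_mul, e1, map_mul, e2, mk_τ, map_mul, AlgHomClass.commutes, map_mul, AlgHomClass.commutes]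
  obtain ⟨b, hb⟩ := S.bij.2 (S.s a)
  obtain rfl : b = a := S.bij.1 hb
  have key : ∀ z, ∀ b, S.s b = z → f b = f (S.τ (Ideal.Quotient.mk S.I b)) := by
    intro z
    induction z using TensorProduct.induction_on with
    | zero =>
      intro b hb
      rw [show b = 0 from S.bij.1 (hb.trans (map_zero _).symm)]
      simp
    | add p q hp hq =>
      intro b hb
      obtain ⟨c, hc⟩ := S.bij.2 p
      obtain ⟨d, hd⟩ := S.bij.2 q
      rw [show b = c + d from S.bij.1 (hb.trans ((congrArg₂ (· + ·) hc hd).symm.trans (map_add _ c d).symm))]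
      simp only [map_add, hp c hc, hq d hd]
    | tmul y x =>
      intro b hb
      rw [show b = S.σ y * S.τ x from S.bij.1 (hb.trans (S.inv y x).symm)]
      exact hs y x
  exact key _ b rfl

theorem mem_range_τ {C : Type u} [CommRing C] [Bialgebra k C] [FiniteDimensional k C] [IsLocalRing C]
    (T : C →ₐc[k] E) (c : C) : S.τ (Ideal.Quotient.mk S.I (T c)) = T c := by
  haveI := isReduced_quotient E
  have h := (Groth.Agent.S11925.result k C (E ⧸ nilradical E)).1 ((Bialgebra.Quotient.mkBialgHom (nilradical E)).comp T)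
  refine S.bij.1 ?_
  have h1 := S.inv 1 (Ideal.Quotient.mk S.I (T c))
  rw [map_one, one_mul] at h1
  refine h1.trans ?_
  show _ = Algebra.TensorProduct.map _ _ (Coalgebra.comul (R := k) (T c))
  rw [← CoalgHomClass.map_comp_comul_apply T c]
  have h3 : ∀ z : C ⊗[k] C, Algebra.TensorProduct.map (Ideal.Quotient.mkₐ k (nilradical E)) (Ideal.Quotient.mkₐ k S.I)
      (TensorProduct.map (T : C →ₗ[k] E) (T : C →ₗ[k] E) z) =
      (1 : E ⧸ nilradical E) ⊗ₜ Ideal.Quotient.mk S.I (T (TensorProduct.lid k C (Coalgebra.counit.rTensor C z))) := by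
    intro z
    induction z using TensorProduct.induction_on with
    | zero => simp
    | add p q hp hq => simp only [map_add, hp, hq, TensorProduct.tmul_add]
    | tmul p q =>
      have e : Ideal.Quotient.mk (nilradical E) (T p) = algebraMap k _ (Coalgebra.counit (R := k) p) := h p
      rw [TensorProduct.map_tmul, LinearMap.rTensor_tmul, TensorProduct.lid_tmul, map_smul,
        ← Ideal.Quotient.mkₐ_eq_mk k S.I, map_smul, TensorProduct.tmul_smul, TensorProduct.smul_tmul',
        ← Algebra.algebraMap_eq_smul_one, ← e]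
      rfl
  rw [h3, Coalgebra.rTensor_counit_comul, TensorProduct.lid_tmul, one_smul]

theorem mem_range_σ {C : Type u} [CommRing C] [Bialgebra k C] [FiniteDimensional k C] [IsReduced C]
    (T : C →ₐc[k] E) (c : C) : S.σ (Ideal.Quotient.mk (nilradical E) (T c)) = T c := by
  have h := (Groth.Agent.S11925.result k (E ⧸ S.I) C).2 ((Bialgebra.Quotient.mkBialgHom S.I).comp T)
  refine S.bij.1 ?_
  have h1 := S.inv (Ideal.Quotient.mk (nilradical E) (T c)) 1
  rw [map_one, mul_one] at h1
  refine h1.trans ?_
  show _ = Algebra.TensorProduct.map _ _ (Coalgebra.comul (R := k) (T c))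
  rw [← CoalgHomClass.map_comp_comul_apply T c]
  have h3 : ∀ z : C ⊗[k] C, Algebra.TensorProduct.map (Ideal.Quotient.mkₐ k (nilradical E)) (Ideal.Quotient.mkₐ k S.I)
      (TensorProduct.map (T : C →ₗ[k] E) (T : C →ₗ[k] E) z) =
      Ideal.Quotient.mk (nilradical E) (T (TensorProduct.rid k C (Coalgebra.counit.lTensor C z))) ⊗ₜ (1 : E ⧸ S.I) := by
    intro z
    induction z using TensorProduct.induction_on with
    | zero => simp
    | add p q hp hq => simp only [map_add, hp, hq, TensorProduct.add_tmul]
    | tmul p q =>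
      have e : Ideal.Quotient.mk S.I (T q) = algebraMap k _ (Coalgebra.counit (R := k) q) := h q
      rw [TensorProduct.map_tmul, LinearMap.lTensor_tmul, TensorProduct.rid_tmul, map_smul,
        ← Ideal.Quotient.mkₐ_eq_mk k (nilradical E), map_smul, ← TensorProduct.smul_tmul',
        ← TensorProduct.tmul_smul, ← Algebra.algebraMap_eq_smul_one, ← e]
      rfl
  rw [h3, Coalgebra.lTensor_counit_comul, TensorProduct.rid_tmul, one_smul]

end Split

end

end Groth.Agent.Lib.OT67.Triple
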