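import Groth.Agent.Lib.OT67.BaseChange
import Groth.Agent.Lib.OT67.Triple
import Groth.Agent.S16070
import Groth.Prelude.Def_SGA3b
import Mathlib

/-!
Groups with split etale Cartier dual are diagonalisable.
-/

open TensorProduct WithConv

set_option linter.style.haveILetI false

universe u

namespace Groth.Agent.Lib.OT67.SplitMult

noncomputable section

section BaseChange

variable {R : Type u} [CommRing R] (S : Type u) [CommRing S] [Algebra R S] (A : Type u) [CommRing A] [HopfAlgebra R A]
  [Module.Finite R A] [Module.Projective R A]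

/-- Base change of linear forms, as an `R`-linear map. -/
def bcLin : CartDual.D R A →ₗ[R] CartDual.D S (S ⊗[R] A) where
  toFun := bcDual S
  map_add' := map_add _
  map_smul' r φ := bcForm_ext S fun a => by
    show (bcForm S (r • φ)).ofConv _ = r • (bcForm S φ).ofConv _
    rw [bcForm_apply, bcForm_apply]
    show 1 * algebraMap R S (r • φ.ofConv a) = r • (1 * algebraMap R S (φ.ofConv a))
    rw [one_mul, one_mul, smul_eq_mul, map_mul, Algebra.smul_def]

instance instTowerD : IsScalarTower R S (CartDual.D S (S ⊗[R] A)) :=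
  ⟨fun r s φ => WithConv.ofConv_injective (LinearMap.ext fun z => smul_assoc r s (φ.ofConv z))⟩

/-- The comparison of duals after base change. -/
def bcLift : S ⊗[R] CartDual.D R A →ₗ[S] CartDual.D S (S ⊗[R] A) := (bcLin S A).liftBaseChange S

theorem bcLift_tmul (s : S) (f : CartDual.D R A) : bcLift S A (s ⊗ₜ f) = s • bcDual S f :=
  LinearMap.liftBaseChange_tmul _ _ _ _

variable [Coalgebra.IsCocomm R A]

/-- The comparison of dual algebras after base change. -/
def bcAlg : S ⊗[R] CartDual.D R A →ₐ[S] CartDual.D S (S ⊗[R] A) :=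
  Algebra.TensorProduct.algHomOfLinearMapTensorProduct (bcLift S A)
    (fun s s' f f' => by rw [bcLift_tmul, bcLift_tmul, bcLift_tmul, map_mul, smul_mul_smul_comm])
    (by rw [bcLift_tmul, map_one, one_smul])

theorem bcAlg_apply (z : S ⊗[R] CartDual.D R A) : bcAlg (R := R) S A z = bcLift S A z := rfl

theorem bcAlg_bijective : Function.Bijective (bcAlg (R := R) S A) := by
  classical
  obtain ⟨n, f, g, -, hg, hfg⟩ := Module.Finite.exists_comp_eq_id_of_projective R A
  let b : Fin n → A := fun i => f (Pi.single i 1)
  let ψ : Fin n → CartDual.D R A := fun i => toConv ((LinearMap.proj i).comp g)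
  have hsum : ∀ a : A, a = ∑ i, (ψ i).ofConv a • b i := by
    intro a
    conv_lhs => rw [← show f (g a) = a from LinearMap.congr_fun hfg a, pi_eq_sum_univ' (g a)]
    rw [map_sum]
    refine Finset.sum_congr rfl fun i _ => ?_
    rw [map_smul]
    rfl
  let back : CartDual.D S (S ⊗[R] A) → S ⊗[R] CartDual.D R A := fun F => ∑ i, F.ofConv ((1 : S) ⊗ₜ b i) ⊗ₜ ψ i
  have h1 : ∀ F, bcAlg (R := R) S A (back F) = F := by
    intro F
    refine bcForm_ext S fun a => ?_
    rw [bcAlg_apply, map_sum]
    simp only [bcLift_tmul, WithConv.ofConv_sum, LinearMap.sum_apply]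
    conv_rhs => rw [hsum a, TensorProduct.tmul_sum, map_sum]
    refine Finset.sum_congr rfl fun i _ => ?_
    show F.ofConv ((1 : S) ⊗ₜ b i) • (bcForm S (ψ i)).ofConv ((1 : S) ⊗ₜ a) = _
    rw [bcForm_apply, one_mul, smul_eq_mul, TensorProduct.tmul_smul, LinearMap.map_smul_of_tower, Algebra.smul_def, mul_comm]
  have h2 : ∀ z, back (bcAlg (R := R) S A z) = z := by
    intro z
    induction z using TensorProduct.induction_on with
    | zero => simp [back]
    | add p q hp hq =>
      conv_rhs => rw [← hp, ← hq]
      simp only [back, map_add, WithConv.ofConv_add, LinearMap.add_apply, TensorProduct.add_tmul, Finset.sum_add_distrib]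
    | tmul s φ =>
      have hφ : φ = ∑ i, φ.ofConv (b i) • ψ i := WithConv.ofConv_injective (LinearMap.ext fun a => by
        conv_lhs => rw [hsum a, map_sum]
        simp only [WithConv.ofConv_sum, LinearMap.sum_apply, map_smul, WithConv.ofConv_smul, LinearMap.smul_apply]
        exact Finset.sum_congr rfl fun i _ => by rw [smul_eq_mul, smul_eq_mul, mul_comm])
      conv_rhs => rw [hφ, TensorProduct.tmul_sum]
      refine Finset.sum_congr rfl fun i _ => ?_
      rw [bcAlg_apply, bcLift_tmul]
      show (s • (bcForm S φ).ofConv ((1 : S) ⊗ₜ b i)) ⊗ₜ ψ i = _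
      rw [bcForm_apply, one_mul, TensorProduct.tmul_smul, TensorProduct.smul_tmul']
      congr 1
      rw [smul_eq_mul, Algebra.smul_def, mul_comm]
  exact Function.bijective_iff_has_inverse.2 ⟨back, h2, h1⟩

/-- The comparison, as an equivalence. -/
def bcEquiv : S ⊗[R] CartDual.D R A ≃ₐ[S] CartDual.D S (S ⊗[R] A) :=
  AlgEquiv.ofBijective (bcAlg (R := R) S A) (bcAlg_bijective (R := R) S A)

theorem isCocomm_baseChange : Coalgebra.IsCocomm S (S ⊗[R] A) := inferInstance

end BaseChange

section Split

variable (S : Type u) [CommRing S] [Nontrivial S] (A : Type u) [CommRing A] [HopfAlgebra S A] [Coalgebra.IsCocomm S A]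
  [Module.Finite S A] [Module.Projective S A]

set_option maxHeartbeats 1000000 in
theorem isDiag_of_split (hS : ∀ e : S, IsIdempotentElem e → e = 0 ∨ e = 1)
    [Algebra.IsFiniteSplit S (CartDual.D S A)] : SGA3b.IsDiag S A := by
  classical
  obtain ⟨m, ⟨χ⟩⟩ := Algebra.IsFiniteSplit.nonempty_algEquiv_fun S (CartDual.D S A)
  let ev := @BialgEquiv.ofBijective S A (CartDual.D S (CartDual.D S A)) _ _ _ _ _ (CartDual.eval S A) (Triple.eval_bijective A)
  let e : Fin m → CartDual.D S A := fun i => χ.symm (Pi.single i 1)
  have hpt : ∀ φ : CartDual.D S A →ₐ[S] S, ∃ i, ∀ x, φ x = χ x i := by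
    intro φ
    have hid : ∀ i, φ (e i) = 0 ∨ φ (e i) = 1 := fun i => hS _ (by
      show φ (e i) * φ (e i) = φ (e i)
      rw [← map_mul]
      congr 1
      show χ.symm (Pi.single i 1) * χ.symm (Pi.single i 1) = χ.symm (Pi.single i 1)
      rw [← map_mul, ← Pi.single_mul, one_mul])
    have hone : ∑ i, φ (e i) = 1 := by
      rw [← map_sum, ← map_sum, Finset.univ_sum_single, show (fun _ : Fin m => (1 : S)) = 1 from rfl, map_one, map_one]
    have hex : ∃ i, φ (e i) = 1 := by
      by_contra hn
      push Not at hn
      rw [Finset.sum_eq_zero fun i _ => (hid i).resolve_right (hn i)] at hone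
      exact zero_ne_one hone
    obtain ⟨i, hi⟩ := hex
    refine ⟨i, fun x => ?_⟩
    have h1 : x * e i = χ x i • e i := by
      apply χ.injective
      rw [map_mul, map_smul]
      funext j
      by_cases hj : j = i
      · subst hj; simp [e]
      · simp [e, hj]
    have h2 := congrArg φ h1
    rw [map_mul, map_smul, hi, mul_one, smul_eq_mul, mul_one] at h2
    exact h2
  -- the functional of a group-like element
  let pt : GroupLike S A → (CartDual.D S A →ₐ[S] S) := fun g => AlgHom.ofLinearMap
    { toFun := fun x => x.ofConv g.val, map_add' := fun _ _ => rfl, map_smul' := fun _ _ => rfl }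
    (by
      show (1 : CartDual.D S A).ofConv g.val = 1
      rw [LinearMap.convOne_apply, g.2.counit_eq_one, map_one])
    (fun x y => by
      show (x * y).ofConv g.val = x.ofConv g.val * y.ofConv g.val
      rw [LinearMap.convMul_apply, g.2.comul_eq_tmul_self, TensorProduct.map_tmul, LinearMap.mul'_apply])
  have hidx : ∀ g : GroupLike S A, ∃ i, ∀ x : CartDual.D S A, x.ofConv g.val = χ x i := fun g => hpt (pt g)
  choose idx hidx using hidx
  have hgl : ∀ i, ∃ g : GroupLike S A, ∀ x : CartDual.D S A, x.ofConv g.val = χ x i := by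
    intro i
    let F : CartDual.D S (CartDual.D S A) := toConv ((LinearMap.proj i).comp χ.toLinearMap)
    have hF : IsGroupLikeElem S F := by
      refine ⟨?_, ?_⟩
      · show χ 1 i = 1
        rw [map_one]; rfl
      · apply (CartDual.ev₂ S (CartDual.D S A)).injective
        refine TensorProduct.ext' fun x y => ?_
        rw [CartDual.ev₂_coalgebra_comul_tmul, CartDual.ev₂_tmul]
        show χ (x * y) i = χ x i * χ y i
        rw [map_mul]; rfl
    refine ⟨⟨ev.symm F, hF.map ev.symm⟩, fun x => ?_⟩
    exact LinearMap.congr_fun (congrArg WithConv.ofConv (ev.apply_symm_apply F)) x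
  choose gl hgl using hgl
  have hext : ∀ a b : A, (∀ x : CartDual.D S A, x.ofConv a = x.ofConv b) → a = b := fun a b h =>
    (Triple.eval_bijective A).1 (WithConv.ofConv_injective (LinearMap.ext h))
  have hinj : Function.Injective idx := fun g g' h => GroupLike.val_injective (hext _ _ fun x => by
    rw [hidx, hidx, h])
  have hidx' : ∀ i, idx (gl i) = i := by
    intro i
    by_contra hne
    have h := hidx (gl i) (e i)
    rw [hgl] at h
    simp [e, Pi.single_apply, hne] at h
  haveI : Finite (GroupLike S A) := Finite.of_injective idx hinj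
  let L := (MonoidAlgebra.liftGroupLikeBialgHom : MonoidAlgebra S (GroupLike S A) →ₐc[S] A)
  have hL : ∀ (g : GroupLike S A) (c : S), L (MonoidAlgebra.single g c) = c • g.val := fun g c =>
    MonoidAlgebra.lift_single _ g c
  have hbij : Function.Bijective L := by
    refine ⟨(injective_iff_map_eq_zero _).2 fun z hz => ?_, fun a => ?_⟩
    · have key : ∀ (g : GroupLike S A) (z : MonoidAlgebra S (GroupLike S A)), (e (idx g)).ofConv (L z) = z.coeff g := by
        intro g z
        induction z using MonoidAlgebra.induction_linear with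
        | zero => simp
        | add u v hu hv => simp [map_add, hu, hv]
        | single g' c =>
          rw [hL, map_smul, hidx g', MonoidAlgebra.coeff_single, Finsupp.single_apply]
          by_cases hg : g' = g
          · subst hg; simp [e]
          · simp [e, hg, hinj.ne hg]
      ext g
      rw [← key, hz, map_zero]
      rfl
    · refine ⟨∑ i, MonoidAlgebra.single (gl i) ((e i).ofConv a), hext _ _ fun x => ?_⟩
      rw [map_sum, map_sum]
      simp only [hL, map_smul, hgl]
      conv_rhs => rw [← χ.symm_apply_apply x, pi_eq_sum_univ' (χ x), map_sum]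
      simp only [WithConv.ofConv_sum, LinearMap.sum_apply]
      refine Finset.sum_congr rfl fun i _ => ?_
      rw [map_smul]
      show (e i).ofConv a • χ x i = χ x i • (e i).ofConv a
      rw [smul_eq_mul, smul_eq_mul, mul_comm]
  exact ⟨GroupLike S A, inferInstance, ⟨(BialgEquiv.ofBijective L hbij).symm⟩⟩

end Split

section Connected

theorem rankAtStalk_const {R : Type u} [CommRing R] [ConnectedSpace (PrimeSpectrum R)] (M : Type u) [AddCommGroup M]
    [Module R M] [Module.Finite R M] [Module.Projective R M] :
    ∃ n : ℕ, ∀ p : PrimeSpectrum R, Module.rankAtStalk (R := R) M p = n := by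
  haveI : Module.FinitePresentation R M := Module.finitePresentation_of_projective R M
  exact ⟨_, fun p => (Module.isLocallyConstant_rankAtStalk (R := R) (M := M)).apply_eq_of_preconnectedSpace p
    (Classical.arbitrary _)⟩

/-- The factor of an idempotent. -/
theorem exists_component (R : Type u) [CommRing R] [ConnectedSpace (PrimeSpectrum R)] (T : Type u) [CommRing T]
    [Algebra R T] [Algebra.Etale R T] [Module.Finite R T] [Nontrivial T] :
    ∃ e : T, IsIdempotentElem e ∧ Module.FaithfullyFlat R (T ⧸ Ideal.span {1 - e}) ∧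
      Algebra.Etale R (T ⧸ Ideal.span {1 - e}) ∧
      ∀ x : T ⧸ Ideal.span {1 - e}, IsIdempotentElem x → x = 0 ∨ x = 1 := by
  classical
  haveI : Module.Flat R T := inferInstance
  haveI : Module.FinitePresentation R T := Module.FinitePresentation.of_finite_of_finitePresentation R _
  haveI : Module.Projective R T := Module.Flat.projective_of_finitePresentation
  let q : T → Type u := fun e => T ⧸ Ideal.span {1 - e}
  have het : ∀ e : T, IsIdempotentElem e → Algebra.Etale R (q e) := fun e he => by
    haveI : IsLocalization.Away e (q e) := IsLocalization.away_of_isIdempotentElem he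
      Ideal.mk_ker Ideal.Quotient.mk_surjective
    haveI : Algebra.Etale T (q e) := Algebra.Etale.of_isLocalizationAway e
    exact Algebra.Etale.comp R T (q e)
  have hproj : ∀ e : T, IsIdempotentElem e → Module.Projective R (q e) := fun e he => by
    haveI := het e he
    haveI : Module.Finite R (q e) := Module.Finite.quotient R _
    haveI : Module.FinitePresentation R (q e) := Module.FinitePresentation.of_finite_of_finitePresentation R _
    exact Module.Flat.projective_of_finitePresentation
  choose rk hrk using fun (e : T) (he : IsIdempotentElem e) =>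
    have := hproj e he
    rankAtStalk_const (R := R) (q e)
  have hpos : ∀ e (he : IsIdempotentElem e), e ≠ 0 → 0 < rk e he := by
    intro e he hne
    haveI := hproj e he
    haveI : Nontrivial (q e) := Ideal.Quotient.nontrivial_iff.2 fun h => hne (by
      obtain ⟨c, hc⟩ := Ideal.mem_span_singleton'.1 ((Ideal.eq_top_iff_one _).1 h)
      calc e = e * (c * (1 - e)) := by rw [hc, mul_one]
        _ = c * (e - e * e) := by ring
        _ = 0 := by rw [he.eq, sub_self, mul_zero])
    by_contra h0
    have : Module.rankAtStalk (R := R) (q e) = 0 := funext fun p => by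
      rw [hrk e he p]; simpa using h0
    exact not_subsingleton (q e) (Module.rankAtStalk_eq_zero_iff_subsingleton.1 this)
  let P : ℕ → Prop := fun n => ∃ (e : T) (he : IsIdempotentElem e), e ≠ 0 ∧ rk e he = n
  have hP : ∃ n, P n := ⟨_, 1, IsIdempotentElem.one, one_ne_zero, rfl⟩
  obtain ⟨e, he, hne, hn⟩ := Nat.find_spec hP
  haveI := hproj e he
  haveI : Module.Finite R (q e) := Module.Finite.quotient R _
  refine ⟨e, he, ?_, het e he, fun x hx => ?_⟩
  · refine Module.FaithfullyFlat.of_comap_surjective fun p => ?_
    have hp : 0 < Module.rankAtStalk (R := R) (q e) p := hrk e he p ▸ hpos e he hne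
    rw [Module.rankAtStalk_pos_iff_mem_support, Module.mem_support_iff_of_finite] at hp
    haveI : Algebra.IsIntegral R (q e) := Algebra.IsIntegral.of_finite R _
    obtain ⟨Q, -, hQ, hQp⟩ := Ideal.exists_ideal_over_prime_of_isIntegral p.asIdeal (⊥ : Ideal (q e)) (fun c hc => by
      refine hp (Module.mem_annihilator.2 fun m => ?_)
      rw [Ideal.mem_comap, Ideal.mem_bot] at hc
      rw [Algebra.smul_def, hc, zero_mul])
    exact ⟨⟨Q, hQ⟩, PrimeSpectrum.ext hQp⟩
  · by_contra hcon
    push Not at hcon
    obtain ⟨y, rfl⟩ := Ideal.Quotient.mk_surjective x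
    have hy : e * (y * y - y) = 0 := by
      obtain ⟨c, hc⟩ := Ideal.mem_span_singleton'.1 ((Ideal.Quotient.eq (I := Ideal.span {1 - e})).1
        (show Ideal.Quotient.mk (Ideal.span {1 - e}) (y * y) = Ideal.Quotient.mk _ y by rw [map_mul]; exact hx.eq))
      rw [← hc, mul_left_comm, mul_sub, mul_one, he.eq, sub_self, mul_zero]
    have hmk : Ideal.Quotient.mk (Ideal.span {1 - e}) e = 1 := by
      rw [← map_one (Ideal.Quotient.mk (Ideal.span {1 - e})), Ideal.Quotient.eq]
      exact Ideal.mem_span_singleton'.2 ⟨-1, by ring⟩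
    let e₁ := e * y
    have he₁ : IsIdempotentElem e₁ := by
      show e * y * (e * y) = e * y
      calc e * y * (e * y) = e * e * (y * y - y) + e * e * y := by ring
        _ = e * (e * (y * y - y)) + e * y := by rw [he.eq, mul_comm e (e * _), mul_assoc, mul_comm _ e, ← mul_assoc, he.eq]
        _ = e * y := by rw [hy, mul_zero, zero_add]
    have hne₁ : e₁ ≠ 0 := fun h => hcon.1 (by
      have := congrArg (Ideal.Quotient.mk (Ideal.span {1 - e})) h
      rwa [map_mul, hmk, one_mul, map_zero] at this)
    haveI := hproj e₁ he₁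
    haveI : Module.Finite R (q e₁) := Module.Finite.quotient R _
    have hle : Ideal.span {1 - e} ≤ Ideal.span {1 - e₁} := by
      rw [Ideal.span_singleton_le_span_singleton]
      exact ⟨1 - e, by
        calc (1 : T) - e = 1 - e - e * y + e * e * y := by rw [he.eq]; ring
          _ = (1 - e * y) * (1 - e) := by ring⟩
    let π : q e →ₗ[R] q e₁ := (Ideal.Quotient.factorₐ R hle).toLinearMap
    have hπ : Function.Surjective π := Ideal.Quotient.factor_surjective hle
    obtain ⟨s, hs⟩ := Module.projective_lifting_property π LinearMap.id hπ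
    let E : q e ≃ₗ[R] LinearMap.ker π × q e₁ :=
      (((LinearMap.exact_subtype_ker_map π).splitSurjectiveEquiv Subtype.val_injective) ⟨s, hs⟩).1
    haveI : Module.Finite R (LinearMap.ker π) :=
      Module.Finite.of_surjective ((LinearMap.fst R _ _).comp E.toLinearMap) (((LinearMap.fst_surjective (R := R) (M := LinearMap.ker π) (M₂ := q e₁)).comp E.surjective))
    haveI : Module.Projective R (LinearMap.ker π) :=
        Module.Projective.of_split (E.symm.toLinearMap.comp (LinearMap.inl R _ _))
          ((LinearMap.fst R (LinearMap.ker π) (q e₁)).comp E.toLinearMap) (by ext; simp)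
    have hker : ¬ Subsingleton (LinearMap.ker π) := by
      intro hsub
      have hπi : Function.Injective π := LinearMap.ker_eq_bot.1 (Submodule.subsingleton_iff_eq_bot.1 hsub)
      apply hcon.2
      refine hπi ?_
      show Ideal.Quotient.mk (Ideal.span {1 - e₁}) y = Ideal.Quotient.mk (Ideal.span {1 - e₁}) 1
      rw [Ideal.Quotient.eq]
      refine Ideal.mem_span_singleton'.2 ⟨y * 0 + (y - 1), ?_⟩
      have hz : (y - 1) * (e * y) = 0 := by
        rw [show (y - 1) * (e * y) = e * (y * y - y) by ring, hy]
      calc (y * 0 + (y - 1)) * (1 - e₁) = (y - 1) - (y - 1) * (e * y) := by ring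
        _ = y - 1 := by rw [hz, sub_zero]
    obtain ⟨p⟩ : Nonempty (PrimeSpectrum R) := inferInstance
    have hsum : rk e he = Module.rankAtStalk (R := R) (LinearMap.ker π) p + rk e₁ he₁ := by
      rw [← hrk e he p, ← hrk e₁ he₁ p, Module.rankAtStalk_eq_of_equiv E, Module.rankAtStalk_prod]
      rfl
    obtain ⟨j, hj⟩ := rankAtStalk_const (R := R) (LinearMap.ker π)
    have hj0 : 0 < j := by
      by_contra h0
      exact hker (Module.rankAtStalk_eq_zero_iff_subsingleton.1 (funext fun p => by rw [hj p]; simpa using h0))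
    rw [hj p] at hsum
    have := Nat.find_min' hP (⟨e₁, he₁, hne₁, rfl⟩ : P (rk e₁ he₁))
    omega

set_option maxHeartbeats 1000000 in
theorem isIsotrivial_of_etale_dual {R : Type u} [CommRing R] [ConnectedSpace (PrimeSpectrum R)] (A : Type u)
    [CommRing A] [HopfAlgebra R A] [Coalgebra.IsCocomm R A] [Module.Finite R A] [Module.Projective R A]
    [Algebra.Etale R (CartDual.D R A)] : SGA3b.IsIsotrivial R A := by
  classical
  obtain ⟨n, hn⟩ := rankAtStalk_const (R := R) (CartDual.D R A)
  obtain ⟨T, _, _, hTff, hTfin, hTet, hsplit⟩ :=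
    Algebra.IsFiniteSplit.exists_tensorProduct_of_etale (R := R) (S := CartDual.D R A) (n := n) (funext hn)
  haveI : Nontrivial R := by
    obtain ⟨p⟩ : Nonempty (PrimeSpectrum R) := inferInstance
    exact nontrivial_of_ne 0 1 fun h => p.2.ne_top ((Ideal.eq_top_iff_one _).2 (h ▸ p.asIdeal.zero_mem))
  haveI : Nontrivial T := (FaithfulSMul.algebraMap_injective R T).nontrivial
  obtain ⟨e, he, hff, het, hconn⟩ := exists_component R T
  let S := T ⧸ Ideal.span {1 - e}
  haveI : Module.Finite R S := Module.Finite.quotient R _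
  haveI := hff
  haveI := het
  haveI : Nontrivial S := (FaithfulSMul.algebraMap_injective R S).nontrivial
  haveI : Algebra.IsFiniteSplit S (S ⊗[R] CartDual.D R A) :=
    Algebra.IsFiniteSplit.of_algEquiv (Algebra.TensorProduct.cancelBaseChange R T S S (CartDual.D R A))
  haveI : Algebra.IsFiniteSplit S (CartDual.D S (S ⊗[R] A)) :=
    @Algebra.IsFiniteSplit.of_algEquiv S (S ⊗[R] CartDual.D R A) _ _ _ (CartDual.D S (S ⊗[R] A)) _ _ (bcEquiv (R := R) S A) _
  exact ⟨S, inferInstance, inferInstance, het, inferInstance, hff, isDiag_of_split S (S ⊗[R] A) hconn⟩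

set_option maxHeartbeats 1000000 in
theorem etale_dual_baseChange_of_diag {R : Type u} [CommRing R] (A : Type u) [CommRing A] [HopfAlgebra R A]
    [Coalgebra.IsCocomm R A] [Module.Finite R A] [Module.Projective R A] (S : Type u) [CommRing S] [Algebra R S]
    [Nontrivial S] (h : SGA3b.IsDiag S (S ⊗[R] A)) : Algebra.Etale S (S ⊗[R] CartDual.D R A) := by
  classical
  obtain ⟨M, _, ⟨ε⟩⟩ := h
  haveI hMf : Module.Finite S (MonoidAlgebra S M) := Module.Finite.equiv ε.toAlgEquiv.toLinearEquiv
  haveI : Finite M := Module.Finite.finite_basis (MonoidAlgebra.basis M S)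
  letI := Fintype.ofFinite M
  obtain ⟨ω, -⟩ := Groth.Agent.S16070.result S M
  haveI : Algebra.IsFiniteSplit S (ConstGrp.F S M) := inferInstanceAs (Algebra.IsFiniteSplit S (M → S))
  haveI : Algebra.IsFiniteSplit S (CartDual.D S (MonoidAlgebra S M)) :=
    Algebra.IsFiniteSplit.of_algEquiv ω.toAlgEquiv.symm
  haveI : Algebra.IsFiniteSplit S (CartDual.D S (S ⊗[R] A)) := by
    refine Algebra.IsFiniteSplit.of_algEquiv (S := CartDual.D S (MonoidAlgebra S M))
      (AlgEquiv.ofBijective (CartDual.transpose S ε.toBialgHom : CartDual.D S (MonoidAlgebra S M) →ₐ[S] CartDual.D S (S ⊗[R] A))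
        (Triple.transpose_bijective ε.toBialgHom (EquivLike.bijective ε)))
  haveI : Algebra.IsFiniteSplit S (S ⊗[R] CartDual.D R A) :=
    Algebra.IsFiniteSplit.of_algEquiv (bcEquiv (R := R) S A).symm
  infer_instance

theorem etale_dual_of_isIsotrivial {R : Type u} [CommRing R] [Nontrivial R] (A : Type u) [CommRing A] [HopfAlgebra R A]
    [Coalgebra.IsCocomm R A] [Module.Finite R A] [Module.Projective R A] (h : SGA3b.IsIsotrivial R A) :
    Algebra.Etale R (CartDual.D R A) := by
  obtain ⟨T, _, _, -, -, hff, hd⟩ := h
  haveI := hff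
  haveI : Nontrivial T := (FaithfulSMul.algebraMap_injective R T).nontrivial
  haveI := etale_dual_baseChange_of_diag A T hd
  exact Algebra.Etale.of_etale_tensorProduct_of_faithfullyFlat (T := T)

end Connected

end

end Groth.Agent.Lib.OT67.SplitMult
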