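import Groth.Agent.Lib.GrpSch.ConnFibre
import Groth.Agent.S9624
import Groth.Agent.Lib.OT67.IdemFibre
import Groth.Agent.H83.MultType.Quot
import Mathlib

/-!
Idempotents after base change of a group with connected fibres.
-/

open TensorProduct

set_option linter.style.haveILetI false

universe u

namespace Groth.Agent.Lib.OT67.GeomIdem

open CategoryTheory AlgebraicGeometry

set_option synthInstance.maxHeartbeats 200000 in
/-- A connected affine group over a field is geometrically connected. -/
theorem connectedSpace_ext {k : Type u} [Field k] {C : Type u} [CommRing C] [Bialgebra k C]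
    [ConnectedSpace (PrimeSpectrum C)] (K : Type u) [Field K] [Algebra k K] :
    ConnectedSpace (PrimeSpectrum (K ⊗[k] C)) := by
  let X : Scheme.{u} := Spec (CommRingCat.of C)
  haveI : ConnectedSpace X := ‹ConnectedSpace (PrimeSpectrum C)›
  let f : X ⟶ Spec (CommRingCat.of k) := Spec.map (CommRingCat.ofHom (algebraMap k C))
  let s : Spec (CommRingCat.of k) ⟶ X := Spec.map (CommRingCat.ofHom (Bialgebra.counitAlgHom k C).toRingHom)
  have hs : s ≫ f = 𝟙 _ := by
    rw [← Spec.map_comp, ← Spec.map_id]
    congr 1
    ext r
    exact (Bialgebra.counitAlgHom k C).commutes r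
  have hg := Groth.Agent.Lib.GrpSch.geometricallyConnected_of_rationalPoint f s hs
  have h : ConnectedSpace (PrimeSpectrum (C ⊗[k] K)) :=
    (pullbackSpecIso k C K).hom.homeomorph.connectedSpace_iff.mp
      (pullback_of_geometrically hg.geometrically_connectedSpace K _)
  exact (PrimeSpectrum.homeomorphOfRingEquiv (Algebra.TensorProduct.comm k C K).toRingEquiv).connectedSpace_iff.mp h

/-- An idempotent of a base change which vanishes at the unit section vanishes. -/
theorem eq_zero {R : Type u} [CommRing R] {C : Type u} [CommRing C] [HopfAlgebra R C]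
    (hconn : ∀ (p : Ideal R) [p.IsPrime], ConnectedSpace (PrimeSpectrum (p.ResidueField ⊗[R] C)))
    {L : Type u} [CommRing L] [Algebra R L] {e : L ⊗[R] C} (he : IsIdempotentElem e)
    (hε : CoalgebraStruct.counit (R := L) e = 0) : e = 0 := by
  refine IdemFibre.eq_zero_of_connected he hε fun P _ => ?_
  let p := P.comap (algebraMap R L)
  haveI : P.LiesOver p := ⟨rfl⟩
  let K := P.ResidueField
  let f : p.ResidueField →ₐ[R] K :=
    Ideal.ResidueField.liftₐ p (Algebra.ofId R K)
      (fun a ha => by
        rw [RingHom.mem_ker]
        show algebraMap R K a = 0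
        rw [IsScalarTower.algebraMap_apply R L K]
        exact Ideal.algebraMap_residueField_eq_zero.2 ha)
      (fun a ha => by
        show IsUnit (algebraMap R K a)
        rw [IsScalarTower.algebraMap_apply R L K]
        exact isUnit_iff_ne_zero.2 fun h => ha ((Ideal.algebraMap_residueField_eq_zero (I := P)).1 h))
  letI : Algebra p.ResidueField K := f.toRingHom.toAlgebra
  haveI : IsScalarTower R p.ResidueField K := IsScalarTower.of_algebraMap_eq fun r => (f.commutes r).symm
  obtain ⟨T₁, -⟩ := Groth.Agent.H83.MultType.exists_towerEquiv R p.ResidueField K C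
  obtain ⟨T₂, -⟩ := Groth.Agent.H83.MultType.exists_towerEquiv R L K C
  haveI := hconn p
  haveI := connectedSpace_ext (k := p.ResidueField) (C := p.ResidueField ⊗[R] C) K
  exact (PrimeSpectrum.homeomorphOfRingEquiv (T₁.symm.trans T₂).toAlgEquiv.toRingEquiv).connectedSpace_iff.mp
    inferInstance

end Groth.Agent.Lib.OT67.GeomIdem
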