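import Groth.Agent.Lib.OT67.LocalModel
import Groth.Agent.Lib.OT67.GeomIdem
import Groth.Agent.Lib.OT67.OpenPartMain
import Groth.Agent.Lib.OT67.TorsionDense
import Groth.Agent.Lib.Excellent.CompletionNoetherian
import Groth.Agent.H83.Complete.FinitePart
import Groth.Agent.H83.Quasi.Global
import Groth.Agent.H80.Extend.FormalCompl
import Mathlib

/-!
The local criterion for a group to be of multiplicative type.
-/

open TensorProduct IsLocalRing

set_option linter.style.haveILetI false

universe u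

namespace Groth.Agent.Lib.OT67.LocalCrit

noncomputable section

/-- Multiplicative type descends along a field extension. -/
theorem isMultType_descend {K k : Type u} [Field K] [Field k] [Algebra K k] {A : Type u} [CommRing A] [HopfAlgebra K A]
    (h : SGA3b.IsMultType k (k ⊗[K] A)) : SGA3b.IsMultType K A := by
  obtain ⟨s, hs, hc⟩ := h
  obtain ⟨f, hf, hf0⟩ : ∃ f ∈ s, f ≠ 0 := by
    by_contra hcon
    push Not at hcon
    have : Ideal.span s ≤ ⊥ := Ideal.span_le.2 fun x hx => Ideal.mem_bot.2 (hcon x hx)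
    rw [hs] at this
    exact one_ne_zero (Ideal.mem_bot.1 (this Submodule.mem_top) : (1 : k) = 0)
  obtain ⟨S, _, _, hff, M, _, ⟨e⟩⟩ := hc f hf
  let ε : k ≃ₐ[k] Localization.Away f := IsLocalization.atUnits k (Submonoid.powers f)
    (Submonoid.powers_le.2 (isUnit_iff_ne_zero.2 hf0))
  haveI : Module.FaithfullyFlat k (Localization.Away f) :=
    RingHom.faithfullyFlat_algebraMap_iff.mp (RingHom.FaithfullyFlat.of_bijective (by
      convert ε.bijective using 1
      funext x
      exact (ε.commutes x).symm))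
  haveI := hff
  letI : Algebra k S := Algebra.compHom S (algebraMap k (Localization.Away f))
  haveI : IsScalarTower k (Localization.Away f) S := IsScalarTower.of_algebraMap_eq fun _ => rfl
  haveI : Module.FaithfullyFlat k S := Module.FaithfullyFlat.trans k (Localization.Away f) S
  letI : Algebra K S := Algebra.compHom S (algebraMap K k)
  haveI : IsScalarTower K k S := IsScalarTower.of_algebraMap_eq fun _ => rfl
  haveI : Module.FaithfullyFlat K S := Module.FaithfullyFlat.trans K k S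
  obtain ⟨T₁, -⟩ := Groth.Agent.H83.MultType.exists_towerEquiv k (Localization.Away f) S (k ⊗[K] A)
  obtain ⟨T₂, -⟩ := Groth.Agent.H83.MultType.exists_towerEquiv K k S A
  exact Groth.Agent.H83.MultType.isMultType_of_diag S ⟨M, inferInstance, ⟨T₂.trans (T₁.trans e)⟩⟩

theorem isMultType_of_equiv {R : Type u} [CommRing R] {C D : Type u} [CommRing C] [HopfAlgebra R C] [CommRing D]
    [HopfAlgebra R D] (e : C ≃ₐc[R] D) (h : SGA3b.IsMultType R C) : SGA3b.IsMultType R D :=
  Groth.Agent.H83.Quasi.isMultType_of_equiv e.symm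
    (fun S _ _ => Groth.Agent.H83.Complete.exists_equiv_baseChange e.symm S) h

/-- Isotriviality is stable under base change. -/
theorem isIsotrivial_baseChange {R : Type u} [CommRing R] {B : Type u} [CommRing B] [HopfAlgebra R B] (L : Type u)
    [CommRing L] [Algebra R L] (h : SGA3b.IsIsotrivial R B) : SGA3b.IsIsotrivial L (L ⊗[R] B) := by
  obtain ⟨S, _, _, het, hfin, hff, M, _, ⟨e⟩⟩ := h
  haveI := het; haveI := hfin; haveI := hff
  let U := L ⊗[R] S
  let g : S →ₐ[R] U := Algebra.TensorProduct.includeRight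
  obtain ⟨e', -⟩ := Groth.Agent.H83.MultType.exists_diag_map (A := B) g e
  obtain ⟨T, -⟩ := Groth.Agent.H83.MultType.exists_towerEquiv R L U B
  exact ⟨U, inferInstance, inferInstance, inferInstance, inferInstance, inferInstance, M, inferInstance, ⟨T.symm.trans e'⟩⟩

theorem ker_comp_equiv {T L : Type u} [CommRing T] [CommRing L] [Algebra T L] {X D B : Type u} [CommRing X] [Bialgebra L X]
    [CommRing D] [Bialgebra T D] [CommRing B] [Bialgebra T B] (E : X ≃ₐc[L] L ⊗[T] D) (φ₀ : D →ₐc[T] B)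
    (hφ₀ : Function.Surjective φ₀) {e₀ : D} (hK : RingHom.ker (φ₀ : D →ₐ[T] B) = Ideal.span {e₀}) :
    ∃ φ : X →ₐc[L] L ⊗[T] B, Function.Surjective φ ∧
      RingHom.ker (φ : X →ₐ[L] L ⊗[T] B) = Ideal.span {E.toAlgEquiv.symm ((1 : L) ⊗ₜ[T] e₀)} := by
  refine ⟨(Bialgebra.TensorProduct.map (BialgHom.id L L) φ₀).comp (E : X →ₐc[L] L ⊗[T] D), ?_, ?_⟩
  · refine Function.Surjective.comp (g := Bialgebra.TensorProduct.map (BialgHom.id L L) φ₀) (f := E) (fun y => ?_)
      (EquivLike.surjective E)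
    induction y using TensorProduct.induction_on with
    | zero => exact ⟨0, _root_.map_zero _⟩
    | add a b ha hb =>
      obtain ⟨a', rfl⟩ := ha
      obtain ⟨b', rfl⟩ := hb
      exact ⟨a' + b', _root_.map_add _ _ _⟩
    | tmul l b =>
      obtain ⟨c, rfl⟩ := hφ₀ b
      exact ⟨l ⊗ₜ c, Bialgebra.TensorProduct.map_tmul _ _ _ _⟩
  have hy : ∀ y : L ⊗[T] D, Bialgebra.TensorProduct.map (BialgHom.id L L) φ₀ y =
      Algebra.TensorProduct.map (AlgHom.id T L) (φ₀ : D →ₐ[T] B) y := fun y => by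
    induction y using TensorProduct.induction_on with
    | zero => simp
    | tmul a b => simp
    | add a b ha hb => simp only [_root_.map_add, ha, hb]
  have hker : RingHom.ker (Algebra.TensorProduct.map (AlgHom.id T L) (φ₀ : D →ₐ[T] B)) = Ideal.span {(1 : L) ⊗ₜ[T] e₀} := by
    refine (Algebra.TensorProduct.lTensor_ker (R := T) (A := L) (φ₀ : D →ₐ[T] B) hφ₀).trans ?_
    rw [hK, Ideal.map_span, Set.image_singleton]
    rfl
  ext x
  rw [RingHom.mem_ker]
  show Bialgebra.TensorProduct.map (BialgHom.id L L) φ₀ (E.toAlgEquiv x) = 0 ↔ _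
  rw [hy, ← RingHom.mem_ker, hker, Ideal.mem_span_singleton, Ideal.mem_span_singleton,
    ← map_dvd_iff E.toAlgEquiv.symm, AlgEquiv.symm_apply_apply]

set_option maxHeartbeats 400000 in
set_option synthInstance.maxHeartbeats 200000 in
/-- The local ring dominating both rings. -/
theorem exists_L {R₀ R T : Type u} [CommRing R₀] [CommRing R] [IsLocalRing R] [Algebra R₀ R] [CommRing T] [IsLocalRing T]
    [Algebra R₀ T] [Module.Flat R₀ T] (θ : T →ₐ[R₀] ResidueField R) (hθ : ∀ t ∈ maximalIdeal T, θ t = 0) :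
    ∃ (L : Type u) (_ : CommRing L) (_ : IsLocalRing L) (_ : Algebra R L) (_ : Algebra R₀ L) (_ : Algebra T L)
      (_ : IsScalarTower R₀ R L ∧ IsScalarTower R₀ T L), Module.FaithfullyFlat R L ∧
      ∀ t ∈ maximalIdeal T, algebraMap T L t ∈ maximalIdeal L := by
  let k := ResidueField R
  let P := R ⊗[R₀] T
  let π : P →ₐ[R] k := Algebra.TensorProduct.lift (IsScalarTower.toAlgHom R R k) θ fun _ _ => .all _ _
  have hπ : ∀ r : R, π (algebraMap R P r) = residue R r := fun r => π.commutes r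
  let M := RingHom.ker π
  haveI : M.IsPrime := RingHom.ker_isPrime π
  let L := Localization.AtPrime M
  let j : T →ₐ[R₀] L := ((IsScalarTower.toAlgHom R₀ P L)).comp Algebra.TensorProduct.includeRight
  letI : Algebra T L := j.toRingHom.toAlgebra
  haveI : IsScalarTower R₀ T L := IsScalarTower.of_algebraMap_eq fun a => (j.commutes a).symm
  haveI : Module.Flat P L := IsLocalization.flat L M.primeCompl
  haveI : Module.Flat R L := Module.Flat.trans R P L
  haveI : IsLocalHom (algebraMap R L) := ⟨fun r hr => by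
    by_contra hnu
    have hM : algebraMap R P r ∈ M := by
      show π (algebraMap R P r) = 0
      rw [hπ]
      exact Ideal.Quotient.eq_zero_iff_mem.2 ((mem_maximalIdeal r).2 hnu)
    rw [IsScalarTower.algebraMap_apply R P L] at hr
    exact (IsLocalization.AtPrime.isUnit_to_map_iff L M _).1 hr hM⟩
  have hffL : Module.FaithfullyFlat R L := Module.FaithfullyFlat.of_flat_of_isLocalHom (A := R) (B := L)
  refine ⟨L, inferInstance, inferInstance, inferInstance, inferInstance, inferInstance, ⟨inferInstance, inferInstance⟩, hffL,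
    fun t ht => ?_⟩
  refine (mem_maximalIdeal _).2 fun hu => ?_
  refine (IsLocalization.AtPrime.isUnit_to_map_iff L M _).1 hu ?_
  show π ((1 : R) ⊗ₜ t) = 0
  rw [show π ((1 : R) ⊗ₜ[R₀] t) = _ from Algebra.TensorProduct.lift_tmul _ _ _ _ _, hθ t ht, mul_zero]

theorem mem_map_symm {T L : Type u} [CommRing T] [CommRing L] [Algebra T L] {I : Ideal T} {J : Ideal L} {X D : Type u}
    [CommRing X] [Algebra L X] [CommRing D] [Algebra T D] (E : X ≃ₐ[L] L ⊗[T] D) (hIJ : ∀ t ∈ I, algebraMap T L t ∈ J)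
    {e₀ : D} (he : e₀ ∈ I.map (algebraMap T D)) : E.symm ((1 : L) ⊗ₜ[T] e₀) ∈ J.map (algebraMap L X) := by
  let g : D →+* X := E.symm.toAlgHom.toRingHom.comp (Algebra.TensorProduct.includeRight : D →ₐ[T] L ⊗[T] D).toRingHom
  have h : g e₀ ∈ (I.map (algebraMap T D)).map g := Ideal.mem_map_of_mem g he
  rw [Ideal.map_map] at h
  refine Ideal.map_le_iff_le_comap.2 (fun t ht => ?_) h
  show E.symm ((Algebra.TensorProduct.includeRight : D →ₐ[T] L ⊗[T] D) (algebraMap T D t)) ∈ J.map (algebraMap L X)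
  rw [AlgHom.commutes, IsScalarTower.algebraMap_apply T L (L ⊗[T] D), AlgEquiv.commutes]
  exact Ideal.mem_map_of_mem _ (hIJ t ht)

set_option maxHeartbeats 1600000 in
set_option synthInstance.maxHeartbeats 200000 in
/-- A faithfully flat local cover over which the group contains an open and closed subgroup of multiplicative type
containing the closed fibre. -/
theorem exists_cover {R : Type u} [CommRing R] [IsLocalRing R] {C : Type u} [CommRing C] [HopfAlgebra R C]
    [Algebra.FinitePresentation R C]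
    (hfl : ∀ (q : Ideal C) [q.IsPrime], Ideal.map (algebraMap R C) (maximalIdeal R) ≤ q → Module.Flat R (Localization.AtPrime q))
    (hs : SGA3b.IsMultType (ResidueField R) (ResidueField R ⊗[R] C)) :
    ∃ (L : Type u) (_ : CommRing L) (_ : IsLocalRing L) (_ : Algebra R L) (B : Type u) (_ : CommRing B) (_ : HopfAlgebra L B)
      (φ : (L ⊗[R] C) →ₐc[L] B) (e : L ⊗[R] C),
      Module.FaithfullyFlat R L ∧ SGA3b.IsIsotrivial L B ∧ Function.Surjective φ ∧ IsIdempotentElem e ∧
      e ∈ (maximalIdeal L).map (algebraMap L (L ⊗[R] C)) ∧ RingHom.ker (φ : (L ⊗[R] C) →ₐ[L] B) = Ideal.span {e} := by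
  classical
  obtain ⟨R₀, _, _, _, _, hloc, C₀, _, _, hft₀, hfl₀, ⟨T₀⟩⟩ := LocalModel.exists_localModel hfl
  haveI := hft₀
  haveI := hloc
  let k₀ := ResidueField R₀
  let k := ResidueField R
  let σ : k₀ →ₐ[R₀] k := Ideal.Quotient.liftₐ (maximalIdeal R₀) (Algebra.ofId R₀ k) fun a ha => by
    show algebraMap R₀ k a = 0
    rw [IsScalarTower.algebraMap_apply R₀ R k]
    exact Ideal.Quotient.eq_zero_iff_mem.2 ((mem_maximalIdeal _).2 fun h =>
      (mem_maximalIdeal _).1 ha (isUnit_of_map_unit (algebraMap R₀ R) a h))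
  letI : Algebra k₀ k := σ.toRingHom.toAlgebra
  haveI : IsScalarTower R₀ k₀ k := IsScalarTower.of_algebraMap_eq fun a => (σ.commutes a).symm
  obtain ⟨U₁, -⟩ := Groth.Agent.H83.MultType.exists_towerEquiv R₀ k₀ k C₀
  obtain ⟨U₂, -⟩ := Groth.Agent.H83.MultType.exists_towerEquiv R₀ R k C₀
  obtain ⟨E₀⟩ := Groth.Agent.H83.Complete.exists_equiv_baseChange T₀ k
  have hs₀ : SGA3b.IsMultType k₀ (k₀ ⊗[R₀] C₀) :=
    isMultType_descend (isMultType_of_equiv ((U₁.symm.trans (U₂.trans E₀)).symm) hs)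
  let T := AdicCompletion (maximalIdeal R₀) R₀
  haveI := AdicCompletion.algebraMap_isLocalHom_of_fg (R := R₀) (maximalIdeal R₀).fg_of_isNoetherianRing
  have h0 := Groth.Agent.H83.Complete.isIsotrivial_closedFibre R₀ T hft₀ hs₀
  haveI : Algebra.FiniteType T (T ⊗[R₀] C₀) := Algebra.FiniteType.baseChange T
  have hflT : ∀ (q : Ideal (T ⊗[R₀] C₀)) [q.IsPrime], Ideal.map (algebraMap T (T ⊗[R₀] C₀)) (maximalIdeal T) ≤ q →
      Module.Flat T (Localization.AtPrime q) := fun q _ hq => by
    refine Groth.Agent.H83.Complete.flat_tensor_atPrime q (hfl₀ _ (Ideal.map_le_iff_le_comap.2 fun a ha => ?_))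
    show (Algebra.TensorProduct.includeRight : C₀ →ₐ[R₀] T ⊗[R₀] C₀) (algebraMap R₀ C₀ a) ∈ q
    rw [AlgHom.commutes, IsScalarTower.algebraMap_apply R₀ T (T ⊗[R₀] C₀)]
    refine hq (Ideal.mem_map_of_mem _ ?_)
    rw [AdicCompletion.maximalIdeal_eq_map]
    exact Ideal.mem_map_of_mem _ ha
  obtain ⟨B₀, _, _, φ₀, e₀, hB₀, hφ₀, he₀, he₀m, hK₀, -, -⟩ :=
    OpenPartMain.exists_openPart (I := maximalIdeal T) inferInstance hflT h0
  haveI : Module.Flat R₀ T := AdicCompletion.flat_of_isNoetherian _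
  obtain ⟨ρ, -, hρk⟩ := Groth.Agent.H83.Complete.exists_residue R₀
  obtain ⟨L, _, _, _, _, _, ⟨_, _⟩, hffL, hjm⟩ := exists_L (R := R) (T := T) (σ.comp ρ) fun t ht => by
    rw [← hρk] at ht
    show σ (ρ t) = 0
    rw [show ρ t = 0 from ht, _root_.map_zero]
  obtain ⟨U₃, -⟩ := Groth.Agent.H83.MultType.exists_towerEquiv R₀ R L C₀
  obtain ⟨U₄, -⟩ := Groth.Agent.H83.MultType.exists_towerEquiv R₀ T L C₀
  obtain ⟨E₁⟩ := Groth.Agent.H83.Complete.exists_equiv_baseChange T₀ L
  let E : (L ⊗[R] C) ≃ₐc[L] L ⊗[T] (T ⊗[R₀] C₀) := (E₁.symm.trans U₃.symm).trans U₄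
  let e₁ : L ⊗[T] (T ⊗[R₀] C₀) := (1 : L) ⊗ₜ e₀
  let e := E.toAlgEquiv.symm e₁
  obtain ⟨φ, hsurj, hker⟩ := ker_comp_equiv E φ₀ hφ₀ hK₀
  exact ⟨L, inferInstance, inferInstance, inferInstance, L ⊗[T] B₀, inferInstance, inferInstance, φ, e, hffL,
    isIsotrivial_baseChange L hB₀, hsurj, (he₀.map (Algebra.TensorProduct.includeRight : (T ⊗[R₀] C₀) →ₐ[T] L ⊗[T] (T ⊗[R₀] C₀))).map E.toAlgEquiv.symm,
    mem_map_symm E.toAlgEquiv hjm he₀m, hker⟩

/-- An idempotent in the radical of a finite algebra vanishes. -/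
theorem idem_eq_zero {L : Type u} [CommRing L] [IsLocalRing L] {Q : Type u} [CommRing Q] [Algebra L Q] [Module.Finite L Q]
    {e : Q} (he : IsIdempotentElem e) (hm : e ∈ (maximalIdeal L).map (algebraMap L Q)) : e = 0 := by
  let N : Submodule L Q := LinearMap.range (LinearMap.mulLeft L e)
  have hN : N.FG := by
    rw [show N = (⊤ : Submodule L Q).map (LinearMap.mulLeft L e) from (Submodule.map_top _).symm]
    exact Module.Finite.fg_top.map _
  have hle : N ≤ maximalIdeal L • N := by
    rintro _ ⟨x, rfl⟩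
    have hx : e * x ∈ (maximalIdeal L • ⊤ : Submodule L Q) := by
      rw [Ideal.smul_top_eq_map]
      exact Ideal.mul_mem_right _ _ hm
    have h := Submodule.mem_map_of_mem (f := LinearMap.mulLeft L e) hx
    rw [Submodule.map_smul'', Submodule.map_top] at h
    rwa [LinearMap.mulLeft_apply, ← mul_assoc, he.eq] at h
  have hbot := Submodule.eq_bot_of_le_smul_of_le_jacobson_bot (maximalIdeal L) N hN hle
    (jacobson_eq_maximalIdeal ⊥ bot_ne_top).ge
  have : e ∈ N := ⟨e, he.eq⟩
  rwa [hbot, Submodule.mem_bot] at this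

set_option maxHeartbeats 800000 in
set_option synthInstance.maxHeartbeats 200000 in
theorem isMultType_of_cover {R : Type u} [CommRing R] {C : Type u} [CommRing C] [HopfAlgebra R C] {L : Type u} [CommRing L]
    [Algebra R L] [Module.FaithfullyFlat R L] {B : Type u} [CommRing B] [HopfAlgebra L B] (φ : (L ⊗[R] C) →ₐc[L] B)
    (hφ : Function.Surjective φ) (hB : SGA3b.IsIsotrivial L B)
    (hK : RingHom.ker (φ : (L ⊗[R] C) →ₐ[L] B) = ⊥) : SGA3b.IsMultType R C := by
  let E : (L ⊗[R] C) ≃ₐc[L] B :=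
    BialgEquiv.ofBijective φ ⟨(RingHom.injective_iff_ker_eq_bot (φ : (L ⊗[R] C) →ₐ[L] B)).2 hK, hφ⟩
  obtain ⟨S, _, _, -, -, hff, M, _, ⟨g⟩⟩ := hB
  haveI := hff
  letI : Algebra R S := Algebra.compHom S (algebraMap R L)
  haveI : IsScalarTower R L S := IsScalarTower.of_algebraMap_eq fun _ => rfl
  haveI : Module.FaithfullyFlat R S := Module.FaithfullyFlat.trans R L S
  obtain ⟨T, -⟩ := Groth.Agent.H83.MultType.exists_towerEquiv R L S C
  obtain ⟨E'⟩ := Groth.Agent.H83.Complete.exists_equiv_baseChange E S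
  exact Groth.Agent.H83.MultType.isMultType_of_diag S ⟨M, inferInstance, ⟨T.trans (E'.trans g)⟩⟩

theorem counit_eq_zero {L : Type u} [CommRing L] {D B : Type u} [CommRing D] [Bialgebra L D] [CommRing B] [Bialgebra L B]
    (φ : D →ₐc[L] B) {e : D} (hK : RingHom.ker (φ : D →ₐ[L] B) = Ideal.span {e}) : CoalgebraStruct.counit (R := L) e = 0 := by
  rw [← CoalgHomClass.counit_comp_apply φ e,
    show φ e = 0 from (show e ∈ RingHom.ker (φ : D →ₐ[L] B) from hK ▸ Ideal.mem_span_singleton_self e), _root_.map_zero]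

set_option maxHeartbeats 800000 in
/-- Connected fibres. -/
theorem isMultType_connected {R : Type u} [CommRing R] [IsLocalRing R] {C : Type u} [CommRing C] [HopfAlgebra R C]
    [Algebra.FinitePresentation R C]
    (hfl : ∀ (q : Ideal C) [q.IsPrime], Ideal.map (algebraMap R C) (maximalIdeal R) ≤ q → Module.Flat R (Localization.AtPrime q))
    (hs : SGA3b.IsMultType (ResidueField R) (ResidueField R ⊗[R] C))
    (hconn : ∀ (p : Ideal R) [p.IsPrime], ConnectedSpace (PrimeSpectrum (p.ResidueField ⊗[R] C))) :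
    SGA3b.IsMultType R C := by
  obtain ⟨L, _, _, _, B, _, _, φ, e, hff, hB, hφ, he, -, hK⟩ := exists_cover hfl hs
  have he0 : e = 0 := GeomIdem.eq_zero hconn he (counit_eq_zero φ hK)
  exact isMultType_of_cover φ hφ hB (by rw [hK, he0, Ideal.span_singleton_eq_bot])

set_option maxHeartbeats 800000 in
/-- Finite torsion. -/
theorem isMultType_torsion {R : Type u} [CommRing R] [IsLocalRing R] {C : Type u} [CommRing C] [HopfAlgebra R C]
    [Coalgebra.IsCocomm R C] [Algebra.FinitePresentation R C]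
    (hfl : ∀ (q : Ideal C) [q.IsPrime], Ideal.map (algebraMap R C) (maximalIdeal R) ≤ q → Module.Flat R (Localization.AtPrime q))
    (hs : SGA3b.IsMultType (ResidueField R) (ResidueField R ⊗[R] C))
    (hfin : ∀ n : ℕ, 0 < n → Module.Finite R (C ⧸ SGA3b.torsionIdeal R C n)) : SGA3b.IsMultType R C := by
  obtain ⟨L, _, _, _, B, _, _, φ, e, hff, hB, hφ, he, hem, hK⟩ := exists_cover hfl hs
  haveI : Algebra.FiniteType L (L ⊗[R] C) := Algebra.FiniteType.baseChange L
  have he0 : e = 0 := by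
    refine TorsionDense.eq_zero hB hφ he hK fun n hn => ?_
    haveI := Groth.Agent.H83.Quasi.finite_torsion_baseChange (C := C) L n (hfin n hn)
    let D := L ⊗[R] C
    let mk := Ideal.Quotient.mkₐ L (SGA3b.torsionIdeal L D n)
    refine Ideal.Quotient.eq_zero_iff_mem.1 (idem_eq_zero (L := L) (e := mk e) (he.map mk) ?_)
    have h := Ideal.mem_map_of_mem mk.toRingHom hem
    rw [Ideal.map_map] at h
    refine (le_of_eq (congrArg (fun f => Ideal.map f (maximalIdeal L)) ?_)) h
    exact RingHom.ext fun l => mk.commutes l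
  exact isMultType_of_cover φ hφ hB (by rw [hK, he0, Ideal.span_singleton_eq_bot])

end

end Groth.Agent.Lib.OT67.LocalCrit
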