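import Groth.Agent.H83.MultType.Lift
import Groth.Agent.Lib.Adic.Complete
import Groth.Prelude.Def_SGA3b
import Mathlib

/-!
Formal homomorphisms into an isotrivial group of multiplicative type over a complete Noetherian ring are algebraic.
-/

open TensorProduct

set_option linter.style.haveILetI false

universe u

namespace Groth.Agent.Lib.OT67.Algebraize

open Groth.Agent.H83.MultType

noncomputable section

variable {A : Type u} [CommRing A] {I : Ideal A}

theorem eq_zero_of_injective_finsupp [IsNoetherianRing A] [IsAdicComplete I A] {N F : Type u} [AddCommGroup N]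
    [Module A N] [AddCommGroup F] [Module A F] [Module.Finite A F] {ι : Type u} (L : N →ₗ[A] ι →₀ F)
    (hL : Function.Injective L) {x : N} (hx : ∀ n : ℕ, x ∈ (I ^ n • ⊤ : Submodule A N)) : x = 0 := by
  refine hL (Finsupp.ext fun i => ?_)
  rw [map_zero, Finsupp.zero_apply]
  haveI : IsHausdorff I F := IsHausdorff.of_le_jacobson I F (IsAdicComplete.le_jacobson_bot I)
  refine IsHausdorff.haus (inferInstance : IsHausdorff I F) _ fun n => ?_
  rw [SModEq.zero]
  exact map_mem_of_mem_smul (Finsupp.lapply i ∘ₗ L) (hx n)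

/-- Descent of an element along a faithfully flat algebra. -/
theorem exists_of_eq (C : Type u) [CommRing C] [Algebra A C] [Module.FaithfullyFlat A C] {N : Type u}
    [AddCommGroup N] [Module A N] {x : C ⊗[A] N}
    (hx : LinearMap.lTensor C (TensorProduct.mk A C N 1) x = (1 : C) ⊗ₜ[A] x) : ∃ b, (1 : C) ⊗ₜ[A] b = x := by
  suffices h : x ∈ LinearMap.range (TensorProduct.mk A C N 1) from h
  rw [← Submodule.Quotient.mk_eq_zero]
  refine (Module.FaithfullyFlat.one_tmul_eq_zero_iff (R := A) (A := C) _ _).1 ?_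
  have h := congrArg (LinearMap.lTensor C (LinearMap.range (TensorProduct.mk A C N 1)).mkQ) hx
  rw [← LinearMap.lTensor_comp_apply, LinearMap.range_mkQ_comp, LinearMap.lTensor_zero, LinearMap.zero_apply,
    LinearMap.lTensor_tmul] at h
  exact h.symm

theorem mem_of_one_tmul_mem (C : Type u) [CommRing C] [Algebra A C] [Module.FaithfullyFlat A C] {N : Type u}
    [AddCommGroup N] [Module A N] {J : Ideal A} {x : N}
    (hx : (1 : C) ⊗ₜ[A] x ∈ (J • ⊤ : Submodule A (C ⊗[A] N))) : x ∈ J • (⊤ : Submodule A N) := by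
  rw [← Submodule.Quotient.mk_eq_zero]
  refine (Module.FaithfullyFlat.one_tmul_eq_zero_iff (R := A) (A := C) _ _).1 ?_
  let q := (J • (⊤ : Submodule A N)).mkQ.lTensor C
  show q ((1 : C) ⊗ₜ[A] x) = 0
  refine LinearMap.mem_ker.1 ((Submodule.smul_le.2 ?_) hx)
  intro r hr z _
  rw [LinearMap.mem_ker, map_smul]
  induction z using TensorProduct.induction_on with
  | zero => simp
  | add a b ha hb => rw [map_add, smul_add, ha trivial, hb trivial, add_zero]
  | tmul c y =>
    rw [LinearMap.lTensor_tmul, ← TensorProduct.tmul_smul, ← map_smul, Submodule.mkQ_apply,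
      (Submodule.Quotient.mk_eq_zero _).2 (Submodule.smul_mem_smul hr (Submodule.mem_top (x := y))), TensorProduct.tmul_zero]

variable [IsNoetherianRing A] [IsAdicComplete I A]
variable {B : Type u} [CommRing B] [HopfAlgebra A B] {C : Type u} [CommRing C] [HopfAlgebra A C]
variable {S : Type u} [CommRing S] [Algebra A S] [Module.Finite A S]
variable {M : Type u} [CommGroup M]

/-- The coefficient of a point of the trivialised group. -/
def coord (e : (S ⊗[A] B) ≃ₐc[S] MonoidAlgebra S M) (m : M) : B →ₗ[A] S :=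
  ((coeffAt S m).restrictScalars A) ∘ₗ
    ((e : S ⊗[A] B →ₐc[S] MonoidAlgebra S M).toLinearMap.restrictScalars A) ∘ₗ TensorProduct.mk A S B 1

theorem coord_apply (e : (S ⊗[A] B) ≃ₐc[S] MonoidAlgebra S M) (m : M) (b : B) :
    coord e m b = coeffAt S m (e ((1 : S) ⊗ₜ b)) := rfl

theorem coord_comul [DecidableEq M] (e : (S ⊗[A] B) ≃ₐc[S] MonoidAlgebra S M) (l m : M) (b : B) :
    LinearMap.mul' A S (TensorProduct.map (coord e l) (coord e m) (CoalgebraStruct.comul (R := A) b)) =
      if l = m then coord e l b else 0 := by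
  rw [coord_apply, ← coeffAt_comul l m (e ((1 : S) ⊗ₜ b))]
  rw [← CoalgHomClass.map_comp_comul_apply e]
  rw [TensorProduct.comul_tmul, CommSemiring.comul_apply]
  generalize CoalgebraStruct.comul (R := A) b = z
  induction z using TensorProduct.induction_on with
  | zero => simp
  | tmul p q => simp [coord_apply]
  | add p q hp hq => simp only [map_add, TensorProduct.tmul_add, hp, hq]

set_option maxHeartbeats 1000000 in
/-- Formal homomorphisms are algebraic. -/
theorem exists_bialgHom (e : (S ⊗[A] B) ≃ₐc[S] MonoidAlgebra S M) [Module.FaithfullyFlat A S] (f : ℕ → C → B)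
    (hc : ∀ n c, f (n + 1) c - f n c ∈ (I ^ (n + 1) • ⊤ : Submodule A B))
    (hadd : ∀ n a b, f n (a + b) - (f n a + f n b) ∈ (I ^ (n + 1) • ⊤ : Submodule A B))
    (hsmul : ∀ n (r : A) a, f n (r • a) - r • f n a ∈ (I ^ (n + 1) • ⊤ : Submodule A B))
    (hone : ∀ n, f n 1 - 1 ∈ (I ^ (n + 1) • ⊤ : Submodule A B))
    (hmul : ∀ n a b, f n (a * b) - f n a * f n b ∈ (I ^ (n + 1) • ⊤ : Submodule A B))
    (hcounit : ∀ n a, CoalgebraStruct.counit (R := A) (f n a) - CoalgebraStruct.counit (R := A) a ∈ I ^ (n + 1))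
    (hcomul : ∀ n a (s : Finset (C × C)), CoalgebraStruct.comul (R := A) a = ∑ i ∈ s, i.1 ⊗ₜ[A] i.2 →
      CoalgebraStruct.comul (R := A) (f n a) - ∑ i ∈ s, f n i.1 ⊗ₜ[A] f n i.2 ∈
        (I ^ (n + 1) • ⊤ : Submodule A (B ⊗[A] B))) :
    ∃ φ : C →ₐc[A] B, ∀ n c, φ c - f n c ∈ (I ^ (n + 1) • ⊤ : Submodule A B) := by
  classical
  haveI : IsHausdorff I S := IsHausdorff.of_le_jacobson I S (IsAdicComplete.le_jacobson_bot I)
  haveI : IsPrecomplete I S := (Groth.Agent.Lib.Adic.Complete.isAdicComplete_of_finite (I := I)).toIsPrecomplete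
  -- the limit coordinates
  have hlim : ∀ c m, ∃ v : S, ∀ n, coord e m (f n c) - v ∈ (I ^ (n + 1) • ⊤ : Submodule A S) := by
    intro c m
    let F : ℕ → S := fun n => coord e m (f n c)
    have hF : ∀ {i j}, i ≤ j → F i ≡ F j [SMOD (I ^ i • ⊤ : Submodule A S)] := by
      intro i j hij
      induction j, hij using Nat.le_induction with
      | base => rfl
      | succ j hij ih =>
        refine ih.trans (SModEq.sub_mem.2 ?_)
        have h := map_mem_of_mem_smul (coord e m) (hc j c)
        rw [map_sub] at h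
        rw [← neg_sub]
        exact neg_mem (Submodule.smul_mono_left (Ideal.pow_le_pow_right (by omega)) h)
    obtain ⟨v, hv⟩ := IsPrecomplete.prec (inferInstance : IsPrecomplete I S) hF
    refine ⟨v, fun n => ?_⟩
    have h1 := SModEq.sub_mem.1 (hv (n + 1))
    have h2 := map_mem_of_mem_smul (coord e m) (hc n c)
    rw [map_sub] at h2
    rw [show coord e m (f n c) - v = (F (n + 1) - v) - (coord e m (f (n + 1) c) - coord e m (f n c)) by
      simp only [F]; abel]
    exact sub_mem h1 h2
  choose σ hσ using hlim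
  have hzero : ∀ v : S, (∀ n : ℕ, v ∈ (I ^ (n + 1) • ⊤ : Submodule A S)) → v = 0 := fun v hv =>
    IsHausdorff.haus (inferInstance : IsHausdorff I S) v fun n => SModEq.zero.2
      (Submodule.smul_mono_left (Ideal.pow_le_pow_right (Nat.le_succ n)) (hv n))
  -- the coordinates are linear in `c`
  let σl : M → C →ₗ[A] S := fun m =>
    { toFun := fun c => σ c m
      map_add' := fun a b => sub_eq_zero.1 (hzero _ fun n => by
        have h := map_mem_of_mem_smul (coord e m) (hadd n a b)
        rw [map_sub, map_add] at h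
        rw [show σ (a + b) m - (σ a m + σ b m) = (coord e m (f n (a + b)) - (coord e m (f n a) + coord e m (f n b))) -
          (coord e m (f n (a + b)) - σ (a + b) m) + (coord e m (f n a) - σ a m) + (coord e m (f n b) - σ b m) by abel]
        exact add_mem (add_mem (sub_mem h (hσ _ m n)) (hσ a m n)) (hσ b m n))
      map_smul' := fun r a => sub_eq_zero.1 (hzero _ fun n => by
        have h := map_mem_of_mem_smul (coord e m) (hsmul n r a)
        rw [map_sub, map_smul] at h
        simp only [RingHom.id_apply]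
        rw [show σ (r • a) m - r • σ a m = (coord e m (f n (r • a)) - r • coord e m (f n a)) -
          (coord e m (f n (r • a)) - σ (r • a) m) + r • (coord e m (f n a) - σ a m) by rw [smul_sub]; abel]
        exact add_mem (sub_mem h (hσ _ m n)) (Submodule.smul_mem _ r (hσ a m n))) }
  have hσl : ∀ m c, σl m c = σ c m := fun _ _ => rfl
  have hmulmem : ∀ (n : ℕ) (x x' y y' : S), x - x' ∈ (I ^ (n + 1) • ⊤ : Submodule A S) →
      y - y' ∈ (I ^ (n + 1) • ⊤ : Submodule A S) → x * y - x' * y' ∈ (I ^ (n + 1) • ⊤ : Submodule A S) := by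
    intro n x x' y y' h1 h2
    rw [show x * y - x' * y' = x * (y - y') + y' * (x - x') by ring]
    exact add_mem (map_mem_of_mem_smul (LinearMap.mulLeft A x) h2) (map_mem_of_mem_smul (LinearMap.mulLeft A y') h1)
  -- orthogonality
  have horth : ∀ (c : C) (s : Finset (C × C)), CoalgebraStruct.comul (R := A) c = ∑ i ∈ s, i.1 ⊗ₜ[A] i.2 →
      ∀ l m, ∑ i ∈ s, σ i.1 l * σ i.2 m = if l = m then σ c l else 0 := by
    intro c s hs l m
    refine sub_eq_zero.1 (hzero _ fun n => ?_)
    have h := map_mem_of_mem_smul (LinearMap.mul' A S ∘ₗ TensorProduct.map (coord e l) (coord e m)) (hcomul n c s hs)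
    rw [map_sub, map_sum, LinearMap.comp_apply, coord_comul] at h
    simp only [LinearMap.comp_apply, TensorProduct.map_tmul, LinearMap.mul'_apply] at h
    have h1 : ∑ i ∈ s, (coord e l (f n i.1) * coord e m (f n i.2) - σ i.1 l * σ i.2 m) ∈
        (I ^ (n + 1) • ⊤ : Submodule A S) := sum_mem fun i _ => hmulmem n _ _ _ _ (hσ _ l n) (hσ _ m n)
    rw [Finset.sum_sub_distrib] at h1
    have h2 : (if l = m then coord e l (f n c) else 0) - (if l = m then σ c l else 0) ∈
        (I ^ (n + 1) • ⊤ : Submodule A S) := by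
      split_ifs
      · exact hσ c l n
      · simp
    rw [show ∑ i ∈ s, σ i.1 l * σ i.2 m - (if l = m then σ c l else 0) =
      -((if l = m then coord e l (f n c) else 0) - ∑ i ∈ s, coord e l (f n i.1) * coord e m (f n i.2)) +
      ((if l = m then coord e l (f n c) else 0) - (if l = m then σ c l else 0)) -
      (∑ i ∈ s, coord e l (f n i.1) * coord e m (f n i.2) - ∑ i ∈ s, σ i.1 l * σ i.2 m) by abel]
    exact sub_mem (add_mem (neg_mem h) h2) h1
  -- finite support
  haveI : IsNoetherianRing S := IsNoetherianRing.of_finite A S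
  have hfin : ∀ c, ∃ F : Finset M, ∀ m ∉ F, σ c m = 0 := by
    intro c
    obtain ⟨s, hs⟩ := TensorProduct.exists_finset (R := A) (CoalgebraStruct.comul (R := A) c)
    let T : M → (s → S) := fun l i => σ i.1.1 l
    obtain ⟨G, hG, hGspan⟩ := (Submodule.fg_span_iff_fg_span_finset_subset (Set.range T)).1
      (IsNoetherian.noetherian (Submodule.span S (Set.range T)))
    choose! pre hpre using fun v (hv : v ∈ (G : Set (s → S))) => hG hv
    refine ⟨G.image pre, fun m hm => ?_⟩
    let Z : (s → S) →ₗ[S] S := ∑ i : s, σ i.1.2 m • LinearMap.proj i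
    have hZ : ∀ l, Z (T l) = if l = m then σ c l else 0 := fun l => by
      rw [← horth c s hs l m, ← Finset.sum_coe_sort s]
      simp [Z, T, mul_comm]
    have h0 : Submodule.span S (G : Set (s → S)) ≤ LinearMap.ker Z := by
      refine Submodule.span_le.2 fun v hv => ?_
      rw [SetLike.mem_coe, LinearMap.mem_ker, ← hpre v hv, hZ, if_neg]
      rintro rfl
      exact hm (Finset.mem_image.2 ⟨v, hv, rfl⟩)
    have h1 := LinearMap.mem_ker.1 (h0 (hGspan.symm ▸ Submodule.subset_span ⟨m, rfl⟩ : T m ∈ Submodule.span S (G : Set (s → S))))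
    rwa [hZ, if_pos rfl] at h1
  choose Fs hFs using hfin
  -- the candidate
  let Φ : C → S ⊗[A] B := fun c => e.symm (∑ m ∈ Fs c, MonoidAlgebra.single m (σ c m))
  have heΦ : ∀ c m, coeffAt S m (e (Φ c)) = σ c m := by
    intro c m
    rw [show e (Φ c) = _ from e.apply_symm_apply _, map_sum]
    simp only [coeffAt_single]
    rw [Finset.sum_ite_eq' (Fs c) m]
    split_ifs with h
    · rfl
    · exact (hFs c m h).symm
  have hΦ : ∀ n c, Φ c - (1 : S) ⊗ₜ f n c ∈ (I ^ (n + 1) • ⊤ : Submodule A (S ⊗[A] B)) := by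
    intro n c
    let J := (I ^ (n + 1)).map (algebraMap A S)
    have h1 : e (Φ c - (1 : S) ⊗ₜ f n c) ∈ J • (⊤ : Submodule S (MonoidAlgebra S M)) := by
      refine mem_smul_of_coeffAt_mem fun m => ?_
      rw [map_sub, map_sub, heΦ, ← coord_apply, ← neg_sub]
      refine neg_mem ?_
      have := hσ c m n
      rwa [Ideal.smul_top_eq_map, Submodule.restrictScalars_mem] at this
    have h2 := map_mem_of_mem_smul ((e.symm : MonoidAlgebra S M →ₐc[S] S ⊗[A] B).toLinearMap) h1
    rw [show (e.symm : MonoidAlgebra S M →ₐc[S] S ⊗[A] B).toLinearMap (e (Φ c - (1 : S) ⊗ₜ f n c)) = _ from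
      e.symm_apply_apply _] at h2
    rw [← Submodule.restrictScalars_mem A] at h2
    rwa [Ideal.smul_restrictScalars, Submodule.restrictScalars_top] at h2
  -- descent
  let bS := Module.Free.chooseBasis S (MonoidAlgebra S M)
  let LS : S ⊗[A] B ≃ₗ[A] (M →₀ S) :=
    ((e.toAlgEquiv.toLinearEquiv).trans (MonoidAlgebra.coeffLinearEquiv S)).restrictScalars A
  have hdesc : ∀ c, ∃ b : B, (1 : S) ⊗ₜ b = Φ c := by
    intro c
    refine exists_of_eq S (sub_eq_zero.1 ?_)
    let L : S ⊗[A] (S ⊗[A] B) ≃ₗ[A] (M →₀ S ⊗[A] S) :=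
      (TensorProduct.congr (LinearEquiv.refl A S) LS).trans (TensorProduct.finsuppRight A A S S M)
    refine eq_zero_of_injective_finsupp (I := I) L.toLinearMap L.injective fun n => ?_
    refine Submodule.smul_mono_left (Ideal.pow_le_pow_right (Nat.le_succ n)) ?_
    let D := LinearMap.lTensor S (TensorProduct.mk A S B 1) - TensorProduct.mk A S (S ⊗[A] B) 1
    show D (Φ c) ∈ _
    have h := map_mem_of_mem_smul D (hΦ n c)
    rwa [map_sub, show D ((1 : S) ⊗ₜ f n c) = 0 by simp [D], sub_zero] at h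
  choose φ hφ using hdesc
  have hφn : ∀ n c, φ c - f n c ∈ (I ^ (n + 1) • ⊤ : Submodule A B) := fun n c =>
    mem_of_one_tmul_mem S (by rw [TensorProduct.tmul_sub, hφ]; exact hΦ n c)
  have hBz : ∀ x : B, (∀ n : ℕ, x ∈ (I ^ (n + 1) • ⊤ : Submodule A B)) → x = 0 := fun x hx => by
    refine (Module.FaithfullyFlat.one_tmul_eq_zero_iff (R := A) (A := S) _ _).1 ?_
    refine eq_zero_of_injective_finsupp (I := I) LS.toLinearMap LS.injective fun n => ?_
    exact map_mem_of_mem_smul (TensorProduct.mk A S B 1)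
      (Submodule.smul_mono_left (Ideal.pow_le_pow_right (Nat.le_succ n)) (hx n))
  let LBB : S ⊗[A] (B ⊗[A] B) ≃ₗ[A] (M × M →₀ S) :=
    ((TensorProduct.AlgebraTensorModule.distribBaseChange A S B B).trans
      ((TensorProduct.congr ((e.toAlgEquiv.toLinearEquiv).trans (MonoidAlgebra.coeffLinearEquiv S))
        ((e.toAlgEquiv.toLinearEquiv).trans (MonoidAlgebra.coeffLinearEquiv S))).trans
        (finsuppTensorFinsupp' S M M))).restrictScalars A
  have hBBz : ∀ x : B ⊗[A] B, (∀ n : ℕ, x ∈ (I ^ (n + 1) • ⊤ : Submodule A (B ⊗[A] B))) → x = 0 := fun x hx => by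
    refine (Module.FaithfullyFlat.one_tmul_eq_zero_iff (R := A) (A := S) _ _).1 ?_
    refine eq_zero_of_injective_finsupp (I := I) LBB.toLinearMap LBB.injective fun n => ?_
    exact map_mem_of_mem_smul (TensorProduct.mk A S (B ⊗[A] B) 1)
      (Submodule.smul_mono_left (Ideal.pow_le_pow_right (Nat.le_succ n)) (hx n))
  let φl : C →ₗ[A] B :=
    { toFun := φ
      map_add' := fun a b => sub_eq_zero.1 (hBz _ fun n => by
        rw [show φ (a + b) - (φ a + φ b) = (f n (a + b) - (f n a + f n b)) + (φ (a + b) - f n (a + b)) -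
          (φ a - f n a) - (φ b - f n b) by abel]
        exact sub_mem (sub_mem (add_mem (hadd n a b) (hφn n _)) (hφn n a)) (hφn n b))
      map_smul' := fun r a => sub_eq_zero.1 (hBz _ fun n => by
        simp only [RingHom.id_apply]
        rw [show φ (r • a) - r • φ a = (f n (r • a) - r • f n a) + (φ (r • a) - f n (r • a)) - r • (φ a - f n a) by
          rw [smul_sub]; abel]
        exact sub_mem (add_mem (hsmul n r a) (hφn n _)) (Submodule.smul_mem _ r (hφn n a))) }
  have hφ1 : φ 1 = 1 := sub_eq_zero.1 (hBz _ fun n => by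
    rw [show φ 1 - 1 = (φ 1 - f n 1) + (f n 1 - 1) by abel]
    exact add_mem (hφn n 1) (hone n))
  have hφm : ∀ a b, φ (a * b) = φ a * φ b := fun a b => sub_eq_zero.1 (hBz _ fun n => by
    rw [show φ (a * b) - φ a * φ b = (φ (a * b) - f n (a * b)) + (f n (a * b) - f n a * f n b) -
      φ a * (φ b - f n b) - f n b * (φ a - f n a) by ring]
    exact sub_mem (sub_mem (add_mem (hφn n _) (hmul n a b)) (map_mem_of_mem_smul (LinearMap.mulLeft A (φ a)) (hφn n b)))
      (map_mem_of_mem_smul (LinearMap.mulLeft A (f n b)) (hφn n a)))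
  let φa : C →ₐ[A] B := AlgHom.ofLinearMap φl hφ1 hφm
  refine ⟨BialgHom.ofAlgHom φa (AlgHom.ext fun a => ?_) (AlgHom.ext fun a => ?_), hφn⟩
  · show CoalgebraStruct.counit (R := A) (φ a) = CoalgebraStruct.counit (R := A) a
    haveI : IsHausdorff I A := inferInstance
    refine sub_eq_zero.1 (IsHausdorff.haus (inferInstance : IsHausdorff I A) _ fun n => SModEq.zero.2 ?_)
    refine Submodule.smul_mono_left (Ideal.pow_le_pow_right (Nat.le_succ n)) ?_
    have h := map_mem_of_mem_smul (CoalgebraStruct.counit (R := A) (A := B)) (hφn n a)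
    rw [map_sub] at h
    rw [show CoalgebraStruct.counit (R := A) (φ a) - CoalgebraStruct.counit (R := A) a =
      (CoalgebraStruct.counit (R := A) (φ a) - CoalgebraStruct.counit (R := A) (f n a)) +
      (CoalgebraStruct.counit (R := A) (f n a) - CoalgebraStruct.counit (R := A) a) by abel]
    refine add_mem h ?_
    rw [Ideal.smul_top_eq_map, Algebra.algebraMap_self, Ideal.map_id]
    exact hcounit n a
  · show Algebra.TensorProduct.map φa φa (CoalgebraStruct.comul (R := A) a) = CoalgebraStruct.comul (R := A) (φ a)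
    obtain ⟨s, hs⟩ := TensorProduct.exists_finset (R := A) (CoalgebraStruct.comul (R := A) a)
    rw [hs, map_sum]
    refine sub_eq_zero.1 (hBBz _ fun n => ?_)
    have h1 : ∑ i ∈ s, (Algebra.TensorProduct.map φa φa (i.1 ⊗ₜ[A] i.2) - f n i.1 ⊗ₜ[A] f n i.2) ∈
        (I ^ (n + 1) • ⊤ : Submodule A (B ⊗[A] B)) := sum_mem fun i _ => by
      rw [Algebra.TensorProduct.map_tmul]
      show φ i.1 ⊗ₜ[A] φ i.2 - f n i.1 ⊗ₜ[A] f n i.2 ∈ _
      rw [show φ i.1 ⊗ₜ[A] φ i.2 - f n i.1 ⊗ₜ[A] f n i.2 =
        φ i.1 ⊗ₜ[A] (φ i.2 - f n i.2) + (φ i.1 - f n i.1) ⊗ₜ[A] f n i.2 by rw [TensorProduct.tmul_sub, TensorProduct.sub_tmul]; abel]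
      exact add_mem (map_mem_of_mem_smul (TensorProduct.mk A B B (φ i.1)) (hφn n i.2))
        (map_mem_of_mem_smul ((TensorProduct.mk A B B).flip (f n i.2)) (hφn n i.1))
    rw [Finset.sum_sub_distrib] at h1
    have h2 := map_mem_of_mem_smul (CoalgebraStruct.comul (R := A) (A := B)) (hφn n a)
    rw [map_sub] at h2
    rw [show ∑ i ∈ s, Algebra.TensorProduct.map φa φa (i.1 ⊗ₜ[A] i.2) - CoalgebraStruct.comul (R := A) (φ a) =
      (∑ i ∈ s, Algebra.TensorProduct.map φa φa (i.1 ⊗ₜ[A] i.2) - ∑ i ∈ s, f n i.1 ⊗ₜ[A] f n i.2) -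
      (CoalgebraStruct.comul (R := A) (f n a) - ∑ i ∈ s, f n i.1 ⊗ₜ[A] f n i.2) -
      (CoalgebraStruct.comul (R := A) (φ a) - CoalgebraStruct.comul (R := A) (f n a)) by abel]
    exact sub_mem (sub_mem h1 (hcomul n a s hs)) h2

end

end Groth.Agent.Lib.OT67.Algebraize
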