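import Groth.Agent.Lib.OT67.HomMod
import Groth.Agent.Lib.OT67.MultFinite
import Groth.Prelude.Def_SGA3b
import Mathlib

/-!
Invariant integrals of groups of multiplicative type and the lifting of homomorphisms into smooth groups.
-/

open TensorProduct WithConv

set_option linter.style.haveILetI false

universe u

namespace Groth.Agent.Lib.OT67.Averaging

noncomputable section

open Groth.Agent.H83.MultType Groth.Agent.Lib.OT67.HomMod

variable {R : Type u} [CommRing R] {A : Type u} [CommRing A] [HopfAlgebra R A]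

/-- A two-sided invariant integral with values in an algebra. -/
structure IsInvariant {S : Type u} [CommRing S] [Algebra R S] (L : A →ₗ[R] S) : Prop where
  left : ∀ a, LinearMap.rTensor A L (CoalgebraStruct.comul (R := R) a) = L a ⊗ₜ[R] (1 : A)
  right : ∀ a, LinearMap.rTensor A L (TensorProduct.comm R A A (CoalgebraStruct.comul (R := R) a)) = L a ⊗ₜ[R] (1 : A)
  one : L 1 = 1

variable {S : Type u} [CommRing S] [Algebra R S]

theorem IsInvariant.comp {L : A →ₗ[R] S} (h : IsInvariant L) {S' : Type u} [CommRing S'] [Algebra R S']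
    (g : S →ₐ[R] S') : IsInvariant (g.toLinearMap ∘ₗ L) where
  left a := by rw [LinearMap.rTensor_comp_apply, h.left, LinearMap.rTensor_tmul]; rfl
  right a := by rw [LinearMap.rTensor_comp_apply, h.right, LinearMap.rTensor_tmul]; rfl
  one := by rw [LinearMap.comp_apply, h.one]; exact map_one g

theorem IsInvariant.unique {L₁ L₂ : A →ₗ[R] S} (h₁ : IsInvariant L₁) (h₂ : IsInvariant L₂) : L₁ = L₂ := by
  refine LinearMap.ext fun a => ?_
  have e : ∀ z : A ⊗[R] A, LinearMap.mul' R S (LinearMap.lTensor S L₂ (LinearMap.rTensor A L₁ z)) =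
      LinearMap.mul' R S (LinearMap.lTensor S L₁ (LinearMap.rTensor A L₂ (TensorProduct.comm R A A z))) := fun z => by
    induction z using TensorProduct.induction_on with
    | zero => simp
    | tmul p q => simp [mul_comm]
    | add p q hp hq => simp only [_root_.map_add, hp, hq]
  simpa [h₁.left, h₂.right, h₁.one, h₂.one] using e (CoalgebraStruct.comul (R := R) a)

theorem exists_invariant_of_equiv {M : Type u} [CommGroup M] (e : (S ⊗[R] A) ≃ₐc[S] MonoidAlgebra S M) :
    ∃ L : A →ₗ[R] S, IsInvariant L := by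
  classical
  let E : A →ₗ[R] MonoidAlgebra S M :=
    ((e : S ⊗[R] A →ₐc[S] MonoidAlgebra S M).toLinearMap.restrictScalars R) ∘ₗ TensorProduct.mk R S A 1
  have hE : ∀ a, E a = e ((1 : S) ⊗ₜ a) := fun _ => rfl
  let L : A →ₗ[R] S := ((coeffAt S (1 : M)).restrictScalars R) ∘ₗ E
  have hL : ∀ a, L a = coeffAt S (1 : M) (e ((1 : S) ⊗ₜ a)) := fun _ => rfl
  let Φ : MonoidAlgebra S M ⊗[S] MonoidAlgebra S M →ₗ[S] MonoidAlgebra S M :=
    TensorProduct.lift ((LinearMap.lsmul S (MonoidAlgebra S M)) ∘ₗ coeffAt S (1 : M))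
  have hΦ : ∀ x y : MonoidAlgebra S M, Φ (x ⊗ₜ y) = coeffAt S (1 : M) x • y := fun _ _ => rfl
  have hΔ : ∀ y : MonoidAlgebra S M, Φ (CoalgebraStruct.comul (R := S) y) = MonoidAlgebra.single 1 (coeffAt S (1 : M) y) := by
    intro y
    induction y using MonoidAlgebra.induction_linear with
    | zero => simp
    | add x y hx hy =>
      rw [_root_.map_add, _root_.map_add, hx, hy, _root_.map_add, MonoidAlgebra.single_add]
    | single m r =>
      rw [MonoidAlgebra.comul_single, CommSemiring.comul_apply, TensorProduct.map_tmul, hΦ]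
      rw [MonoidAlgebra.lsingle_apply, MonoidAlgebra.lsingle_apply, coeffAt_single, coeffAt_single, MonoidAlgebra.smul_single,
        smul_eq_mul]
      by_cases hm : m = 1
      · subst hm; simp
      · simp [hm, Ne.symm hm]
  have key : ∀ z : A ⊗[R] A, e (LinearMap.rTensor A L z) = Φ (TensorProduct.map
      (e : S ⊗[R] A →ₐc[S] MonoidAlgebra S M).toLinearMap (e : S ⊗[R] A →ₐc[S] MonoidAlgebra S M).toLinearMap
      (AlgebraTensorModule.distribBaseChange R S A A ((1 : S) ⊗ₜ z))) := fun z => by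
    induction z using TensorProduct.induction_on with
    | zero => simp
    | tmul p q =>
      rw [LinearMap.rTensor_tmul, AlgebraTensorModule.distribBaseChange_tmul, TensorProduct.map_tmul, hΦ]
      show e (L p ⊗ₜ q) = L p • e ((1 : S) ⊗ₜ q)
      rw [← _root_.map_smul, TensorProduct.smul_tmul', smul_eq_mul, mul_one]
    | add p q hp hq => simp only [_root_.map_add, TensorProduct.tmul_add, hp, hq]
  have hone : ∀ s : S, e (s ⊗ₜ[R] (1 : A)) = MonoidAlgebra.single 1 s := fun s => by
    have h : (s ⊗ₜ[R] (1 : A) : S ⊗[R] A) = algebraMap S (S ⊗[R] A) s := rfl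
    rw [h]
    exact (e : S ⊗[R] A →ₐc[S] MonoidAlgebra S M).toAlgHom.commutes s
  have hdiag : ∀ a, Φ (TensorProduct.map (e : S ⊗[R] A →ₐc[S] MonoidAlgebra S M).toLinearMap
      (e : S ⊗[R] A →ₐc[S] MonoidAlgebra S M).toLinearMap (CoalgebraStruct.comul (R := S) ((1 : S) ⊗ₜ[R] a))) =
      MonoidAlgebra.single 1 (L a) := fun a => by
    rw [show TensorProduct.map (e : S ⊗[R] A →ₐc[S] MonoidAlgebra S M).toLinearMap
      (e : S ⊗[R] A →ₐc[S] MonoidAlgebra S M).toLinearMap (CoalgebraStruct.comul (R := S) ((1 : S) ⊗ₜ[R] a)) =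
      CoalgebraStruct.comul (R := S) (e ((1 : S) ⊗ₜ[R] a)) from CoalgHomClass.map_comp_comul_apply e _, hΔ]
    rfl
  refine ⟨L, fun a => ?_, fun a => ?_, ?_⟩
  · apply EquivLike.injective e
    rw [hone, key, ← HomMod.comul_one_tmul, hdiag]
  · apply EquivLike.injective e
    rw [hone, key]
    have hcomm : ∀ z : A ⊗[R] A, AlgebraTensorModule.distribBaseChange R S A A ((1 : S) ⊗ₜ TensorProduct.comm R A A z) =
        TensorProduct.comm S (S ⊗[R] A) (S ⊗[R] A) (AlgebraTensorModule.distribBaseChange R S A A ((1 : S) ⊗ₜ z)) := fun z => by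
      induction z using TensorProduct.induction_on with
      | zero => simp
      | tmul p q => simp
      | add p q hp hq => simp only [_root_.map_add, TensorProduct.tmul_add, hp, hq]
    rw [hcomm, ← HomMod.comul_one_tmul, TensorProduct.map_comm]
    rw [show TensorProduct.map (e : S ⊗[R] A →ₐc[S] MonoidAlgebra S M).toLinearMap
      (e : S ⊗[R] A →ₐc[S] MonoidAlgebra S M).toLinearMap (CoalgebraStruct.comul (R := S) ((1 : S) ⊗ₜ[R] a)) =
      CoalgebraStruct.comul (R := S) (e ((1 : S) ⊗ₜ[R] a)) from CoalgHomClass.map_comp_comul_apply e _,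
      Coalgebra.comm_comul, hΔ]
    rfl
  · rw [hL, ← Algebra.TensorProduct.one_def, _root_.map_one, MonoidAlgebra.one_def, coeffAt_single, if_pos rfl]

/-- Descent of the integral along an algebra which detects zero. -/
theorem exists_invariant_of_detect
    (hdet : ∀ (N : Type u) [AddCommGroup N] [Module R N] (x : N), (1 : S) ⊗ₜ[R] x = 0 → x = 0)
    {L : A →ₗ[R] S} (hL : IsInvariant L) : ∃ L₀ : A →ₗ[R] R, IsInvariant L₀ := by
  have hinj : Function.Injective (algebraMap R S) := by
    rw [injective_iff_map_eq_zero]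
    intro r hr
    refine hdet R r ?_
    rw [← mul_one r, ← smul_eq_mul, TensorProduct.tmul_smul, TensorProduct.smul_tmul', Algebra.smul_def, hr, zero_mul,
      TensorProduct.zero_tmul]
  have hmem : ∀ a, ∃ r : R, algebraMap R S r = L a := by
    intro a
    have hd := congrArg (fun f : A →ₗ[R] S ⊗[R] S => f a) ((hL.comp (Algebra.TensorProduct.includeLeft (S := R) (B := S))).unique
      (hL.comp Algebra.TensorProduct.includeRight))
    simp only [LinearMap.comp_apply, AlgHom.toLinearMap_apply, Algebra.TensorProduct.includeLeft_apply,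
      Algebra.TensorProduct.includeRight_apply] at hd
    have h := congrArg (LinearMap.lTensor S (LinearMap.range (Algebra.linearMap R S)).mkQ) hd
    rw [LinearMap.lTensor_tmul, LinearMap.lTensor_tmul, show (LinearMap.range (Algebra.linearMap R S)).mkQ (1 : S) = 0 from
      (Submodule.Quotient.mk_eq_zero _).2 ⟨1, map_one (algebraMap R S)⟩, TensorProduct.tmul_zero] at h
    exact (Submodule.Quotient.mk_eq_zero _).1 (hdet _ _ h.symm)
  choose v hv using hmem
  let L₀ : A →ₗ[R] R :=
    { toFun := v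
      map_add' := fun a b => hinj (by rw [_root_.map_add, hv, hv, hv, _root_.map_add])
      map_smul' := fun r a => hinj (by rw [RingHom.id_apply, hv, smul_eq_mul, _root_.map_mul, hv, _root_.map_smul, Algebra.smul_def]) }
  have hcomp : Algebra.linearMap R S ∘ₗ L₀ = L := LinearMap.ext hv
  have hi : Function.Injective (LinearMap.rTensor A (Algebra.linearMap R S)) := by
    rw [injective_iff_map_eq_zero]
    intro x hx
    obtain ⟨y, rfl⟩ : ∃ y : A, (1 : R) ⊗ₜ[R] y = x := ⟨TensorProduct.lid R A x, (TensorProduct.lid R A).symm_apply_apply x⟩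
    rw [LinearMap.rTensor_tmul, Algebra.linearMap_apply, map_one] at hx
    rw [hdet A y hx, TensorProduct.tmul_zero]
  refine ⟨L₀, fun a => hi ?_, fun a => hi ?_, hinj ?_⟩
  · rw [← LinearMap.rTensor_comp_apply, hcomp, hL.left, LinearMap.rTensor_tmul]
    exact congrArg (· ⊗ₜ[R] (1 : A)) (hv a).symm
  · rw [← LinearMap.rTensor_comp_apply, hcomp, hL.right, LinearMap.rTensor_tmul]
    exact congrArg (· ⊗ₜ[R] (1 : A)) (hv a).symm
  · show algebraMap R S (v 1) = algebraMap R S 1
    rw [hv, hL.one, map_one]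

/-- A group of multiplicative type has an invariant integral. -/
theorem exists_invariant (h : SGA3b.IsMultType R A) : ∃ L₀ : A →ₗ[R] R, IsInvariant L₀ := by
  classical
  obtain ⟨s, hs, hc⟩ := MultFinite.exists_charts h
  obtain ⟨t, hts, ht⟩ := (Ideal.span_eq_top_iff_finite s).1 hs
  let c : ∀ f : R, f ∈ (t : Set R) → MultFinite.Chart R A f := fun f hf => (hc f (hts hf)).some
  have hL : ∀ f : t, ∃ L : A →ₗ[R] (c f.1 f.2).S, IsInvariant L := fun f => exists_invariant_of_equiv (c f.1 f.2).equiv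
  choose L hL using hL
  let S := ∀ f : t, (c f.1 f.2).S
  let Lp : A →ₗ[R] S := LinearMap.pi L
  let pr : ∀ f : t, S →ₗ[R] (c f.1 f.2).S := fun f => LinearMap.proj f
  have hext : ∀ {z w : S ⊗[R] A}, (∀ f, LinearMap.rTensor A (pr f) z = LinearMap.rTensor A (pr f) w) → z = w := by
    intro z w hzw
    apply (TensorProduct.comm R S A).injective
    apply (TensorProduct.piRight R R A (fun f : t => (c f.1 f.2).S)).injective
    have key : ∀ (f : t) (z : S ⊗[R] A), TensorProduct.piRight R R A (fun f : t => (c f.1 f.2).S) (TensorProduct.comm R S A z) f =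
        TensorProduct.comm R _ A (LinearMap.rTensor A (pr f) z) := fun f z => by
      induction z using TensorProduct.induction_on with
      | zero => simp
      | tmul p q => simp [pr]; rfl
      | add p q hp hq => simp only [_root_.map_add, Pi.add_apply, hp, hq]
    funext f
    rw [key, key, hzw]
  have hpr : ∀ f, pr f ∘ₗ Lp = L f := fun f => rfl
  refine exists_invariant_of_detect (S := S) ?_ (L := Lp) ⟨fun a => hext fun f => ?_, fun a => hext fun f => ?_, ?_⟩
  · intro N _ _ x hx
    refine MultFinite.eq_zero_of_charts ht c fun f hf => ?_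
    have := congrArg (LinearMap.rTensor N (pr ⟨f, hf⟩)) hx
    rw [LinearMap.rTensor_tmul, _root_.map_zero] at this
    exact this
  · rw [← LinearMap.rTensor_comp_apply, hpr, (hL f).left, LinearMap.rTensor_tmul]; rfl
  · rw [← LinearMap.rTensor_comp_apply, hpr, (hL f).right, LinearMap.rTensor_tmul]; rfl
  · funext f; exact (hL f).one

/-- Base change of an invariant integral. -/
theorem exists_invariant_baseChange {L : A →ₗ[R] R} (hL : IsInvariant L) (R' : Type u) [CommRing R'] [Algebra R R'] :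
    ∃ L' : (R' ⊗[R] A) →ₗ[R'] R', IsInvariant L' := by
  let L' : (R' ⊗[R] A) →ₗ[R'] R' := LinearMap.liftBaseChange R' (Algebra.linearMap R R' ∘ₗ L)
  have hL' : ∀ a, L' ((1 : R') ⊗ₜ a) = algebraMap R R' (L a) := fun a => by simp [L']
  let κ : R ⊗[R] A →ₗ[R] R' ⊗[R'] (R' ⊗[R] A) :=
    TensorProduct.lift (LinearMap.mk₂ R (fun r a => algebraMap R R' r ⊗ₜ[R'] ((1 : R') ⊗ₜ[R] a))
      (fun r r' a => by rw [_root_.map_add, TensorProduct.add_tmul])
      (fun k r a => by rw [smul_eq_mul, _root_.map_mul, ← Algebra.smul_def, TensorProduct.smul_tmul'])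
      (fun r a a' => by rw [TensorProduct.tmul_add, TensorProduct.tmul_add])
      (fun k r a => by
        rw [TensorProduct.tmul_smul, ← IsScalarTower.algebraMap_smul R' k ((1 : R') ⊗ₜ[R] a), TensorProduct.tmul_smul,
          IsScalarTower.algebraMap_smul]))
  have hκ : ∀ r a, κ (r ⊗ₜ a) = algebraMap R R' r ⊗ₜ[R'] ((1 : R') ⊗ₜ[R] a) := fun _ _ => rfl
  have key : ∀ z : A ⊗[R] A, LinearMap.rTensor (R' ⊗[R] A) L' (AlgebraTensorModule.distribBaseChange R R' A A ((1 : R') ⊗ₜ z)) =
      κ (LinearMap.rTensor A L z) := fun z => by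
    induction z using TensorProduct.induction_on with
    | zero => simp
    | tmul p q =>
      rw [AlgebraTensorModule.distribBaseChange_tmul, LinearMap.rTensor_tmul, LinearMap.rTensor_tmul, hκ, hL']
    | add p q hp hq => simp only [_root_.map_add, TensorProduct.tmul_add, hp, hq]
  have hcomm : ∀ z : A ⊗[R] A, TensorProduct.comm R' (R' ⊗[R] A) (R' ⊗[R] A)
      (AlgebraTensorModule.distribBaseChange R R' A A ((1 : R') ⊗ₜ z)) =
      AlgebraTensorModule.distribBaseChange R R' A A ((1 : R') ⊗ₜ TensorProduct.comm R A A z) := fun z => by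
    induction z using TensorProduct.induction_on with
    | zero => simp
    | tmul p q => simp
    | add p q hp hq => simp only [_root_.map_add, TensorProduct.tmul_add, hp, hq]
  have hsmul : ∀ (r : R') (a : A), r ⊗ₜ[R] a = r • ((1 : R') ⊗ₜ[R] a) := fun r a => by
    rw [TensorProduct.smul_tmul', smul_eq_mul, mul_one]
  refine ⟨L', fun x => ?_, fun x => ?_, ?_⟩
  · induction x using TensorProduct.induction_on with
    | zero => simp
    | add p q hp hq => simp only [_root_.map_add, TensorProduct.add_tmul, hp, hq]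
    | tmul r a =>
      rw [hsmul, _root_.map_smul, _root_.map_smul, HomMod.comul_one_tmul, key, hL.left, hκ, _root_.map_smul, hL',
        TensorProduct.smul_tmul', ← Algebra.TensorProduct.one_def]
  · induction x using TensorProduct.induction_on with
    | zero => simp
    | add p q hp hq => simp only [_root_.map_add, TensorProduct.add_tmul, hp, hq]
    | tmul r a =>
      rw [hsmul, _root_.map_smul, _root_.map_smul, _root_.map_smul, HomMod.comul_one_tmul, hcomm, key, hL.right, hκ, _root_.map_smul,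
        hL', TensorProduct.smul_tmul', ← Algebra.TensorProduct.one_def]
  · rw [Algebra.TensorProduct.one_def, hL', hL.one, map_one]

section Step

variable {C : Type u} [CommRing C] [HopfAlgebra R C]

/-- Post-composition on points. -/
def push {T T' : Type u} [CommRing T] [Algebra R T] [CommRing T'] [Algebra R T'] (h : T →ₐ[R] T') :
    WithConv (C →ₐ[R] T) →* WithConv (C →ₐ[R] T') where
  toFun u := toConv (h.comp u.ofConv)
  map_one' := WithConv.ofConv_injective (AlgHom.ext fun c => h.commutes _)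
  map_mul' a b := by rw [AlgHom.comp_convMul_distrib]

theorem id_antipode {T : Type u} [CommRing T] [Algebra R T] (u : WithConv (C →ₐ[R] T)) :
    (toConv (u.ofConv.comp (HopfAlgebra.antipodeAlgHom R C)) : WithConv (C →ₐ[R] T)) * u = 1 := by
  have h := congrArg (push u.ofConv) (AlgHom.antipode_id_cancel (R := R) (A := C))
  rw [_root_.map_mul, map_one] at h
  exact h

/-- Points of a group form a group. -/
instance pointsGroup {T : Type u} [CommRing T] [Algebra R T] : Group (WithConv (C →ₐ[R] T)) :=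
  { (inferInstance : Monoid (WithConv (C →ₐ[R] T))) with
    inv := fun u => toConv (u.ofConv.comp (HopfAlgebra.antipodeAlgHom R C))
    inv_mul_cancel := id_antipode }

theorem group_id {G : Type u} [Group G] (a b c : G) : a * c⁻¹ = a * b⁻¹ * (b * c⁻¹) := by group

theorem push_apply {T T' : Type u} [CommRing T] [Algebra R T] [CommRing T'] [Algebra R T'] (h : T →ₐ[R] T')
    (u : WithConv (C →ₐ[R] T)) (c : C) : (push h u).ofConv c = h (u.ofConv c) := rfl

theorem push_comp {T T' T'' : Type u} [CommRing T] [Algebra R T] [CommRing T'] [Algebra R T'] [CommRing T''] [Algebra R T'']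
    (h : T' →ₐ[R] T'') (h' : T →ₐ[R] T') (u : WithConv (C →ₐ[R] T)) : push h (push h' u) = push (h.comp h') u := rfl

theorem mul_apply {T : Type u} [CommRing T] [Algebra R T] (u v : WithConv (C →ₐ[R] T)) {c : C} {s : Finset (C × C)}
    (hs : CoalgebraStruct.comul (R := R) c = ∑ i ∈ s, i.1 ⊗ₜ[R] i.2) :
    (u * v).ofConv c = ∑ i ∈ s, u.ofConv i.1 * v.ofConv i.2 := by
  show (u * v) c = _
  rw [AlgHom.convMul_apply, hs, _root_.map_sum]
  exact Finset.sum_congr rfl fun i _ => Algebra.TensorProduct.lift_tmul _ _ _ _ _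

theorem mul_mem_smul {T : Type u} [CommRing T] [Algebra R T] {J K : Ideal R} {x y : T}
    (hx : x ∈ (J • ⊤ : Submodule R T)) (hy : y ∈ (K • ⊤ : Submodule R T)) : x * y ∈ ((J * K) • ⊤ : Submodule R T) := by
  rw [Ideal.smul_top_eq_map, Submodule.restrictScalars_mem] at hx hy ⊢
  rw [Ideal.map_mul]
  exact Ideal.mul_mem_mul hx hy

/-- A map linear over the base is multiplicative on elements close to the base. -/
theorem map_mul_near {T T' : Type u} [CommRing T] [Algebra R T] [CommRing T'] [Algebra R T'] (j : T →ₐ[R] T')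
    (P : T' →ₗ[R] T) (hP : ∀ t z, P (j t * z) = t * P z) (hP1 : P 1 = 1) {J : Ideal R} {x y : T'} {x₀ y₀ : T}
    (hx : x - j x₀ ∈ (J • ⊤ : Submodule R T')) (hy : y - j y₀ ∈ (J • ⊤ : Submodule R T')) :
    P (x * y) - P x * P y ∈ (J ^ 2 • ⊤ : Submodule R T) := by
  have hj : ∀ t, P (j t) = t := fun t => by simpa [hP1] using hP t 1
  obtain ⟨p, rfl⟩ : ∃ p, x = j x₀ + p := ⟨x - j x₀, (add_sub_cancel _ _).symm⟩
  obtain ⟨q, rfl⟩ : ∃ q, y = j y₀ + q := ⟨y - j y₀, (add_sub_cancel _ _).symm⟩
  rw [add_sub_cancel_left] at hx hy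
  have e : (j x₀ + p) * (j y₀ + q) = j (x₀ * y₀) + (j x₀ * q + (j y₀ * p + p * q)) := by
    rw [_root_.map_mul]; ring
  rw [e]
  simp only [_root_.map_add, hj, hP]
  rw [show x₀ * y₀ + (x₀ * P q + (y₀ * P p + P (p * q))) - (x₀ + P p) * (y₀ + P q) = P (p * q) - P p * P q by ring, pow_two]
  exact sub_mem (map_mem_of_mem_smul P (mul_mem_smul hx hy))
    (mul_mem_smul (map_mem_of_mem_smul P hx) (map_mem_of_mem_smul P hy))

set_option maxHeartbeats 1000000 in
/-- Averaging improves a homomorphism modulo `J` to one modulo `J ^ 2`. -/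
theorem exists_step {ε : A →ₗ[R] R} (hε : IsInvariant ε) [Algebra.Smooth R C] {J : Ideal R} (hJ : IsNilpotent J)
    {f₀ : C → A} (hf₀ : IsHomMod J f₀) :
    ∃ f' : C → A, IsHomMod (J ^ 2) f' ∧ ∀ c, f' c - f₀ c ∈ (J • ⊤ : Submodule R A) := by
  classical
  -- an algebra homomorphism lifting `f₀`
  let JA : Ideal A := J.map (algebraMap R A)
  have hJA : ∀ x : A, x ∈ JA ↔ x ∈ (J • ⊤ : Submodule R A) := fun x => by
    rw [Ideal.smul_top_eq_map, Submodule.restrictScalars_mem]
  let f₁ : C →ₐ[R] A ⧸ JA :=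
    AlgHom.ofLinearMap
      { toFun := fun c => Ideal.Quotient.mk JA (f₀ c)
        map_add' := fun a b => by rw [← _root_.map_add, Ideal.Quotient.eq, hJA]; exact hf₀.map_add a b
        map_smul' := fun r a => by
          rw [RingHom.id_apply]
          exact Ideal.Quotient.eq.2 ((hJA _).2 (hf₀.map_smul r a)) }
      (by
        show Ideal.Quotient.mk JA (f₀ 1) = 1
        rw [← map_one (Ideal.Quotient.mk JA), Ideal.Quotient.eq, hJA]; exact hf₀.map_one)
      (fun a b => by
        show Ideal.Quotient.mk JA (f₀ (a * b)) = Ideal.Quotient.mk JA (f₀ a) * Ideal.Quotient.mk JA (f₀ b)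
        rw [← _root_.map_mul, Ideal.Quotient.eq, hJA]; exact hf₀.map_mul a b)
  obtain ⟨f, hf⟩ := Algebra.FormallySmooth.exists_lift JA (hJ.map (Ideal.mapHom (algebraMap R A))) f₁
  have hff₀ : ∀ c, f c - f₀ c ∈ (J • ⊤ : Submodule R A) := fun c =>
    (hJA _).1 (Ideal.Quotient.eq.1 (DFunLike.congr_fun hf c))
  -- the points
  let Δ : A →ₐ[R] A ⊗[R] A := Bialgebra.comulAlgHom R A
  let i₁ : A →ₐ[R] A ⊗[R] A := Algebra.TensorProduct.includeLeft
  let i₂ : A →ₐ[R] A ⊗[R] A := Algebra.TensorProduct.includeRight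
  let D₁ : A ⊗[R] A →ₐ[R] A ⊗[R] (A ⊗[R] A) :=
    (Algebra.TensorProduct.assoc R R R A A A).toAlgHom.comp (Algebra.TensorProduct.map Δ (AlgHom.id R A))
  let D₂ : A ⊗[R] A →ₐ[R] A ⊗[R] (A ⊗[R] A) := Algebra.TensorProduct.map (AlgHom.id R A) Δ
  let j₂₃ : A ⊗[R] A →ₐ[R] A ⊗[R] (A ⊗[R] A) := Algebra.TensorProduct.includeRight
  let F : WithConv (C →ₐ[R] A) := toConv f
  let g : WithConv (C →ₐ[R] A ⊗[R] A) := push Δ F * (push i₂ F)⁻¹
  let u := push D₂ g
  let v := push j₂₃ g
  have hco : D₁.comp Δ = D₂.comp Δ := AlgHom.ext fun a => Coalgebra.coassoc_apply a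
  have hi₂ : D₁.comp i₂ = j₂₃.comp i₂ := AlgHom.ext fun a => by
    simp [D₁, i₂, j₂₃, Algebra.TensorProduct.one_def]
  have hi₂' : D₂.comp i₂ = j₂₃.comp Δ := AlgHom.ext fun a => by
    simp [D₂, i₂, j₂₃]
  have hguv : push D₁ g = u * v := by
    show push D₁ g = push D₂ g * push j₂₃ g
    simp only [g, _root_.map_mul, map_inv, push_comp, hco, hi₂, hi₂']
    exact group_id _ _ _
  -- `g` is close to `f ⊗ 1`
  have hgnear : ∀ c, g.ofConv c - f c ⊗ₜ[R] (1 : A) ∈ (J • ⊤ : Submodule R (A ⊗[R] A)) := by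
    let K : Ideal (A ⊗[R] A) := J.map (algebraMap R (A ⊗[R] A))
    let π : A ⊗[R] A →ₐ[R] (A ⊗[R] A) ⧸ K := Ideal.Quotient.mkₐ R K
    have hK : ∀ x : A ⊗[R] A, x ∈ K ↔ x ∈ (J • ⊤ : Submodule R (A ⊗[R] A)) := fun x => by
      rw [Ideal.smul_top_eq_map, Submodule.restrictScalars_mem]
    have hΔ : push π (push Δ F) = push π (push i₁ F * push i₂ F) := by
      apply WithConv.ofConv_injective
      refine AlgHom.ext fun c => Ideal.Quotient.eq.2 ((hK _).2 ?_)
      obtain ⟨s, hs⟩ := TensorProduct.exists_finset (CoalgebraStruct.comul (R := R) c)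
      show (push Δ F).ofConv c - (push i₁ F * push i₂ F).ofConv c ∈ _
      rw [mul_apply _ _ hs]
      show CoalgebraStruct.comul (R := R) (f c) - ∑ i ∈ s, (f i.1 ⊗ₜ[R] (1 : A)) * ((1 : A) ⊗ₜ[R] f i.2) ∈ _
      simp only [Algebra.TensorProduct.tmul_mul_tmul, mul_one, one_mul]
      have h1 : ∀ a b : A, a - b ∈ (J • ⊤ : Submodule R A) → ∀ y : A,
          a ⊗ₜ[R] y - b ⊗ₜ[R] y ∈ (J • ⊤ : Submodule R (A ⊗[R] A)) := fun a b h y => by
        have := map_mem_of_mem_smul ((TensorProduct.mk R A A).flip y) h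
        rwa [_root_.map_sub] at this
      have h2 : ∀ a b : A, a - b ∈ (J • ⊤ : Submodule R A) → ∀ y : A,
          y ⊗ₜ[R] a - y ⊗ₜ[R] b ∈ (J • ⊤ : Submodule R (A ⊗[R] A)) := fun a b h y => by
        have := map_mem_of_mem_smul (TensorProduct.mk R A A y) h
        rwa [_root_.map_sub] at this
      have h3 := map_mem_of_mem_smul (CoalgebraStruct.comul (R := R) (A := A)) (hff₀ c)
      rw [_root_.map_sub] at h3
      have h4 : ∀ i ∈ s, f i.1 ⊗ₜ[R] f i.2 - f₀ i.1 ⊗ₜ[R] f₀ i.2 ∈ (J • ⊤ : Submodule R (A ⊗[R] A)) := fun i _ => by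
        have := add_mem (h1 _ _ (hff₀ i.1) (f i.2)) (h2 _ _ (hff₀ i.2) (f₀ i.1))
        rwa [sub_add_sub_cancel] at this
      have h5 := sub_mem (add_mem h3 (hf₀.comul c s hs)) (Submodule.sum_mem _ h4)
      rw [Finset.sum_sub_distrib, sub_add_sub_cancel, sub_sub, add_sub_cancel] at h5
      exact h5
    have hg : push π g = push π (push i₁ F) := by
      simp only [g, _root_.map_mul, map_inv, hΔ]
      exact mul_inv_cancel_right (G := WithConv (C →ₐ[R] (A ⊗[R] A) ⧸ K)) _ _
    intro c
    exact (hK _).1 (Ideal.Quotient.eq.1 (DFunLike.congr_fun (congrArg WithConv.ofConv hg) c))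
  -- integration
  let P : A ⊗[R] A →ₗ[R] A := (TensorProduct.rid R A).toLinearMap ∘ₗ LinearMap.lTensor A ε
  have hP : ∀ a b, P (a ⊗ₜ b) = ε b • a := fun a b => by simp [P]
  have hPmul : ∀ t z, P (i₁ t * z) = t * P z := fun t z => by
    induction z using TensorProduct.induction_on with
    | zero => simp
    | tmul a b => simp [i₁, hP, Algebra.TensorProduct.tmul_mul_tmul]
    | add p q hp hq => simp only [mul_add, _root_.map_add, hp, hq]
  have hP1 : P 1 = 1 := by rw [Algebra.TensorProduct.one_def, hP, hε.one, one_smul]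
  have hPΔ : ∀ a, P (Δ a) = ε a • (1 : A) := fun a => by
    have h := congrArg (TensorProduct.lid R A) (hε.right a)
    rw [TensorProduct.lid_tmul] at h
    refine Eq.trans ?_ h
    show P (CoalgebraStruct.comul (R := R) a) = _
    generalize CoalgebraStruct.comul (R := R) a = z
    induction z using TensorProduct.induction_on with
    | zero => simp
    | tmul a b => simp [hP]
    | add p q hp hq => simp only [_root_.map_add, hp, hq]
  let P₃ : A ⊗[R] (A ⊗[R] A) →ₗ[R] A ⊗[R] A := LinearMap.lTensor A P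
  have hP₃ : ∀ a z, P₃ (a ⊗ₜ z) = a ⊗ₜ P z := fun a z => rfl
  have hD₁ : ∀ z, P₃ (D₁ z) = Δ (P z) := fun z => by
    induction z using TensorProduct.induction_on with
    | zero => simp
    | add p q hp hq => simp only [_root_.map_add, hp, hq]
    | tmul a b =>
      rw [hP, _root_.map_smul]
      show P₃ ((Algebra.TensorProduct.assoc R R R A A A) (Δ a ⊗ₜ b)) = _
      generalize Δ a = z
      induction z using TensorProduct.induction_on with
      | zero => simp
      | add p q hp hq => simp only [TensorProduct.add_tmul, _root_.map_add, hp, hq, smul_add]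
      | tmul p q => rw [Algebra.TensorProduct.assoc_tmul, hP₃, hP, TensorProduct.tmul_smul]
  have hD₂ : ∀ z, P₃ (D₂ z) = i₁ (P z) := fun z => by
    induction z using TensorProduct.induction_on with
    | zero => simp
    | add p q hp hq => simp only [_root_.map_add, hp, hq]
    | tmul a b =>
      show P₃ (a ⊗ₜ Δ b) = _
      rw [hP₃, hPΔ, hP]
      simp [i₁, TensorProduct.tmul_smul, TensorProduct.smul_tmul']
  have hj₂₃ : ∀ z, P₃ (j₂₃ z) = i₂ (P z) := fun z => rfl
  let j : A ⊗[R] A →ₐ[R] A ⊗[R] (A ⊗[R] A) := Algebra.TensorProduct.map (AlgHom.id R A) i₁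
  have hjP : ∀ t z, P₃ (j t * z) = t * P₃ z := fun t z => by
    induction t using TensorProduct.induction_on with
    | zero => simp
    | add p q hp hq => simp only [_root_.map_add, add_mul, hp, hq]
    | tmul a b =>
      induction z using TensorProduct.induction_on with
      | zero => simp
      | add p q hp hq => simp only [mul_add, _root_.map_add, hp, hq]
      | tmul p q =>
        rw [show j (a ⊗ₜ b) = a ⊗ₜ i₁ b from rfl, Algebra.TensorProduct.tmul_mul_tmul, hP₃, hP₃, hPmul,
          Algebra.TensorProduct.tmul_mul_tmul]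
  have hP₃1 : P₃ 1 = 1 := by rw [Algebra.TensorProduct.one_def, hP₃, hP1]; rfl
  have hu : ∀ c, u.ofConv c - j (f c ⊗ₜ (1 : A)) ∈ (J • ⊤ : Submodule R (A ⊗[R] (A ⊗[R] A))) := fun c => by
    have := map_mem_of_mem_smul D₂.toLinearMap (hgnear c)
    rw [_root_.map_sub] at this
    rw [show j (f c ⊗ₜ (1 : A)) = D₂ (f c ⊗ₜ 1) by simp [j, D₂]]
    exact this
  have hv : ∀ c, v.ofConv c - j ((1 : A) ⊗ₜ f c) ∈ (J • ⊤ : Submodule R (A ⊗[R] (A ⊗[R] A))) := fun c => by
    have := map_mem_of_mem_smul j₂₃.toLinearMap (hgnear c)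
    rw [_root_.map_sub] at this
    exact this
  let f' : C →ₗ[R] A := P ∘ₗ g.ofConv.toLinearMap
  have hf' : ∀ c, f' c = P (g.ofConv c) := fun _ => rfl
  have hPi : ∀ a : A, P (a ⊗ₜ (1 : A)) = a := fun a => by rw [hP, hε.one, one_smul]
  refine ⟨f', ⟨fun a b => by simp, fun r a => by simp, ?_, fun a b => ?_, fun a => ?_, fun a s hs => ?_⟩, fun c => ?_⟩
  · rw [hf', _root_.map_one, hP1, sub_self]
    exact zero_mem _
  · rw [hf', hf', hf', _root_.map_mul]
    exact map_mul_near i₁ P hPmul hP1 (hgnear a) (hgnear b)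
  · let q : A ⊗[R] A →ₐ[R] A :=
      Algebra.TensorProduct.lift ((Algebra.ofId R A).comp (Bialgebra.counitAlgHom R A)) (AlgHom.id R A) fun _ _ => .all _ _
    have hqΔ : q.comp Δ = AlgHom.id R A := AlgHom.ext fun b => by
      have h := congrArg (TensorProduct.lid R A) (Coalgebra.rTensor_counit_comul (R := R) b)
      rw [TensorProduct.lid_tmul, one_smul] at h
      refine Eq.trans ?_ h
      show q (CoalgebraStruct.comul (R := R) b) = _
      generalize CoalgebraStruct.comul (R := R) b = z
      induction z using TensorProduct.induction_on with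
      | zero => simp
      | tmul p q' => simp [q, Algebra.smul_def]
      | add p q' hp hq => simp only [_root_.map_add, hp, hq]
    have hqi : q.comp i₂ = AlgHom.id R A := AlgHom.ext fun b => by simp [q, i₂]
    have hq : push q g = 1 := by
      simp only [g, _root_.map_mul, map_inv, push_comp, hqΔ, hqi]
      exact mul_inv_cancel _
    have h1 : ∀ z, CoalgebraStruct.counit (R := R) (P z) = ε (q z) := fun z => by
      induction z using TensorProduct.induction_on with
      | zero => simp
      | tmul p q' =>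
        rw [hP, _root_.map_smul]
        simp [q]
        rw [← Algebra.smul_def, _root_.map_smul, smul_eq_mul, mul_comm]
      | add p q' hp hq => simp only [_root_.map_add, hp, hq]
    have h2 : q (g.ofConv a) = algebraMap R A (CoalgebraStruct.counit (R := R) a) :=
      DFunLike.congr_fun (congrArg WithConv.ofConv hq) a
    rw [hf', h1, h2, Algebra.algebraMap_eq_smul_one, _root_.map_smul, hε.one, smul_eq_mul, mul_one, sub_self]
    exact zero_mem _
  · have e1 : CoalgebraStruct.comul (R := R) (f' a) = P₃ ((u * v).ofConv a) := by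
      rw [← hguv, push_apply, hD₁]
      rfl
    rw [e1, mul_apply u v hs, _root_.map_sum, ← Finset.sum_sub_distrib]
    refine Submodule.sum_mem _ fun i _ => ?_
    have h := map_mul_near j P₃ hjP hP₃1 (hu i.1) (hv i.2)
    rw [show P₃ (u.ofConv i.1) = i₁ (f' i.1) from hD₂ _, show P₃ (v.ofConv i.2) = i₂ (f' i.2) from hj₂₃ _] at h
    simpa [i₁, i₂, Algebra.TensorProduct.tmul_mul_tmul] using h
  · have h := map_mem_of_mem_smul P (hgnear c)
    rw [_root_.map_sub, hPi] at h
    have := add_mem h (hff₀ c)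
    rwa [sub_add_sub_cancel] at this

/-- Homomorphisms modulo a nilpotent ideal lift to smooth groups. -/
theorem exists_hom {ε : A →ₗ[R] R} (hε : IsInvariant ε) [Algebra.Smooth R C] {J : Ideal R} (hJ : IsNilpotent J)
    {f₀ : C → A} (hf₀ : IsHomMod J f₀) :
    ∃ φ : C →ₐc[R] A, ∀ c, φ c - f₀ c ∈ (J • ⊤ : Submodule R A) := by
  classical
  have hk : ∀ k : ℕ, ∃ f : C → A, IsHomMod (J ^ 2 ^ k) f ∧ ∀ c, f c - f₀ c ∈ (J • ⊤ : Submodule R A) := by
    intro k
    induction k with
    | zero => exact ⟨f₀, by simpa using hf₀, fun c => by simp⟩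
    | succ k ih =>
      obtain ⟨f, hf, hff⟩ := ih
      have hn : IsNilpotent (J ^ 2 ^ k) := hJ.pow_of_pos (by positivity)
      obtain ⟨f', hf', hff'⟩ := exists_step hε hn hf
      refine ⟨f', by rwa [pow_succ, pow_mul], fun c => ?_⟩
      have := add_mem (Submodule.smul_mono_left (Ideal.pow_le_self (by positivity)) (hff' c)) (hff c)
      rwa [sub_add_sub_cancel] at this
  obtain ⟨n, hn⟩ := hJ
  obtain ⟨f, hf, hff⟩ := hk n
  have h0 : J ^ 2 ^ n = ⊥ := le_bot_iff.1 ((Ideal.pow_le_pow_right Nat.lt_two_pow_self.le).trans (le_of_eq hn))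
  rw [h0] at hf
  have hz : ∀ {x : A}, x ∈ ((⊥ : Ideal R) • ⊤ : Submodule R A) → x = 0 := fun hx => by
    rwa [Submodule.bot_smul, Submodule.mem_bot] at hx
  let ψ : C →ₐ[R] A := AlgHom.ofLinearMap
    { toFun := f
      map_add' := fun a b => sub_eq_zero.1 (hz (hf.map_add a b))
      map_smul' := fun r a => sub_eq_zero.1 (hz (hf.map_smul r a)) }
    (sub_eq_zero.1 (hz hf.map_one)) fun a b => sub_eq_zero.1 (hz (hf.map_mul a b))
  refine ⟨BialgHom.ofAlgHom ψ (AlgHom.ext fun c => sub_eq_zero.1 (Ideal.mem_bot.1 (hf.counit c))) (AlgHom.ext fun c => ?_),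
    hff⟩
  obtain ⟨s, hs⟩ := TensorProduct.exists_finset (CoalgebraStruct.comul (R := R) c)
  have h := hf.comul c s hs
  rw [Submodule.bot_smul, Submodule.mem_bot, sub_eq_zero] at h
  show Algebra.TensorProduct.map ψ ψ (CoalgebraStruct.comul (R := R) c) = CoalgebraStruct.comul (R := R) (f c)
  rw [h, hs, _root_.map_sum]
  rfl

end Step

end

end Groth.Agent.Lib.OT67.Averaging
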