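import Groth.Agent.Lib.OT67.Eigen
import Mathlib

/-!
Base change of convolution monoids of a bialgebra.
-/

open TensorProduct WithConv

universe u v w

namespace Groth.Agent.Lib.OT67

variable {R : Type u} [CommRing R] (S : Type w) [CommRing S] [Algebra R S] {A : Type v} [CommRing A] [Bialgebra R A]

theorem comul_one_tmul (a : A) :
    Coalgebra.comul (R := S) ((1 : S) ⊗ₜ[R] a) =
      (TensorProduct.mapOfCompatibleSMul S R R (S ⊗[R] A) (S ⊗[R] A))
        (TensorProduct.map (TensorProduct.mk R S A 1) (TensorProduct.mk R S A 1) (Coalgebra.comul (R := R) a)) := by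
  rw [TensorProduct.comul_tmul, CommSemiring.comul_apply]
  induction Coalgebra.comul (R := R) a using TensorProduct.induction_on with
  | zero => simp
  | add p q hp hq => simp only [tmul_add, map_add, hp, hq]
  | tmul p q => simp

variable {T : Type*} [CommRing T] [Algebra R T] [Algebra S T] [IsScalarTower R S T]

/-- Restriction of a point of the base change. -/
noncomputable def res : WithConv (S ⊗[R] A →ₐ[S] T) →* WithConv (A →ₐ[R] T) where
  toFun f := toConv ((f.ofConv.restrictScalars R).comp Algebra.TensorProduct.includeRight)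
  map_one' := by
    refine WithConv.ofConv_injective (AlgHom.ext fun a => ?_)
    show algebraMap S T (Coalgebra.counit (R := S) ((1 : S) ⊗ₜ[R] a)) = algebraMap R T (Coalgebra.counit a)
    rw [TensorProduct.counit_tmul, CommSemiring.counit_apply, Algebra.smul_def, mul_one,
      ← IsScalarTower.algebraMap_apply]
  map_mul' f g := by
    refine WithConv.ofConv_injective (AlgHom.ext fun a => ?_)
    show (f * g).ofConv ((1 : S) ⊗ₜ[R] a) = _
    rw [show (f * g).ofConv ((1 : S) ⊗ₜ[R] a) = _ from AlgHom.convMul_apply f g _,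
      show ((toConv ((f.ofConv.restrictScalars R).comp Algebra.TensorProduct.includeRight) *
        toConv ((g.ofConv.restrictScalars R).comp Algebra.TensorProduct.includeRight) :
          WithConv (A →ₐ[R] T))).ofConv a = _ from AlgHom.convMul_apply _ _ _, comul_one_tmul]
    induction Coalgebra.comul (R := R) a using TensorProduct.induction_on with
    | zero => simp
    | add p q hp hq => simp only [map_add, hp, hq]
    | tmul p q => simp

theorem res_apply (f : WithConv (S ⊗[R] A →ₐ[S] T)) (a : A) : (res S f).ofConv a = f.ofConv ((1 : S) ⊗ₜ a) := rfl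

theorem res_injective : Function.Injective (res S : WithConv (S ⊗[R] A →ₐ[S] T) →* WithConv (A →ₐ[R] T)) := by
  intro f g h
  refine WithConv.ofConv_injective (AlgHom.ext fun z => ?_)
  induction z using TensorProduct.induction_on with
  | zero => simp
  | add p q hp hq => simp only [map_add, hp, hq]
  | tmul s a =>
    rw [show s ⊗ₜ[R] a = s • ((1 : S) ⊗ₜ[R] a) by rw [smul_tmul', smul_eq_mul, mul_one], map_smul, map_smul,
      ← res_apply, ← res_apply, h]

theorem pow_id_one_tmul (n : ℕ) (a : A) :
    ((toConv (AlgHom.id S (S ⊗[R] A))) ^ n).ofConv ((1 : S) ⊗ₜ[R] a) =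
      (1 : S) ⊗ₜ[R] ((toConv (AlgHom.id R A)) ^ n).ofConv a := by
  rw [← res_apply, map_pow,
    show ((1 : S) ⊗ₜ[R] ((toConv (AlgHom.id R A)) ^ n).ofConv a) =
      ((Algebra.TensorProduct.includeRight : A →ₐ[R] S ⊗[R] A).comp ((toConv (AlgHom.id R A)) ^ n).ofConv) a
      from rfl, comp_pow]
  rfl

theorem pow_id_eq_one (p : ℕ) (hp : (toConv (AlgHom.id R A)) ^ p = 1) :
    (toConv (AlgHom.id S (S ⊗[R] A))) ^ p = 1 := by
  apply res_injective S
  refine WithConv.ofConv_injective (AlgHom.ext fun a => ?_)
  rw [res_apply, res_apply, pow_id_one_tmul, hp]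
  show (1 : S) ⊗ₜ[R] algebraMap R A (Coalgebra.counit a) =
    algebraMap S (S ⊗[R] A) (Coalgebra.counit (R := S) ((1 : S) ⊗ₜ[R] a))
  rw [TensorProduct.counit_tmul, CommSemiring.counit_apply, Algebra.TensorProduct.algebraMap_apply,
    Algebra.algebraMap_eq_smul_one (R := R), tmul_smul, smul_tmul', Algebra.algebraMap_self, RingHom.id_apply]

theorem counit_one_tmul (a : A) :
    Bialgebra.counitAlgHom S (S ⊗[R] A) ((1 : S) ⊗ₜ[R] a) = algebraMap R S (Bialgebra.counitAlgHom R A a) := by
  rw [Bialgebra.counitAlgHom_apply, Bialgebra.counitAlgHom_apply, TensorProduct.counit_tmul,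
    CommSemiring.counit_apply, Algebra.smul_def, mul_one]

/-- Rank after base change. -/
theorem finrank_baseChange (M : Type*) [AddCommGroup M] [Module R M] [Module.Finite R M] [Module.Projective R M]
    (n : ℕ) (hn : ∀ q : PrimeSpectrum R, Module.rankAtStalk M q = n) [Nontrivial S] [Module.Free S (S ⊗[R] M)] :
    Module.finrank S (S ⊗[R] M) = n := by
  obtain ⟨q⟩ : Nonempty (PrimeSpectrum S) := inferInstance
  have h := Module.rankAtStalk_baseChange (R := R) (S := S) (M := M) q
  rw [Module.rankAtStalk_eq_finrank_of_free, hn] at h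
  exact h

/-- Equality can be tested in the localizations at maximal ideals. -/
theorem eq_of_localized {M : Type*} [AddCommGroup M] [Module R M] {x y : M}
    (h : ∀ (q : Ideal R) [q.IsMaximal], (1 : Localization.AtPrime q) ⊗ₜ[R] x = (1 : Localization.AtPrime q) ⊗ₜ[R] y) :
    x = y :=
  Module.eq_of_localization_maximal (fun q [q.IsMaximal] => Localization.AtPrime q ⊗[R] M)
    (fun q [q.IsMaximal] => TensorProduct.mk R (Localization.AtPrime q) M 1) x y fun q _ => h q

section linear

/-- Base change of linear forms, compatible with convolution. -/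
noncomputable def bcForm (φ : WithConv (A →ₗ[R] R)) : WithConv (S ⊗[R] A →ₗ[S] S) :=
  toConv ((TensorProduct.AlgebraTensorModule.rid R S S).toLinearMap ∘ₗ φ.ofConv.baseChange S)

theorem bcForm_apply (φ : WithConv (A →ₗ[R] R)) (s : S) (a : A) :
    (bcForm S φ).ofConv (s ⊗ₜ a) = s * algebraMap R S (φ.ofConv a) := by
  simp [bcForm, Algebra.smul_def, mul_comm]

theorem bcForm_ext {f g : WithConv (S ⊗[R] A →ₗ[S] S)}
    (h : ∀ a, f.ofConv ((1 : S) ⊗ₜ[R] a) = g.ofConv ((1 : S) ⊗ₜ[R] a)) : f = g :=
  WithConv.ofConv_injective (TensorProduct.AlgebraTensorModule.ext fun s a => by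
    rw [show s ⊗ₜ[R] a = s • ((1 : S) ⊗ₜ[R] a) by rw [smul_tmul', smul_eq_mul, mul_one], map_smul, map_smul, h])

/-- The ring map on dual algebras. -/
noncomputable def bcDual : WithConv (A →ₗ[R] R) →+* WithConv (S ⊗[R] A →ₗ[S] S) where
  toFun := bcForm S
  map_one' := by
    refine bcForm_ext S fun a => ?_
    rw [bcForm_apply, one_mul]
    show algebraMap R S (algebraMap R R (Coalgebra.counit a)) =
      algebraMap S S (Coalgebra.counit (R := S) ((1 : S) ⊗ₜ[R] a))
    rw [TensorProduct.counit_tmul, CommSemiring.counit_apply, Algebra.smul_def, mul_one, Algebra.algebraMap_self,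
      Algebra.algebraMap_self]
    rfl
  map_mul' f g := by
    refine bcForm_ext S fun a => ?_
    rw [bcForm_apply, one_mul, LinearMap.convMul_def, LinearMap.convMul_def]
    simp only [ofConv_toConv, LinearMap.comp_apply, comul_one_tmul]
    induction Coalgebra.comul (R := R) a using TensorProduct.induction_on with
    | zero => simp
    | add p q hp hq => simp only [map_add, hp, hq]
    | tmul p q => simp [bcForm_apply]
  map_zero' := bcForm_ext S fun a => by simp [bcForm_apply]
  map_add' f g := bcForm_ext S fun a => by simp [bcForm_apply]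

theorem bcDual_smul (r : R) (φ : WithConv (A →ₗ[R] R)) :
    bcDual S (r • φ) = algebraMap R S r • bcDual S φ :=
  bcForm_ext S fun a => by
    show (bcForm S (r • φ)).ofConv _ = algebraMap R S r * (bcForm S φ).ofConv _
    simp [bcForm_apply]

end linear

end Groth.Agent.Lib.OT67
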