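import Groth.Agent.Lib.OT67.Pairing
import Mathlib

/-!
A Hopf algebra of prime rank is determined by its two multiplication maps.
-/

open TensorProduct WithConv

universe u

namespace Groth.Agent.Lib.OT67

variable {R : Type u} [CommRing R] (p : ℕ) [Fact p.Prime] {u : R} {χ : (ZMod p)ˣ →* Rˣ}
variable (hu : u * ((p - 1 : ℕ) : R) = 1) (hχ : ∀ m : (ZMod p)ˣ, m ≠ 1 → IsUnit ((χ m : R) - 1))
  (hχp : ∀ m : (ZMod p)ˣ, ((χ m : Rˣ) : R) - (((m : ZMod p).val : ℕ) : R) ∈ Ideal.span ({(p : R)} : Set R))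

include hu hχ hχp in
theorem exists_extend {A : Type u} [CommRing A] [HopfAlgebra R A] [Module.Finite R A] [Module.Projective R A]
    (hrk : ∀ q : PrimeSpectrum R, Module.rankAtStalk A q = p) {B : Type u} [CommRing B] [Algebra R B]
    (θ : OortTate.eigenAug R A p χ 1 →ₗ[R] B)
    (hθ : ∀ (f : Fin p → OortTate.eigenAug R A p χ 1) (g : OortTate.eigenAug R A p χ 1),
      (g : A) = ∏ i, (f i : A) → θ g = ∏ i, θ (f i)) :
    ∃ F : A →ₐ[R] B, ∀ x : OortTate.eigenAug R A p χ 1, F (x : A) = θ x := by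
  set π := TensorAlgebra.lift R (OortTate.eigenAug R A p χ 1).subtype
  set π' := TensorAlgebra.lift R θ
  have hπ : Function.Surjective π := lift_surjective p hu hχ hχp hrk
  have hker : ∀ z, π z = 0 → π' z = 0 := by
    intro z hz
    have hz' : z ∈ RingHom.ker π := hz
    rw [ker_lift_eq p hu hχ hχp hrk] at hz'
    refine RingHom.mem_ker.1 ((Ideal.span_le (I := RingHom.ker π')).2 ?_ hz')
    rintro _ ⟨f, g, hg, rfl⟩
    rw [SetLike.mem_coe, RingHom.mem_ker, map_sub, map_list_prod, List.map_ofFn, List.prod_ofFn,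
      TensorAlgebra.lift_ι_apply, hθ f g hg, sub_eq_zero]
    exact Finset.prod_congr rfl fun i _ => TensorAlgebra.lift_ι_apply _ _
  have hwd : ∀ z z', π z = π z' → π' z = π' z' := fun z z' h =>
    sub_eq_zero.1 (by rw [← map_sub]; exact hker _ (by rw [map_sub, h, sub_self]))
  choose s hs using hπ
  let F : A →ₐ[R] B :=
    { toFun := fun a => π' (s a)
      map_one' := by rw [hwd (s 1) 1 (by rw [hs, map_one]), map_one]
      map_mul' := fun a b => by rw [hwd (s (a * b)) (s a * s b) (by rw [hs, map_mul, hs, hs]), map_mul]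
      map_zero' := by rw [hwd (s 0) 0 (by rw [hs, map_zero]), map_zero]
      map_add' := fun a b => by rw [hwd (s (a + b)) (s a + s b) (by rw [hs, map_add, hs, hs]), map_add]
      commutes' := fun r => by rw [hwd (s _) (algebraMap R _ r) (by rw [hs, AlgHom.commutes]), AlgHom.commutes] }
  refine ⟨F, fun x => ?_⟩
  show π' (s (x : A)) = θ x
  rw [hwd _ (TensorAlgebra.ι R x) (by rw [hs, TensorAlgebra.lift_ι_apply]; rfl), TensorAlgebra.lift_ι_apply]

include hu hχ hχp in
theorem span_products {A : Type u} [CommRing A] [HopfAlgebra R A] [Module.Finite R A] [Module.Projective R A]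
    (hrk : ∀ q : PrimeSpectrum R, Module.rankAtStalk A q = p) (S : Submodule R A) (h1 : (1 : A) ∈ S)
    (h : ∀ t, 1 ≤ t → t ≤ p - 1 → ∀ x : Fin t → OortTate.eigenAug R A p χ 1, ∏ i, (x i : A) ∈ S) (a : A) :
    a ∈ S := by
  have hker : LinearMap.ker (Bialgebra.counitAlgHom R A).toLinearMap ≤ S := by
    rw [← (decomposition p hu hχ (pow_id_eq_one' p hrk)).2]
    refine iSup_le fun i => ?_
    rw [eigenAug_congr p (red_modEq p _), ← pow_eq p hu hχ hχp hrk _ (red_mem p _).1 (red_mem p _).2,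
      ← Submodule.span_eq (OortTate.eigenAug R A p χ 1), Submodule.span_pow, Submodule.span_le]
    intro w hw
    obtain ⟨f, rfl⟩ := Set.mem_pow.1 hw
    rw [SetLike.mem_coe, List.prod_ofFn]
    exact h _ (red_mem p _).1 (red_mem p _).2 f
  have h2 : a - Bialgebra.counitAlgHom R A a • (1 : A) ∈ S := hker (by simp)
  have h3 := S.add_mem h2 (S.smul_mem (Bialgebra.counitAlgHom R A a) h1)
  rwa [sub_add_cancel] at h3

theorem prod_mem {A : Type u} [CommRing A] [HopfAlgebra R A] {t : ℕ} (ht : 1 ≤ t)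
    (y : Fin t → OortTate.eigenAug R A p χ 1) : ∏ i, (y i : A) ∈ OortTate.eigenAug R A p χ t := by
  refine pow_le p t ht ?_
  rw [← List.prod_ofFn]
  exact Submodule.pow_subset_pow _ (Set.mem_pow.2 ⟨y, rfl⟩)

include hu in
theorem exists_coeff (t : ℕ) (ht : 1 ≤ t) : ∃ c : R,
    OortTate.ygen R p u χ 1 ^ t = c • OortTate.ygen R p u χ t := by
  have hp := pow_id_eq_one' p (A := MonoidAlgebra R (Multiplicative (ZMod p))) (rank_mup p)
  have hy : OortTate.ygen R p u χ 1 ∈ OortTate.eigenAug R (MonoidAlgebra R (Multiplicative (ZMod p))) p χ 1 := by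
    rw [eigen_mup p hu hp]; exact Submodule.mem_span_singleton_self _
  have h := pow_mem_eigen p hy t ht
  rw [eigen_mup p hu hp] at h
  obtain ⟨c, hc⟩ := Submodule.mem_span_singleton.1 h
  exact ⟨c, hc.symm⟩

section main
variable {A : Type u} [CommRing A] [HopfAlgebra R A] [Coalgebra.IsCocomm R A] [Module.Finite R A]
  [Module.Projective R A] {A' : Type u} [CommRing A'] [HopfAlgebra R A'] [Coalgebra.IsCocomm R A']
  [Module.Finite R A'] [Module.Projective R A']
  (hrk : ∀ q : PrimeSpectrum R, Module.rankAtStalk A q = p)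
  (hrk' : ∀ q : PrimeSpectrum R, Module.rankAtStalk A' q = p)

include hu hχ hχp hrk hrk' in
theorem exists_algEquiv (θ : OortTate.eigenAug R A p χ 1 ≃ₗ[R] OortTate.eigenAug R A' p χ 1)
    (hθ : ∀ (f : Fin p → OortTate.eigenAug R A p χ 1) (g : OortTate.eigenAug R A p χ 1),
      (g : A) = ∏ i, (f i : A) → ((θ g : OortTate.eigenAug R A' p χ 1) : A') = ∏ i, ((θ (f i)) : A')) :
    ∃ e : A ≃ₐ[R] A', (∀ x : OortTate.eigenAug R A p χ 1, e (x : A) = (θ x : A')) ∧
      ∀ a, Bialgebra.counitAlgHom R A' (e a) = Bialgebra.counitAlgHom R A a := by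
  obtain ⟨f, hf⟩ := exists_extend p hu hχ hχp hrk
    ((OortTate.eigenAug R A' p χ 1).subtype ∘ₗ θ.toLinearMap) hθ
  obtain ⟨g, hg⟩ := exists_extend p hu hχ hχp hrk'
    ((OortTate.eigenAug R A p χ 1).subtype ∘ₗ θ.symm.toLinearMap) (fun F G hG => by
      let G₀ : OortTate.eigenAug R A p χ 1 := ⟨∏ i, (θ.symm (F i) : A), prod_mem_eigen p fun i => θ.symm (F i)⟩
      have h1 := hθ (fun i => θ.symm (F i)) G₀ rfl
      simp only [LinearEquiv.apply_symm_apply] at h1
      have h2 : θ G₀ = G := Subtype.ext (h1.trans hG.symm)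
      show (θ.symm G : A) = ∏ i, (θ.symm (F i) : A)
      rw [← h2, LinearEquiv.symm_apply_apply])
  have hf' : ∀ x : OortTate.eigenAug R A p χ 1, f (x : A) = (θ x : A') := hf
  have hg' : ∀ x : OortTate.eigenAug R A' p χ 1, g (x : A') = (θ.symm x : A) := hg
  have hgf : g.comp f = AlgHom.id R A := AlgHom.ext_of_adjoin_eq_top (adjoin_eq_top p hu hχ hχp hrk)
    fun x hx => by
      rw [AlgHom.comp_apply, hf' ⟨x, hx⟩, hg', LinearEquiv.symm_apply_apply]; rfl
  have hfg : f.comp g = AlgHom.id R A' := AlgHom.ext_of_adjoin_eq_top (adjoin_eq_top p hu hχ hχp hrk')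
    fun x hx => by
      rw [AlgHom.comp_apply, hg' ⟨x, hx⟩, hf', LinearEquiv.apply_symm_apply]; rfl
  have hfε : (Bialgebra.counitAlgHom R A').comp f = Bialgebra.counitAlgHom R A :=
    AlgHom.ext_of_adjoin_eq_top (adjoin_eq_top p hu hχ hχp hrk) fun x hx => by
      rw [AlgHom.comp_apply, hf' ⟨x, hx⟩, ((mem_eigenAug p).1 hx).1, ((mem_eigenAug p).1 (θ ⟨x, hx⟩).2).1]
  exact ⟨AlgEquiv.ofAlgHom f g hfg hgf, hf', fun a => DFunLike.congr_fun hfε a⟩

include hu hχ hχp hrk hrk' in
theorem exists_transpose (θ : OortTate.eigenAug R A p χ 1 ≃ₗ[R] OortTate.eigenAug R A' p χ 1)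
    (f : A →ₐ[R] A') (hf : ∀ x : OortTate.eigenAug R A p χ 1, f (x : A) = (θ x : A'))
    (hθD : ∀ (φ : Fin p → OortTate.eigenAug R (CartDual.D R A) p χ 1)
      (φ' : Fin p → OortTate.eigenAug R (CartDual.D R A') p χ 1)
      (ψ : OortTate.eigenAug R (CartDual.D R A) p χ 1) (ψ' : OortTate.eigenAug R (CartDual.D R A') p χ 1),
      (∀ i, ∀ x : OortTate.eigenAug R A p χ 1,
        CartDual.toDual R A (φ i : CartDual.D R A) (x : A) =
          CartDual.toDual R A' (φ' i : CartDual.D R A') ((θ x : OortTate.eigenAug R A' p χ 1) : A')) →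
      (ψ : CartDual.D R A) = ∏ i, (φ i : CartDual.D R A) →
      (ψ' : CartDual.D R A') = ∏ i, (φ' i : CartDual.D R A') →
      ∀ x : OortTate.eigenAug R A p χ 1,
        CartDual.toDual R A (ψ : CartDual.D R A) (x : A) =
          CartDual.toDual R A' (ψ' : CartDual.D R A') ((θ x : OortTate.eigenAug R A' p χ 1) : A')) :
    ∃ (h : CartDual.D R A' →ₐ[R] CartDual.D R A),
      ∀ φ : OortTate.eigenAug R (CartDual.D R A') p χ 1,
        h (φ : CartDual.D R A') ∈ OortTate.eigenAug R (CartDual.D R A) p χ 1 ∧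
        ∀ x : OortTate.eigenAug R A p χ 1,
          (h (φ : CartDual.D R A')).ofConv (x : A) = φ.1.ofConv (θ x : A') := by
  let T : OortTate.eigenAug R (CartDual.D R A') p χ 1 →ₗ[R] CartDual.D R A :=
    { toFun := fun φ => toConv (φ.1.ofConv ∘ₗ f.toLinearMap ∘ₗ P p u χ 1)
      map_add' := fun φ ψ => WithConv.ofConv_injective (LinearMap.ext fun _ => rfl)
      map_smul' := fun r φ => WithConv.ofConv_injective (LinearMap.ext fun _ => rfl) }
  have hTmem : ∀ φ, T φ ∈ OortTate.eigenAug R (CartDual.D R A) p χ 1 := fun φ =>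
    comp_P_mem p hu hrk 1 (φ.1.ofConv ∘ₗ f.toLinearMap)
  have hT : ∀ (φ : OortTate.eigenAug R (CartDual.D R A') p χ 1) (x : OortTate.eigenAug R A p χ 1),
      (T φ).ofConv (x : A) = φ.1.ofConv (θ x : A') := by
    intro φ x
    show φ.1.ofConv (f (P p u χ 1 (x : A))) = _
    rw [P_of_mem p hu x.2, hf]
  have hrkD : ∀ q : PrimeSpectrum R, Module.rankAtStalk (CartDual.D R A') q = p := fun q => rank_dual p q hrk'
  obtain ⟨h, hh⟩ := exists_extend (A := CartDual.D R A') (B := CartDual.D R A) p hu hχ hχp hrkD T (fun F G hG => by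
    have hmem : ∏ i, T (F i) ∈ OortTate.eigenAug R (CartDual.D R A) p χ 1 :=
      prod_mem_eigen p fun i => ⟨T (F i), hTmem _⟩
    refine dual_ext p hu hrk (hTmem G) hmem fun x hx => ?_
    rw [show (T G).ofConv x = G.1.ofConv (θ ⟨x, hx⟩ : A') from hT G ⟨x, hx⟩]
    exact (hθD (fun i => ⟨T (F i), hTmem _⟩) F ⟨_, hmem⟩ G (fun i y => hT (F i) y) rfl hG ⟨x, hx⟩).symm)
  exact ⟨h, fun φ => by rw [hh]; exact ⟨hTmem φ, hT φ⟩⟩

include hu hχ hχp hrk hrk' in
theorem transpose_prod (θ : OortTate.eigenAug R A p χ 1 ≃ₗ[R] OortTate.eigenAug R A' p χ 1)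
    {s t : ℕ} (hs1 : 1 ≤ s) (hs2 : s ≤ p - 1) (ht1 : 1 ≤ t) (ht2 : t ≤ p - 1)
    (F' : Fin s → OortTate.eigenAug R (CartDual.D R A') p χ 1)
    (F : Fin s → OortTate.eigenAug R (CartDual.D R A) p χ 1)
    (hF : ∀ i (x : OortTate.eigenAug R A p χ 1),
      (F i : CartDual.D R A).ofConv (x : A) = (F' i : CartDual.D R A').ofConv (θ x : A'))
    (x : Fin t → OortTate.eigenAug R A p χ 1) :
    (∏ i, (F' i : CartDual.D R A')).ofConv (∏ i, (θ (x i) : A')) =
      (∏ i, (F i : CartDual.D R A)).ofConv (∏ i, (x i : A)) := by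
  have hp := pow_id_eq_one' p (A := A) hrk
  have hp' := pow_id_eq_one' p (A := A') hrk'
  by_cases hst : s = t
  · subst hst
    obtain ⟨ϕ, hϕ⟩ := exists_pairing p (A := A) hrk
    obtain ⟨ϕ', hϕ'⟩ := exists_pairing p (A := A') hrk'
    obtain ⟨c, hc⟩ := exists_coeff p (χ := χ) hu s hs1
    rw [pairing_prod p hu hχ hχp hrk' hϕ' hs1 hc (fun i => θ (x i)) F',
      pairing_prod p hu hχ hχp hrk hϕ hs1 hc x F]
    exact congrArg (c * ·) (Finset.prod_congr rfl fun i _ => (hF i (x i)).symm)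
  · have hne := not_modEq_of_ne p hs1 hs2 ht1 ht2 hst
    rw [dual_eq_comp p hu hrk' (prod_mem p hs1 F'), P_of_mem_ne p hu hp' hχ hne (prod_mem p ht1 fun i => θ (x i)),
      map_zero, dual_eq_comp p hu hrk (prod_mem p hs1 F), P_of_mem_ne p hu hp hχ hne (prod_mem p ht1 x), map_zero]

include hu hχ hχp hrk hrk' in
theorem transpose_eq (θ : OortTate.eigenAug R A p χ 1 ≃ₗ[R] OortTate.eigenAug R A' p χ 1)
    (f : A →ₐ[R] A') (hf : ∀ x : OortTate.eigenAug R A p χ 1, f (x : A) = (θ x : A'))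
    (hfε : ∀ a, Bialgebra.counitAlgHom R A' (f a) = Bialgebra.counitAlgHom R A a)
    (h : CartDual.D R A' →ₐ[R] CartDual.D R A)
    (hh : ∀ φ : OortTate.eigenAug R (CartDual.D R A') p χ 1,
        h (φ : CartDual.D R A') ∈ OortTate.eigenAug R (CartDual.D R A) p χ 1 ∧
        ∀ x : OortTate.eigenAug R A p χ 1,
          (h (φ : CartDual.D R A')).ofConv (x : A) = φ.1.ofConv (θ x : A'))
    (a : A) (Φ : CartDual.D R A') : Φ.ofConv (f a) = (h Φ).ofConv a := by
  revert a
  let S : Submodule R (CartDual.D R A') :=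
    { carrier := {Φ | ∀ a : A, Φ.ofConv (f a) = (h Φ).ofConv a}
      add_mem' := fun {x y} hx hy a => by
        rw [map_add, WithConv.ofConv_add, WithConv.ofConv_add, LinearMap.add_apply, LinearMap.add_apply, hx, hy]
      zero_mem' := fun a => by rw [map_zero]; rfl
      smul_mem' := fun r x hx a => by
        rw [map_smul, WithConv.ofConv_smul, WithConv.ofConv_smul, LinearMap.smul_apply, LinearMap.smul_apply, hx] }
  have hrkD : ∀ q : PrimeSpectrum R, Module.rankAtStalk (CartDual.D R A') q = p := fun q => rank_dual p q hrk'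
  refine span_products (A := CartDual.D R A') p hu hχ hχp hrkD S (fun a => ?_) (fun s hs1 hs2 F => fun a => ?_) Φ
  · rw [map_one]
    show algebraMap R R (Bialgebra.counitAlgHom R A' (f a)) = algebraMap R R (Bialgebra.counitAlgHom R A a)
    rw [hfε]
  have hhG : h (∏ i, (F i : CartDual.D R A')) = ∏ i, h (F i : CartDual.D R A') := map_prod h _ _
  have hGmem := prod_mem p hs1 F
  have hhGmem := prod_mem p hs1 fun i => (⟨h (F i : CartDual.D R A'), (hh (F i)).1⟩ :
    OortTate.eigenAug R (CartDual.D R A) p χ 1)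
  let Sa : Submodule R A :=
    LinearMap.eqLocus ((∏ i, (F i : CartDual.D R A')).ofConv ∘ₗ f.toLinearMap) (∏ i, h (F i : CartDual.D R A')).ofConv
  rw [hhG]
  refine span_products p hu hχ hχp hrk Sa ?_ (fun t ht1 ht2 x => ?_) a
  · show (∏ i, (F i : CartDual.D R A')).ofConv (f 1) = (∏ i, h (F i : CartDual.D R A')).ofConv 1
    rw [map_one]
    exact (((mem_eigenAug p).1 hGmem).1 : _).trans (((mem_eigenAug p).1 hhGmem).1 : _).symm
  show (∏ i, (F i : CartDual.D R A')).ofConv (f (∏ i, (x i : A))) =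
    (∏ i, h (F i : CartDual.D R A')).ofConv (∏ i, (x i : A))
  rw [map_prod f, Finset.prod_congr rfl fun i _ => hf (x i)]
  exact transpose_prod p hu hχ hχp hrk hrk' θ hs1 hs2 ht1 ht2 F (fun i => ⟨_, (hh (F i)).1⟩)
    (fun i => (hh (F i)).2) x

theorem comp_comul_of_transpose (f : A →ₐ[R] A') (h : CartDual.D R A' →ₐ[R] CartDual.D R A)
    (key : ∀ (a : A) (Φ : CartDual.D R A'), Φ.ofConv (f a) = (h Φ).ofConv a) :
    (Algebra.TensorProduct.map f f).comp (Bialgebra.comulAlgHom R A) = (Bialgebra.comulAlgHom R A').comp f := by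
  refine AlgHom.ext fun a => Module.eval_apply_injective R (LinearMap.ext fun φ => ?_)
  obtain ⟨y, rfl⟩ := (CartDual.ev₂ R A').surjective φ
  show CartDual.ev₂ R A' y (Algebra.TensorProduct.map f f (Coalgebra.comul (R := R) a)) =
    CartDual.ev₂ R A' y (Coalgebra.comul (R := R) (f a))
  induction y using TensorProduct.induction_on with
  | zero => simp
  | add p q hp hq => simp only [map_add, LinearMap.add_apply, hp, hq]
  | tmul F G =>
    have h1 : (F * G).ofConv (f a) = (h F * h G).ofConv a := by rw [key, map_mul]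
    rw [LinearMap.convMul_def, LinearMap.convMul_def] at h1
    simp only [ofConv_toConv, LinearMap.comp_apply] at h1
    rw [CartDual.ev₂_tmul_eq', LinearMap.comp_apply, LinearMap.comp_apply, h1]
    generalize Coalgebra.comul (R := R) a = z
    induction z using TensorProduct.induction_on with
    | zero => simp
    | add p q hp hq => simp only [map_add, hp, hq]
    | tmul p q => simp [key]

include hu hχ hχp hrk hrk' in
theorem nonempty_bialgEquiv (θ : OortTate.eigenAug R A p χ 1 ≃ₗ[R] OortTate.eigenAug R A' p χ 1)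
    (hθ : ∀ (f : Fin p → OortTate.eigenAug R A p χ 1) (g : OortTate.eigenAug R A p χ 1),
      (g : A) = ∏ i, (f i : A) → ((θ g : OortTate.eigenAug R A' p χ 1) : A') = ∏ i, ((θ (f i)) : A'))
    (hθD : ∀ (φ : Fin p → OortTate.eigenAug R (CartDual.D R A) p χ 1)
      (φ' : Fin p → OortTate.eigenAug R (CartDual.D R A') p χ 1)
      (ψ : OortTate.eigenAug R (CartDual.D R A) p χ 1) (ψ' : OortTate.eigenAug R (CartDual.D R A') p χ 1),
      (∀ i, ∀ x : OortTate.eigenAug R A p χ 1,
        CartDual.toDual R A (φ i : CartDual.D R A) (x : A) =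
          CartDual.toDual R A' (φ' i : CartDual.D R A') ((θ x : OortTate.eigenAug R A' p χ 1) : A')) →
      (ψ : CartDual.D R A) = ∏ i, (φ i : CartDual.D R A) →
      (ψ' : CartDual.D R A') = ∏ i, (φ' i : CartDual.D R A') →
      ∀ x : OortTate.eigenAug R A p χ 1,
        CartDual.toDual R A (ψ : CartDual.D R A) (x : A) =
          CartDual.toDual R A' (ψ' : CartDual.D R A') ((θ x : OortTate.eigenAug R A' p χ 1) : A')) :
    Nonempty (A ≃ₐc[R] A') := by
  obtain ⟨e, he, heε⟩ := exists_algEquiv p hu hχ hχp hrk hrk' θ hθ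
  obtain ⟨h, hh⟩ := exists_transpose p hu hχ hχp hrk hrk' θ e.toAlgHom he hθD
  exact ⟨BialgEquiv.ofAlgEquiv e (AlgHom.ext heε)
    (comp_comul_of_transpose e.toAlgHom h (transpose_eq p hu hχ hχp hrk hrk' θ e.toAlgHom he heε h hh))⟩

end main

end Groth.Agent.Lib.OT67
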