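import Mathlib.LinearAlgebra.ExteriorPower.Basis
import Mathlib.LinearAlgebra.Matrix.Adjugate
import Mathlib.LinearAlgebra.Matrix.ToLin
import Mathlib.RingTheory.Ideal.Quotient.Operations

/-!
Compound matrices: the matrices of minors, and the ideal of the stabiliser of a coordinate subspace.
-/

open Matrix Module

universe u

namespace Groth.Agent.Lib.OT67.Compound

noncomputable section

variable {n r : ℕ}

/-- The index set of minors. -/
abbrev Idx (n r : ℕ) := Set.powersetCard (Fin n) r

/-- The embedding of a set of indices. -/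
abbrev emb (S : Idx n r) : Fin r → Fin n := fun i => Set.powersetCard.ofFinEmbEquiv.symm S i

variable {X : Type u} [CommRing X]

/-- The matrix of `r`-minors. -/
def compound (r : ℕ) (m : Matrix (Fin n) (Fin n) X) : Matrix (Idx n r) (Idx n r) X :=
  LinearMap.toMatrix ((Pi.basisFun X (Fin n)).exteriorPower r) ((Pi.basisFun X (Fin n)).exteriorPower r)
    (exteriorPower.map r (Matrix.toLin' m))

theorem compound_apply (m : Matrix (Fin n) (Fin n) X) (S T : Idx n r) :
    compound r m S T = (m.submatrix (emb S) (emb T)).det := by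
  classical
  rw [compound, LinearMap.toMatrix_apply, exteriorPower.basis_apply, exteriorPower.ιMulti_family,
    exteriorPower.map_apply_ιMulti, exteriorPower.basis_repr_apply, exteriorPower.ιMultiDual_apply_ιMulti,
    ← Matrix.det_transpose]
  congr 1
  ext i j
  simp [Matrix.toLin'_apply, Matrix.mulVec_single_one]

theorem compound_one : compound r (1 : Matrix (Fin n) (Fin n) X) = 1 := by
  classical
  rw [compound, Matrix.toLin'_one, exteriorPower.map_id, LinearMap.toMatrix_id]

theorem compound_mul (m m' : Matrix (Fin n) (Fin n) X) : compound r (m * m') = compound r m * compound r m' := by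
  classical
  rw [compound, Matrix.toLin'_mul, exteriorPower.map_comp, LinearMap.toMatrix_comp _ ((Pi.basisFun X (Fin n)).exteriorPower r)]
  rfl

theorem compound_map {Y : Type u} [CommRing Y] (f : X →+* Y) (m : Matrix (Fin n) (Fin n) X) :
    compound r (m.map f) = (compound r m).map f := by
  ext S T
  rw [Matrix.map_apply, compound_apply, compound_apply, RingHom.map_det]
  rfl

theorem compound_mul_eq_one {m m' : Matrix (Fin n) (Fin n) X} (h : m * m' = 1) :
    compound r m * compound r m' = 1 := by rw [← compound_mul, h, compound_one]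

/-- The first `r` indices. -/
def topIdx (hrn : r ≤ n) : Idx n r := Set.powersetCard.ofFinEmbEquiv (Fin.castLEOrderEmb hrn)

theorem emb_topIdx (hrn : r ≤ n) (i : Fin r) : emb (topIdx hrn) i = Fin.castLE hrn i := by
  simp [emb, topIdx]

theorem mem_topIdx (hrn : r ≤ n) (i : Fin n) : i ∈ topIdx hrn ↔ (i : ℕ) < r := by
  rw [← Set.powersetCard.mem_range_ofFinEmbEquiv_symm_iff_mem]
  constructor
  · rintro ⟨k, rfl⟩
    show ((emb (topIdx hrn) k : Fin n) : ℕ) < r
    rw [emb_topIdx]
    exact k.2
  · intro h
    exact ⟨⟨i, h⟩, by rw [show Set.powersetCard.ofFinEmbEquiv.symm (topIdx hrn) ⟨i, h⟩ = Fin.castLE hrn ⟨i, h⟩ from emb_topIdx hrn _]; rfl⟩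

/-- The ideal generated by the minors in the column of the first `r` indices, other than the top one, is the ideal
generated by the lower left block. -/
theorem span_minors_eq (hrn : r ≤ n) {m m' : Matrix (Fin n) (Fin n) X} (hinv : m' * m = 1) :
    Ideal.span (Set.range fun S : {S : Idx n r // S ≠ topIdx hrn} => compound r m S.1 (topIdx hrn)) =
      Ideal.span (Set.range fun p : {i : Fin n // r ≤ (i : ℕ)} × Fin r => m p.1.1 (Fin.castLE hrn p.2)) := by
  classical
  set L := Ideal.span (Set.range fun S : {S : Idx n r // S ≠ topIdx hrn} => compound r m S.1 (topIdx hrn))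
  set J := Ideal.span (Set.range fun p : {i : Fin n // r ≤ (i : ℕ)} × Fin r => m p.1.1 (Fin.castLE hrn p.2))
  refine le_antisymm (Ideal.span_le.2 ?_) (Ideal.span_le.2 ?_)
  · rintro _ ⟨⟨S, hS⟩, rfl⟩
    show compound r m S (topIdx hrn) ∈ J
    obtain ⟨i, hiS, hiT⟩ := (Set.powersetCard.exists_mem_notMem_iff_ne S (topIdx hrn)).mp hS
    obtain ⟨k, rfl⟩ := (Set.powersetCard.mem_range_ofFinEmbEquiv_symm_iff_mem S i).mpr hiS
    rw [mem_topIdx, not_lt] at hiT
    rw [compound_apply, ← Ideal.Quotient.eq_zero_iff_mem, RingHom.map_det]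
    refine Matrix.det_eq_zero_of_row_eq_zero k fun j => ?_
    rw [RingHom.mapMatrix_apply, Matrix.map_apply, Matrix.submatrix_apply, Ideal.Quotient.eq_zero_iff_mem, emb_topIdx]
    exact Ideal.subset_span ⟨(⟨_, hiT⟩, j), rfl⟩
  · rintro _ ⟨⟨⟨i, hi⟩, j⟩, rfl⟩
    show m i (Fin.castLE hrn j) ∈ L
    let q := Ideal.Quotient.mk L
    let P : Matrix (Fin r) (Fin r) X := m.submatrix (Fin.castLE hrn) (Fin.castLE hrn)
    have hL : ∀ S : Idx n r, S ≠ topIdx hrn → q (compound r m S (topIdx hrn)) = 0 := fun S hS =>
      Ideal.Quotient.eq_zero_iff_mem.2 (Ideal.subset_span ⟨⟨S, hS⟩, rfl⟩)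
    have htop : compound r m (topIdx hrn) (topIdx hrn) = P.det := by
      rw [compound_apply]
      congr 1
      ext a b
      simp [P, emb_topIdx]
    have hunit : IsUnit (q P.det) := by
      have h := congrArg (fun M : Matrix (Idx n r) (Idx n r) X => q (M (topIdx hrn) (topIdx hrn)))
        (compound_mul_eq_one (r := r) hinv)
      simp only [Matrix.mul_apply, map_sum, map_mul, Matrix.one_apply_eq, map_one] at h
      rw [Finset.sum_eq_single (topIdx hrn) (fun S _ hS => by rw [hL S hS, mul_zero]) (by simp), htop] at h
      exact IsUnit.of_mul_eq_one_right _ h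
    have hrow : ∀ k, q ((P.updateRow k fun b => m i (Fin.castLE hrn b)).det) = 0 := fun k => by
      let f : Fin r → Fin n := Function.update (Fin.castLE hrn) k i
      have hP : (P.updateRow k fun b => m i (Fin.castLE hrn b)) = m.submatrix f (Fin.castLE hrn) := by
        ext a b
        by_cases ha : a = k
        · subst ha; simp [f]
        · simp [f, P, ha]
      have hf : Function.Injective f := by
        intro a b hab
        have key : ∀ a, a ≠ k → f a ≠ i := fun a ha h => by
          rw [show f a = Fin.castLE hrn a from Function.update_of_ne ha _ _] at h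
          have := congrArg Fin.val h
          simp at this
          omega
        by_cases ha : a = k
        · by_cases hb : b = k
          · rw [ha, hb]
          · exact absurd (hab.symm.trans (by simp [f, ha])) (key b hb)
        · by_cases hb : b = k
          · exact absurd (hab.trans (by simp [f, hb])) (key a ha)
          · simpa [f, ha, hb] using hab
      let S : Idx n r := ⟨Finset.univ.map ⟨f, hf⟩, by simp⟩
      have hmemS : ∀ x, x ∈ S ↔ ∃ a, f a = x := fun x => by simp [S, Set.powersetCard.mem_coe_iff.symm]
      have hS : S ≠ topIdx hrn := fun h => by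
        have h1 : i ∈ S := (hmemS i).2 ⟨k, by simp [f]⟩
        rw [h, mem_topIdx] at h1
        omega
      have hσ : ∀ a, ∃ c, emb S c = f a := fun a =>
        (Set.powersetCard.mem_range_ofFinEmbEquiv_symm_iff_mem S _).mpr ((hmemS _).2 ⟨a, rfl⟩)
      choose σ hσ using hσ
      have hσi : Function.Injective σ := fun a b h => hf (by rw [← hσ a, ← hσ b, h])
      let π : Equiv.Perm (Fin r) := Equiv.ofBijective σ ((Finite.injective_iff_bijective).1 hσi)
      rw [hP, show m.submatrix f (Fin.castLE hrn) = (m.submatrix (emb S) (emb (topIdx hrn))).submatrix π id from by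
        ext a b; simp [π, hσ, emb_topIdx], Matrix.det_permute, map_mul, ← compound_apply, hL S hS, mul_zero]
    let v : Fin r → X := fun b => m i (Fin.castLE hrn b)
    have hc : ∀ k, q (cramer Pᵀ v k) = 0 := fun k => by rw [cramer_transpose_apply]; exact hrow k
    have h := congrArg (fun w : Fin r → X => q (w j)) (Matrix.mulVec_cramer Pᵀ v)
    simp only [Matrix.mulVec, dotProduct, map_sum, map_mul, hc, mul_zero, Finset.sum_const_zero, Pi.smul_apply,
      smul_eq_mul, det_transpose] at h
    rw [← Ideal.Quotient.eq_zero_iff_mem]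
    exact hunit.mul_left_cancel (by rw [mul_zero]; exact h.symm)

end

end Groth.Agent.Lib.OT67.Compound
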