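import Groth.Agent.Lib.OT67.Averaging
import Mathlib

/-!
Homomorphisms from a group of multiplicative type to a smooth group which agree modulo a nilpotent ideal are conjugate.
-/

open TensorProduct WithConv

set_option linter.style.haveILetI false

universe u

namespace Groth.Agent.Lib.OT67.Conjugacy

noncomputable section

open Groth.Agent.H83.MultType Averaging

variable {R : Type u} [CommRing R] {C : Type u} [CommRing C] [HopfAlgebra R C]

/-- A rational point seen in an algebra. -/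
def const (T : Type u) [CommRing T] [Algebra R T] : WithConv (C →ₐ[R] R) →* WithConv (C →ₐ[R] T) :=
  push (Algebra.ofId R T)

theorem push_const {T T' : Type u} [CommRing T] [Algebra R T] [CommRing T'] [Algebra R T'] (h : T →ₐ[R] T')
    (a : WithConv (C →ₐ[R] R)) : push h (const T a) = const T' a := by
  apply WithConv.ofConv_injective
  exact AlgHom.ext fun c => h.commutes _

variable {A : Type u} [CommRing A] [HopfAlgebra R A]

/-- Being a homomorphism of groups, on points. -/
def IsHom (W : WithConv (C →ₐ[R] A)) : Prop :=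
  push (Bialgebra.comulAlgHom R A) W = push Algebra.TensorProduct.includeLeft W * push Algebra.TensorProduct.includeRight W ∧
    push (Bialgebra.counitAlgHom R A) W = 1

theorem mul_push_apply (W : WithConv (C →ₐ[R] A)) (c : C) :
    ((push (Algebra.TensorProduct.includeLeft : A →ₐ[R] A ⊗[R] A) W * push Algebra.TensorProduct.includeRight W :
      WithConv (C →ₐ[R] A ⊗[R] A))).ofConv c = Algebra.TensorProduct.map W.ofConv W.ofConv (CoalgebraStruct.comul (R := R) c) := by
  obtain ⟨s, hs⟩ := TensorProduct.exists_finset (CoalgebraStruct.comul (R := R) c)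
  rw [mul_apply _ _ hs, hs, _root_.map_sum]
  refine Finset.sum_congr rfl fun i _ => ?_
  simp [push_apply]

theorem isHom_of_bialgHom (f : C →ₐc[R] A) : IsHom (toConv (f : C →ₐ[R] A)) := by
  refine ⟨WithConv.ofConv_injective (AlgHom.ext fun c => ?_), WithConv.ofConv_injective (AlgHom.ext fun c => ?_)⟩
  · rw [mul_push_apply]
    exact (CoalgHomClass.map_comp_comul_apply f c).symm
  · exact CoalgHomClass.counit_comp_apply f c

theorem exists_bialgHom_of_isHom {W : WithConv (C →ₐ[R] A)} (hW : IsHom W) : ∃ f : C →ₐc[R] A, ∀ c, f c = W.ofConv c := by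
  refine ⟨BialgHom.ofAlgHom W.ofConv (congrArg WithConv.ofConv hW.2) (AlgHom.ext fun c => ?_), fun c => rfl⟩
  show Algebra.TensorProduct.map W.ofConv W.ofConv (CoalgebraStruct.comul (R := R) c) = _
  rw [← mul_push_apply, ← hW.1]
  rfl

theorem IsHom.conj {W : WithConv (C →ₐ[R] A)} (hW : IsHom W) (a : WithConv (C →ₐ[R] R)) :
    IsHom (const A a * W * (const A a)⁻¹) := by
  refine ⟨?_, ?_⟩
  · simp only [_root_.map_mul, map_inv, push_const, hW.1]
    group
  · simp only [_root_.map_mul, map_inv, push_const, hW.2]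
    group

/-- Congruence modulo an ideal, for points. -/
def red (J : Ideal R) (T : Type u) [CommRing T] [Algebra R T] :
    WithConv (C →ₐ[R] T) →* WithConv (C →ₐ[R] T ⧸ J.map (algebraMap R T)) :=
  push (Ideal.Quotient.mkₐ R (J.map (algebraMap R T)))

theorem red_eq_iff {J : Ideal R} {T : Type u} [CommRing T] [Algebra R T] {u v : WithConv (C →ₐ[R] T)} :
    red J T u = red J T v ↔ ∀ c, u.ofConv c - v.ofConv c ∈ (J • ⊤ : Submodule R T) := by
  rw [Ideal.smul_top_eq_map]
  constructor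
  · intro h c
    exact Ideal.Quotient.eq.1 (DFunLike.congr_fun (congrArg WithConv.ofConv h) c)
  · intro h
    exact WithConv.ofConv_injective (AlgHom.ext fun c => Ideal.Quotient.eq.2 (h c))

theorem red_const {J : Ideal R} (T : Type u) [CommRing T] [Algebra R T] {a : WithConv (C →ₐ[R] R)}
    (ha : red J R a = 1) : red J T (const T a) = 1 := by
  rw [← map_one (red J R), red_eq_iff] at ha
  rw [← map_one (red J T), red_eq_iff]
  intro c
  have := map_mem_of_mem_smul (Algebra.linearMap R T) (ha c)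
  rw [_root_.map_sub] at this
  exact this

theorem red_le {J K : Ideal R} (hKJ : K ≤ J) {T : Type u} [CommRing T] [Algebra R T] {u v : WithConv (C →ₐ[R] T)}
    (h : red K T u = red K T v) : red J T u = red J T v := by
  rw [red_eq_iff] at h ⊢
  exact fun c => Submodule.smul_mono_left hKJ (h c)

set_option maxHeartbeats 1000000 in
/-- One step: two homomorphisms congruent modulo `J` are conjugate modulo `J ^ 2`. -/
theorem exists_step {ε : A →ₗ[R] R} (hε : IsInvariant ε) [Algebra.Smooth R C] {J : Ideal R} (hJ : IsNilpotent J)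
    {V W : WithConv (C →ₐ[R] A)} (hV : IsHom V) (hW : IsHom W) (hVW : red J A W = red J A V) :
    ∃ a : WithConv (C →ₐ[R] R), red J R a = 1 ∧ red (J ^ 2) A (const A a * W * (const A a)⁻¹) = red (J ^ 2) A V := by
  classical
  let g := V * W⁻¹
  have hg1 : red J A g = 1 := by simp only [g, _root_.map_mul, map_inv, hVW]; exact mul_inv_cancel (G := WithConv (C →ₐ[R] A ⧸ J.map (algebraMap R A))) _
  rw [← map_one (red J A), red_eq_iff] at hg1
  let Δ : A →ₐ[R] A ⊗[R] A := Bialgebra.comulAlgHom R A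
  let i₁ : A →ₐ[R] A ⊗[R] A := Algebra.TensorProduct.includeLeft
  let i₂ : A →ₐ[R] A ⊗[R] A := Algebra.TensorProduct.includeRight
  have hkey : push Δ g * push i₁ W = push i₁ V * push i₂ g := by
    simp only [g, Δ, i₁, i₂, _root_.map_mul, map_inv, hV.1, hW.1]
    group
  let P : A ⊗[R] A →ₗ[R] A := (TensorProduct.rid R A).toLinearMap ∘ₗ LinearMap.lTensor A ε
  have hP : ∀ a b, P (a ⊗ₜ b) = ε b • a := fun a b => by simp [P]
  have hPmul : ∀ t z, P (i₁ t * z) = t * P z := fun t z => by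
    induction z using TensorProduct.induction_on with
    | zero => simp
    | tmul a b => simp [i₁, hP, Algebra.TensorProduct.tmul_mul_tmul]
    | add p q hp hq => simp only [mul_add, _root_.map_add, hp, hq]
  have hPΔ : ∀ a, P (Δ a) = ε a • (1 : A) := fun a => by
    have h := congrArg (TensorProduct.lid R A) (hε.right a)
    rw [TensorProduct.lid_tmul] at h
    refine Eq.trans ?_ h
    show P (CoalgebraStruct.comul (R := R) a) = _
    generalize CoalgebraStruct.comul (R := R) a = z
    induction z using TensorProduct.induction_on with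
    | zero => simp
    | tmul a b => simp [hP]
    | add p q hp hq => simp only [_root_.map_add, hp, hq]
  -- the averaged point
  let ā : C → R := fun c => ε (g.ofConv c)
  have hε' : ∀ (r : R) (z : A), ε (Algebra.ofId R A r * z) = r * ε z := fun r z => by
    rw [Algebra.ofId_apply, ← Algebra.smul_def, _root_.map_smul, smul_eq_mul]
  have hε1 : ∀ r : R, ε (algebraMap R A r) = r := fun r => by simpa [hε.one] using hε' r 1
  have hnear : ∀ c, ā c - CoalgebraStruct.counit (R := R) c ∈ J := fun c => by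
    have h := map_mem_of_mem_smul ε (hg1 c)
    rw [_root_.map_sub, show (1 : WithConv (C →ₐ[R] A)).ofConv c = algebraMap R A (CoalgebraStruct.counit (R := R) c) from rfl,
      hε1, smul_eq_mul, Ideal.mul_top] at h
    exact h
  have hmul : ∀ x y, ā (x * y) - ā x * ā y ∈ J ^ 2 := fun x y => by
    have h := map_mul_near (Algebra.ofId R A) ε hε' hε.one (x₀ := CoalgebraStruct.counit (R := R) x)
      (y₀ := CoalgebraStruct.counit (R := R) y) (hg1 x) (hg1 y)
    rw [smul_eq_mul, Ideal.mul_top, ← _root_.map_mul] at h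
    exact h
  let a₁ : C →ₐ[R] R ⧸ J ^ 2 := AlgHom.ofLinearMap
    ((Ideal.Quotient.mkₐ R (J ^ 2)).toLinearMap ∘ₗ ε ∘ₗ g.ofConv.toLinearMap)
    (by show Ideal.Quotient.mk (J ^ 2) (ε (g.ofConv 1)) = 1; rw [_root_.map_one, hε.one, _root_.map_one])
    (fun x y => by
      show Ideal.Quotient.mk (J ^ 2) (ā (x * y)) = Ideal.Quotient.mk (J ^ 2) (ā x) * Ideal.Quotient.mk (J ^ 2) (ā y)
      rw [← _root_.map_mul, Ideal.Quotient.eq]
      exact hmul x y)
  obtain ⟨a₀, ha₀⟩ := Algebra.FormallySmooth.exists_lift (J ^ 2) (hJ.pow_of_pos two_ne_zero) a₁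
  have ha : ∀ c, a₀ c - ā c ∈ J ^ 2 := fun c => Ideal.Quotient.eq.1 (DFunLike.congr_fun ha₀ c)
  refine ⟨toConv a₀, ?_, ?_⟩
  · rw [← map_one (red J R), red_eq_iff]
    intro c
    rw [smul_eq_mul, Ideal.mul_top]
    have h := J.add_mem (Ideal.pow_le_self two_ne_zero (ha c)) (hnear c)
    rw [sub_add_sub_cancel] at h
    exact h
  · have hcomm : red (J ^ 2) A (const A (toConv a₀) * W) = red (J ^ 2) A (V * const A (toConv a₀)) := by
      rw [red_eq_iff]
      intro c
      obtain ⟨s, hs⟩ := TensorProduct.exists_finset (CoalgebraStruct.comul (R := R) c)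
      have hk := congrArg P (DFunLike.congr_fun (congrArg WithConv.ofConv hkey) c)
      rw [mul_apply _ _ hs, mul_apply _ _ hs, _root_.map_sum, _root_.map_sum] at hk
      simp only [push_apply, mul_comm (Δ _) (i₁ _), hPmul, hPΔ] at hk
      have hR : ∀ i : C × C, P (i₂ (g.ofConv i.2)) = ε (g.ofConv i.2) • (1 : A) := fun i => by simp [i₂, hP]
      simp only [hR] at hk
      rw [mul_apply _ _ hs, mul_apply _ _ hs]
      have h1 : ∑ i ∈ s, (const A (toConv a₀)).ofConv i.1 * W.ofConv i.2 - ∑ i ∈ s, W.ofConv i.2 * (ε (g.ofConv i.1) • (1 : A)) ∈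
          ((J ^ 2) • ⊤ : Submodule R A) := by
        rw [← Finset.sum_sub_distrib]
        refine Submodule.sum_mem _ fun i _ => ?_
        show algebraMap R A (a₀ i.1) * W.ofConv i.2 - _ ∈ _
        rw [mul_comm (W.ofConv i.2), ← Algebra.algebraMap_eq_smul_one, ← sub_mul, ← _root_.map_sub, ← Algebra.smul_def]
        exact Submodule.smul_mem_smul (ha _) Submodule.mem_top
      have h2 : ∑ i ∈ s, V.ofConv i.1 * (ε (g.ofConv i.2) • (1 : A)) - ∑ i ∈ s, V.ofConv i.1 * (const A (toConv a₀)).ofConv i.2 ∈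
          ((J ^ 2) • ⊤ : Submodule R A) := by
        rw [← Finset.sum_sub_distrib]
        refine Submodule.sum_mem _ fun i _ => ?_
        show _ - V.ofConv i.1 * algebraMap R A (a₀ i.2) ∈ _
        rw [← Algebra.algebraMap_eq_smul_one, mul_comm (V.ofConv i.1), mul_comm (V.ofConv i.1), ← sub_mul, ← _root_.map_sub, ← Algebra.smul_def]
        refine Submodule.smul_mem_smul ?_ Submodule.mem_top
        rw [← neg_sub]
        exact neg_mem (ha _)
      rw [← hk] at h2
      have := add_mem h1 h2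
      rwa [sub_add_sub_cancel] at this
    rw [_root_.map_mul, hcomm, map_inv, _root_.map_mul]
    exact mul_inv_cancel_right (G := WithConv (C →ₐ[R] A ⧸ (J ^ 2).map (algebraMap R A))) _ _

/-- Homomorphisms which agree modulo a nilpotent ideal are conjugate. -/
theorem exists_conj {ε : A →ₗ[R] R} (hε : IsInvariant ε) [Algebra.Smooth R C] {V : WithConv (C →ₐ[R] A)} (hV : IsHom V) :
    ∀ (n : ℕ) (J : Ideal R), J ^ 2 ^ n = ⊥ → ∀ W : WithConv (C →ₐ[R] A), IsHom W → red J A W = red J A V →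
      ∃ a : WithConv (C →ₐ[R] R), red J R a = 1 ∧ const A a * W * (const A a)⁻¹ = V := by
  intro n
  induction n with
  | zero =>
    intro J hJ W _ h
    rw [pow_zero, pow_one] at hJ
    refine ⟨1, map_one _, ?_⟩
    rw [map_one, inv_one, one_mul, mul_one]
    rw [red_eq_iff] at h
    refine WithConv.ofConv_injective (AlgHom.ext fun c => sub_eq_zero.1 ?_)
    simpa [hJ] using h c
  | succ n ih =>
    intro J hJ W hW h
    obtain ⟨a, ha, hstep⟩ := exists_step hε ⟨2 ^ (n + 1), hJ⟩ hV hW h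
    obtain ⟨b, hb, hfin⟩ := ih (J ^ 2) (by rw [← pow_mul, mul_comm, ← pow_succ]; exact hJ) _ (hW.conj a) hstep
    refine ⟨b * a, ?_, ?_⟩
    · rw [← map_one (red (J ^ 2) R)] at hb
      rw [_root_.map_mul, red_le (Ideal.pow_le_self two_ne_zero) hb, map_one, one_mul, ha]
    · rw [← hfin, _root_.map_mul, mul_inv_rev]
      group

/-- The relative lifting. -/
theorem exists_lift {I : Ideal R} (hI : IsNilpotent I) (h₁ : SGA3b.IsMultType R A) {A₂ : Type u} [CommRing A₂]
    [HopfAlgebra R A₂] [Algebra.Smooth R C] (α : A₂ →ₐc[R] A) (β : C →ₐc[R] A)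
    (γ₀ : ((R ⧸ I) ⊗[R] C) →ₐc[R ⧸ I] ((R ⧸ I) ⊗[R] A₂)) (γ : C →ₐc[R] A₂)
    (hγ : ∀ c, γ₀ ((1 : R ⧸ I) ⊗ₜ[R] c) = (1 : R ⧸ I) ⊗ₜ[R] (γ c))
    (h0 : ∀ c : C, Algebra.TensorProduct.map (AlgHom.id (R ⧸ I) (R ⧸ I)) (α : A₂ →ₐ[R] A) (γ₀ ((1 : R ⧸ I) ⊗ₜ[R] c)) =
      (1 : R ⧸ I) ⊗ₜ[R] (β c)) :
    ∃ γ' : C →ₐc[R] A₂, (∀ c : C, γ₀ ((1 : R ⧸ I) ⊗ₜ[R] c) = (1 : R ⧸ I) ⊗ₜ[R] (γ' c)) ∧ ∀ c : C, α (γ' c) = β c := by
  obtain ⟨ε, hε⟩ := exists_invariant h₁
  obtain ⟨n, hn⟩ := hI
  have hn' : I ^ 2 ^ n = ⊥ := le_bot_iff.1 ((Ideal.pow_le_pow_right n.lt_two_pow_self.le).trans hn.le)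
  let W₂ : WithConv (C →ₐ[R] A₂) := toConv (γ : C →ₐ[R] A₂)
  have hagree : red I A (toConv ((α.comp γ : C →ₐc[R] A) : C →ₐ[R] A)) = red I A (toConv (β : C →ₐ[R] A)) := by
    rw [red_eq_iff]
    intro c
    have h := h0 c
    rw [hγ, Algebra.TensorProduct.map_tmul, ← sub_eq_zero] at h
    rw [← HomMod.one_tmul_eq_zero_iff, TensorProduct.tmul_sub]
    exact h
  obtain ⟨a, ha, hconj⟩ := exists_conj hε (isHom_of_bialgHom β) n I hn' _ (isHom_of_bialgHom (α.comp γ)) hagree
  obtain ⟨γ', hγ'⟩ := exists_bialgHom_of_isHom ((isHom_of_bialgHom γ).conj a)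
  refine ⟨γ', fun c => ?_, fun c => ?_⟩
  · have h : red I A₂ (const A₂ a * W₂ * (const A₂ a)⁻¹) = red I A₂ W₂ := by
      rw [_root_.map_mul, map_inv, _root_.map_mul, red_const A₂ ha, inv_one, one_mul, mul_one]
    rw [hγ, ← sub_eq_zero, ← TensorProduct.tmul_sub, HomMod.one_tmul_eq_zero_iff, hγ', ← neg_sub]
    exact neg_mem (red_eq_iff.1 h c)
  · have h : push (α : A₂ →ₐ[R] A) (const A₂ a * W₂ * (const A₂ a)⁻¹) = toConv (β : C →ₐ[R] A) := by
      rw [_root_.map_mul, map_inv, _root_.map_mul, push_const]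
      exact hconj
    rw [hγ']
    exact DFunLike.congr_fun (congrArg WithConv.ofConv h) c

end

end Groth.Agent.Lib.OT67.Conjugacy
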