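import Groth.Agent.Lib.OT67.FinQuotNormal
import Groth.Agent.Lib.OT67.RankMul
import Groth.Prelude.Def_CartDual2
import Mathlib

/-!
Cartier duality preserves exact sequences of finite locally free group schemes.
-/

open TensorProduct WithConv

set_option linter.style.haveILetI false

universe u

namespace Groth.Agent.Lib.OT67.DualExact

noncomputable section

theorem antipode_comm {R : Type*} [CommRing R] {A B : Type*} [CommRing A] [CommRing B] [HopfAlgebra R A]
    [HopfAlgebra R B] (φ : A →ₐc[R] B) :
    (φ : A →ₐ[R] B).comp (HopfAlgebra.antipodeAlgHom R A) = (HopfAlgebra.antipodeAlgHom R B).comp (φ : A →ₐ[R] B) := by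
  apply WithConv.toConv_injective
  refine left_inv_eq_right_inv (FinQuot.conv_antipode_mul (φ : A →ₐ[R] B)) ?_
  have h := congrArg (fun x => toConv (x.ofConv.comp (φ : A →ₐ[R] B)))
    (FinQuot.conv_mul_antipode (AlgHom.id R B))
  simp only [AlgHom.convMul_comp_bialgHom_distrib, WithConv.toConv_ofConv, WithConv.ofConv_toConv,
    AlgHom.id_comp] at h
  refine h.trans (WithConv.ofConv_injective (AlgHom.ext fun a => ?_))
  simp only [WithConv.ofConv_toConv, AlgHom.comp_apply, AlgHom.convOne_apply]
  congr 1
  exact CoalgHomClass.counit_comp_apply φ a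

theorem ker_isHopfIdeal {R : Type*} [CommRing R] {A B : Type*} [CommRing A] [CommRing B] [HopfAlgebra R A]
    [HopfAlgebra R B] (φ : A →ₐc[R] B) (hφ : Function.Surjective φ) :
    (RingHom.ker (φ : A →ₐ[R] B)).IsHopfIdeal R := by
  let P := RingHom.ker (φ : A →ₐ[R] B)
  let e : (A ⧸ P) ≃ₐ[R] B := Ideal.quotientKerAlgEquivOfSurjective (f := (φ : A →ₐ[R] B)) hφ
  refine { counit_eq_zero := fun x hx => ?_, map_mkQ_comul_eq_zero := fun x hx => ?_, antipode_mem := fun x hx => ?_ }
  · have hx' : φ x = 0 := hx
    rw [← CoalgHomClass.counit_comp_apply φ x, hx', map_zero]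
  · have hx' : φ x = 0 := hx
    show Algebra.TensorProduct.map (Ideal.Quotient.mkₐ R P) (Ideal.Quotient.mkₐ R P) (Coalgebra.comul (R := R) x) = 0
    apply (Algebra.TensorProduct.congr e e).injective
    rw [map_zero]
    have h : ∀ z, Algebra.TensorProduct.congr e e
        (Algebra.TensorProduct.map (Ideal.Quotient.mkₐ R P) (Ideal.Quotient.mkₐ R P) z) =
        TensorProduct.map (φ : A →ₗ[R] B) (φ : A →ₗ[R] B) z := by
      intro z
      induction z using TensorProduct.induction_on with
      | zero => simp
      | add p q hp hq => simp only [map_add, hp, hq]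
      | tmul p q =>
        simp only [Algebra.TensorProduct.map_tmul, Ideal.Quotient.mkₐ_eq_mk, TensorProduct.map_tmul]
        rfl
    rw [h, CoalgHomClass.map_comp_comul_apply, hx', map_zero]
  · show (φ : A →ₐ[R] B) (HopfAlgebra.antipodeAlgHom R A x) = 0
    rw [← AlgHom.comp_apply, antipode_comm, AlgHom.comp_apply, (show (φ : A →ₐ[R] B) x = 0 from hx), map_zero]

theorem flat_quotient {R : Type u} [CommRing R] {N M : Type u} [AddCommGroup N] [Module R N] [AddCommGroup M]
    [Module R M] [Module.Flat R M] (f : N →ₗ[R] M)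
    (huniv : ∀ (P : Type u) [AddCommGroup P] [Module R P], Function.Injective (LinearMap.lTensor P f)) :
    Module.Flat R (M ⧸ LinearMap.range f) := by
  let g := (LinearMap.range f).mkQ
  have hex : Function.Exact f g := LinearMap.exact_map_mkQ_range f
  have hg : Function.Surjective g := Submodule.mkQ_surjective _
  rw [Module.Flat.iff_rTensor_injective']
  intro J
  refine (injective_iff_map_eq_zero _).2 fun z hz => ?_
  obtain ⟨w, rfl⟩ := LinearMap.lTensor_surjective J hg z
  rw [← LinearMap.comp_apply, LinearMap.rTensor_comp_lTensor, ← LinearMap.lTensor_comp_rTensor,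
    LinearMap.comp_apply] at hz
  obtain ⟨v, hv⟩ := (lTensor_exact R hex hg _).1 hz
  have h1 : LinearMap.lTensor (R ⧸ J) f (LinearMap.rTensor N J.mkQ v) = 0 := by
    rw [← LinearMap.comp_apply, LinearMap.lTensor_comp_rTensor, ← LinearMap.rTensor_comp_lTensor, LinearMap.comp_apply,
      hv, ← LinearMap.comp_apply, ← LinearMap.rTensor_comp,
      show J.mkQ ∘ₗ J.subtype = 0 from (LinearMap.exact_subtype_mkQ J).linearMap_comp_eq_zero,
      LinearMap.rTensor_zero, LinearMap.zero_apply]
  obtain ⟨u, rfl⟩ := (rTensor_exact N (LinearMap.exact_subtype_mkQ J) (Submodule.mkQ_surjective J) v).1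
    (huniv (R ⧸ J) (h1.trans (map_zero _).symm))
  have h2 : w = LinearMap.lTensor J f u := by
    refine Module.Flat.rTensor_preserves_injective_linearMap J.subtype Subtype.val_injective ?_
    rw [← hv, ← LinearMap.comp_apply, LinearMap.lTensor_comp_rTensor, ← LinearMap.rTensor_comp_lTensor,
      LinearMap.comp_apply]
  rw [h2, ← LinearMap.comp_apply, ← LinearMap.lTensor_comp, hex.linearMap_comp_eq_zero, LinearMap.lTensor_zero,
    LinearMap.zero_apply]

variable (R : Type u) [CommRing R] (A' A A'' : Type u) [CommRing A'] [HopfAlgebra R A'] [Coalgebra.IsCocomm R A']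
  [Module.Finite R A'] [Module.Projective R A'] [CommRing A] [HopfAlgebra R A] [Coalgebra.IsCocomm R A]
  [Module.Finite R A] [Module.Projective R A] [CommRing A''] [HopfAlgebra R A''] [Coalgebra.IsCocomm R A'']
  [Module.Finite R A''] [Module.Projective R A'']

theorem exists_retraction (f : A'' →ₐc[R] A) (hf : (f : A'' →ₐ[R] A).toRingHom.FaithfullyFlat) :
    ∃ r : A →ₗ[R] A'', r.comp (f : A'' →ₗ[R] A) = LinearMap.id := by
  letI := (f : A'' →ₐ[R] A).toRingHom.toAlgebra
  haveI : Module.FaithfullyFlat A'' A := hf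
  haveI : IsScalarTower R A'' A := IsScalarTower.of_algebraMap_eq fun r => ((f : A'' →ₐ[R] A).commutes r).symm
  have hinj : Function.Injective (f : A'' →ₗ[R] A) := RingHom.FaithfullyFlat.injective hf
  have huniv : ∀ (M : Type u) [AddCommGroup M] [Module R M],
      Function.Injective (LinearMap.rTensor M (f : A'' →ₗ[R] A)) := by
    intro M _ _ x y hxy
    have h : ∀ z, AlgebraTensorModule.cancelBaseChange R A'' A A M ((1 : A) ⊗ₜ[A''] z) =
        LinearMap.rTensor M (f : A'' →ₗ[R] A) z := by
      intro z
      induction z using TensorProduct.induction_on with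
      | zero => simp
      | add p q hp hq => rw [tmul_add, map_add, map_add, hp, hq]
      | tmul b m =>
        simp only [AlgebraTensorModule.cancelBaseChange_tmul, LinearMap.rTensor_tmul, Algebra.smul_def, mul_one]
        rfl
    rw [← h, ← h] at hxy
    exact Module.FaithfullyFlat.tensorProduct_mk_injective (A := A'') (B := A) _
      ((AlgebraTensorModule.cancelBaseChange R A'' A A M).injective hxy)
  have huniv' : ∀ (M : Type u) [AddCommGroup M] [Module R M],
      Function.Injective (LinearMap.lTensor M (f : A'' →ₗ[R] A)) := by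
    intro M _ _ x y hxy
    refine (TensorProduct.comm R M A'').injective (huniv M ?_)
    have h : ∀ z, LinearMap.rTensor M (f : A'' →ₗ[R] A) (TensorProduct.comm R M A'' z) =
        TensorProduct.comm R M A (LinearMap.lTensor M (f : A'' →ₗ[R] A) z) := by
      intro z
      induction z using TensorProduct.induction_on with
      | zero => simp
      | add p q hp hq => simp only [map_add, hp, hq]
      | tmul p q => simp
    rw [h, h, hxy]
  haveI : Module.Flat R (A ⧸ LinearMap.range (f : A'' →ₗ[R] A)) := flat_quotient _ huniv'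
  haveI : Module.FinitePresentation R A := Module.finitePresentation_of_projective R A
  haveI : Module.FinitePresentation R (A ⧸ LinearMap.range (f : A'' →ₗ[R] A)) :=
    Module.finitePresentation_of_surjective (LinearMap.range (f : A'' →ₗ[R] A)).mkQ (Submodule.mkQ_surjective _)
      (by rw [Submodule.ker_mkQ]; exact Module.Finite.iff_fg.1 inferInstance)
  haveI : Module.Projective R (A ⧸ LinearMap.range (f : A'' →ₗ[R] A)) :=
    Module.Flat.projective_of_finitePresentation
  obtain ⟨s, hs⟩ := Module.projective_lifting_property (LinearMap.range (f : A'' →ₗ[R] A)).mkQ LinearMap.id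
    (Submodule.mkQ_surjective _)
  let q : A →ₗ[R] LinearMap.range (f : A'' →ₗ[R] A) :=
    (LinearMap.id - s ∘ₗ (LinearMap.range (f : A'' →ₗ[R] A)).mkQ).codRestrict _ fun a => by
      rw [← Submodule.Quotient.mk_eq_zero, ← Submodule.mkQ_apply]
      simp only [LinearMap.sub_apply, LinearMap.id_apply, LinearMap.comp_apply, map_sub]
      exact sub_eq_zero.2 (LinearMap.congr_fun hs _).symm
  refine ⟨(LinearEquiv.ofInjective (f : A'' →ₗ[R] A) hinj).symm.toLinearMap.comp q, LinearMap.ext fun a => ?_⟩
  show (LinearEquiv.ofInjective (f : A'' →ₗ[R] A) hinj).symm (q ((f : A'' →ₗ[R] A) a)) = a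
  rw [LinearEquiv.symm_apply_eq]
  refine Subtype.ext ?_
  show (f : A'' →ₗ[R] A) a - s ((LinearMap.range (f : A'' →ₗ[R] A)).mkQ ((f : A'' →ₗ[R] A) a)) = (f : A'' →ₗ[R] A) a
  rw [Submodule.mkQ_apply, (Submodule.Quotient.mk_eq_zero _).2 (LinearMap.mem_range_self _ a), map_zero, sub_zero]

/-- The pairing of the tensor product of two duals with the tensor product. -/
def pair : CartDual.D R A ⊗[R] CartDual.D R A'' ≃ₗ[R] Module.Dual R (A ⊗[R] A'') :=
  TensorProduct.congr (CartDual.toDual R A) (CartDual.toDual R A'') ≪≫ₗ CartDual.dualTensorEquiv R A A''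

theorem pair_tmul (x : CartDual.D R A) (y : CartDual.D R A'') (a : A) (a'' : A'') :
    pair R A A'' (x ⊗ₜ y) (a ⊗ₜ a'') = x a * y a'' := by
  simp [pair, CartDual.coe_apply]

theorem pair_lTensor_comul (f : A'' →ₐc[R] A) (x : CartDual.D R A) (a : A) (a'' : A'') :
    pair R A A'' (LinearMap.lTensor (CartDual.D R A) (CartDual.transposeLin R (f : A'' →ₗ[R] A))
      (Coalgebra.comul (R := R) x)) (a ⊗ₜ a'') = x (a * f a'') := by
  have h : ∀ z, pair R A A'' (LinearMap.lTensor (CartDual.D R A) (CartDual.transposeLin R (f : A'' →ₗ[R] A)) z)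
      (a ⊗ₜ a'') = CartDual.ev₂ R A z (a ⊗ₜ f a'') := by
    intro z
    induction z using TensorProduct.induction_on with
    | zero => simp
    | add p q hp hq => simp only [map_add, LinearMap.add_apply, hp, hq]
    | tmul p q =>
      rw [LinearMap.lTensor_tmul, pair_tmul, CartDual.ev₂_tmul]
      rfl
  rw [h, CartDual.ev₂_coalgebra_comul_tmul]

theorem result (f : A'' →ₐc[R] A) (hf : (f : A'' →ₐ[R] A).toRingHom.FaithfullyFlat)
    (g : A →ₐc[R] A') (hg : Function.Surjective g)
    (hker : RingHom.ker (g : A →ₐ[R] A') = Ideal.map (f : A'' →ₐ[R] A) (RingHom.ker (Bialgebra.counitAlgHom R A''))) :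
    (CartDual.transpose R g : CartDual.D R A' →ₐ[R] CartDual.D R A).toRingHom.FaithfullyFlat ∧
      Function.Surjective (CartDual.transpose R f) ∧
      RingHom.ker (CartDual.transpose R f : CartDual.D R A →ₐ[R] CartDual.D R A'') =
        Ideal.map (CartDual.transpose R g : CartDual.D R A' →ₐ[R] CartDual.D R A)
          (RingHom.ker (Bialgebra.counitAlgHom R (CartDual.D R A'))) := by
  classical
  obtain ⟨r, hr⟩ := exists_retraction R A A'' f hf
  let Tf := CartDual.transpose R f
  let Tg := CartDual.transpose R g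
  have hTf : Function.Surjective Tf := fun y =>
    ⟨toConv (y.ofConv.comp r), WithConv.ofConv_injective (LinearMap.ext fun a'' => by
      show y.ofConv (r (f a'')) = y.ofConv a''
      exact congrArg _ (LinearMap.congr_fun hr a''))⟩
  let P := RingHom.ker (Tf : CartDual.D R A →ₐ[R] CartDual.D R A'')
  haveI : P.IsHopfIdeal R := ker_isHopfIdeal Tf hTf
  let e : (CartDual.D R A ⧸ P) ≃ₐ[R] CartDual.D R A'' :=
    Ideal.quotientKerAlgEquivOfSurjective (f := (Tf : CartDual.D R A →ₐ[R] CartDual.D R A'')) hTf
  haveI : Module.Finite R (CartDual.D R A ⧸ P) := Module.Finite.equiv e.symm.toLinearEquiv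
  haveI : Module.Projective R (CartDual.D R A ⧸ P) := Module.Projective.of_equiv e.symm.toLinearEquiv
  let B := FinQuot.inv (R := R) P
  have hkerg : ∀ a'' : A'', f a'' - algebraMap R A (Coalgebra.counit (R := R) a'') ∈ RingHom.ker (g : A →ₐ[R] A') := by
    intro a''
    have h1 : a'' - algebraMap R A'' (Coalgebra.counit (R := R) a'') ∈ RingHom.ker (Bialgebra.counitAlgHom R A'') := by
      simp [RingHom.mem_ker]
    have h2 := Ideal.mem_map_of_mem (f : A'' →ₐ[R] A) h1
    rw [← hker, map_sub, AlgHom.commutes] at h2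
    exact h2
  have hinv : ∀ x : CartDual.D R A, x ∈ B ↔ ∀ (a : A) (a'' : A''), x (a * f a'') = Coalgebra.counit (R := R) a'' * x a := by
    intro x
    let eT := Algebra.TensorProduct.congr (AlgEquiv.refl (R := R) (A₁ := CartDual.D R A)) e
    have h1 : ∀ z, eT (Algebra.TensorProduct.map (AlgHom.id R _) (Ideal.Quotient.mkₐ R P) z) =
        LinearMap.lTensor (CartDual.D R A) (CartDual.transposeLin R (f : A'' →ₗ[R] A)) z := by
      intro z
      induction z using TensorProduct.induction_on with
      | zero => simp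
      | add p q hp hq => simp only [map_add, hp, hq]
      | tmul p q =>
        simp only [Algebra.TensorProduct.map_tmul, Ideal.Quotient.mkₐ_eq_mk, AlgHom.id_apply, LinearMap.lTensor_tmul]
        rfl
    have h2 : eT (x ⊗ₜ[R] (1 : CartDual.D R A ⧸ P)) = x ⊗ₜ[R] (1 : CartDual.D R A'') := by
      show x ⊗ₜ[R] e 1 = _
      rw [map_one]
    rw [AlgHom.mem_equalizer, ← eT.injective.eq_iff]
    show eT (Algebra.TensorProduct.map (AlgHom.id R _) (Ideal.Quotient.mkₐ R P) (Coalgebra.comul (R := R) x)) =
      eT (x ⊗ₜ[R] (1 : CartDual.D R A ⧸ P)) ↔ _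
    rw [h1, h2, ← (pair R A A'').injective.eq_iff]
    constructor
    · intro h a a''
      have h3 := LinearMap.congr_fun h (a ⊗ₜ a'')
      rw [pair_lTensor_comul, pair_tmul] at h3
      rw [h3, mul_comm]
      simp [LinearMap.convOne_apply]
    · intro h
      refine TensorProduct.ext' fun a a'' => ?_
      rw [pair_lTensor_comul, pair_tmul, h, mul_comm]
      simp [LinearMap.convOne_apply]
  have hrange : ∀ y : CartDual.D R A', Tg y ∈ B := by
    intro y
    rw [hinv]
    intro a a''
    show y.ofConv (g (a * f a'')) = Coalgebra.counit (R := R) a'' * y.ofConv (g a)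
    have h := hkerg a''
    rw [RingHom.mem_ker, map_sub, sub_eq_zero] at h
    rw [map_mul, show g (f a'') = _ from h, AlgHom.commutes, mul_comm (g a), ← Algebra.smul_def, map_smul, smul_eq_mul]
  have hmem : ∀ x ∈ B, ∃ y, Tg y = x := by
    intro x hx
    rw [hinv] at hx
    have hK : LinearMap.ker (g : A →ₗ[R] A') ≤ LinearMap.ker x.ofConv := by
      intro a ha
      have ha' : a ∈ RingHom.ker (g : A →ₐ[R] A') := ha
      rw [hker] at ha'
      show x.ofConv a = 0
      suffices ∀ b : A, x.ofConv (b * a) = 0 by simpa using this 1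
      refine Submodule.span_induction ?_ ?_ ?_ ?_ ha'
      · rintro _ ⟨a'', ha'', rfl⟩ b
        have h5 := hx b a''
        rw [show Coalgebra.counit (R := R) a'' = 0 from ha'', zero_mul] at h5
        exact h5
      · intro b; simp
      · intro p q _ _ hp hq b
        rw [mul_add, map_add, hp, hq, add_zero]
      · intro c p _ hp b
        rw [smul_eq_mul, ← mul_assoc, hp]
    obtain ⟨s, hs⟩ := Module.projective_lifting_property (g : A →ₗ[R] A') LinearMap.id hg
    refine ⟨toConv (x.ofConv.comp s), WithConv.ofConv_injective (LinearMap.ext fun a => ?_)⟩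
    show x.ofConv (s (g a)) = x.ofConv a
    rw [← sub_eq_zero, ← map_sub]
    refine hK ?_
    show g (s (g a) - a) = 0
    rw [map_sub, sub_eq_zero]
    exact LinearMap.congr_fun hs (g a)
  have hTginj : Function.Injective Tg := fun y y' h => WithConv.ofConv_injective (LinearMap.ext fun a' => by
    obtain ⟨a, rfl⟩ := hg a'
    exact LinearMap.congr_fun (congrArg WithConv.ofConv h) a)
  refine ⟨?_, hTf, ?_⟩
  · let φ : CartDual.D R A' →ₐ[R] B := (Tg : CartDual.D R A' →ₐ[R] CartDual.D R A).codRestrict B hrange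
    have hφ : Function.Bijective φ := ⟨fun y y' h => hTginj (congrArg Subtype.val h), fun b => by
      obtain ⟨y, hy⟩ := hmem b.1 b.2
      exact ⟨y, Subtype.ext hy⟩⟩
    haveI : Module.FaithfullyFlat B (CartDual.D R A) := FinQuot.faithfullyFlat (R := R) P
    have hcomp := RingHom.FaithfullyFlat.stableUnderComposition φ.toRingHom (algebraMap B (CartDual.D R A))
      (RingHom.FaithfullyFlat.of_bijective hφ) (RingHom.faithfullyFlat_algebraMap_iff.2 ‹_›)
    exact hcomp
  · refine (FinQuot.augIdealSpan_eq (R := R) P).symm.trans ?_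
    refine congrArg Ideal.span (Set.ext fun x => ⟨?_, ?_⟩)
    · rintro ⟨hx, hεx⟩
      obtain ⟨y, rfl⟩ := hmem x hx
      exact ⟨y, (CoalgHomClass.counit_comp_apply Tg y).symm.trans hεx, rfl⟩
    · rintro ⟨y, hy, rfl⟩
      exact ⟨hrange y, (CoalgHomClass.counit_comp_apply Tg y).trans hy⟩

end

end Groth.Agent.Lib.OT67.DualExact
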