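import Groth.Agent.Lib.GrpdQuot.Free
import Groth.Agent.Lib.GrpdQuot.Bridge
import Groth.Prelude.Def_SGA3
import Mathlib

/-!
The quotient of a finite locally free group scheme by a finite locally free subgroup: the invariants
form a subalgebra over which the coordinate ring is finite, flat, with `A ⊗_B A ≅ A ⊗_R (A ⧸ I)`.
-/

open TensorProduct WithConv Groth.Agent.Lib.GrpdQuot

universe u v

namespace Groth.Agent.Lib.OT67.FinQuot

noncomputable section

variable {R : Type u} [CommRing R] {A : Type v} [CommRing A] [HopfAlgebra R A] (I : Ideal A) [I.IsHopfIdeal R]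

/-- The action map on functions. -/
def act : A →ₐ[R] A ⊗[R] (A ⧸ I) :=
  (Algebra.TensorProduct.map (AlgHom.id R A) (Ideal.Quotient.mkₐ R I)).comp (Bialgebra.comulAlgHom R A)

/-- The invariants. -/
abbrev inv : Subalgebra R A :=
  AlgHom.equalizer (act (R := R) I) (Algebra.TensorProduct.includeLeft : A →ₐ[R] A ⊗[R] (A ⧸ I))

theorem act_eq_conv :
    act (R := R) I = (toConv (Algebra.TensorProduct.includeLeft : A →ₐ[R] A ⊗[R] (A ⧸ I)) *
      toConv ((Algebra.TensorProduct.includeRight : (A ⧸ I) →ₐ[R] A ⊗[R] (A ⧸ I)).comp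
        (Ideal.Quotient.mkₐ R I))).ofConv := by
  refine AlgHom.ext fun a => ?_
  rw [AlgHom.convMul_apply]
  simp only [act, AlgHom.comp_apply, Bialgebra.comulAlgHom_apply]
  induction Coalgebra.comul (R := R) a using TensorProduct.induction_on with
  | zero => simp
  | add p q hp hq => simp only [map_add, hp, hq]
  | tmul p q => simp

theorem act_comp {C : Type*} [CommRing C] [Algebra R C] (β : A ⊗[R] (A ⧸ I) →ₐ[R] C) :
    toConv (β.comp (act (R := R) I)) = toConv (β.comp Algebra.TensorProduct.includeLeft) *
      toConv ((β.comp Algebra.TensorProduct.includeRight).comp (Ideal.Quotient.mkₐ R I)) := by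
  apply WithConv.ofConv_injective
  rw [act_eq_conv, AlgHom.comp_convMul_distrib]
  rfl

theorem act_counit :
    (Algebra.TensorProduct.lift (AlgHom.id R A) ((Algebra.ofId R A).comp (Bialgebra.counitAlgHom R (A ⧸ I)))
      (fun _ _ => Commute.all _ _)).comp (act (R := R) I) = AlgHom.id R A := by
  refine AlgHom.ext fun a => ?_
  have key : ∀ z : A ⊗[R] A,
      Algebra.TensorProduct.lift (AlgHom.id R A) ((Algebra.ofId R A).comp (Bialgebra.counitAlgHom R (A ⧸ I)))
        (fun _ _ => Commute.all _ _) (Algebra.TensorProduct.map (AlgHom.id R A) (Ideal.Quotient.mkₐ R I) z) =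
      TensorProduct.rid R A (Coalgebra.counit.lTensor A z) := by
    intro z
    induction z using TensorProduct.induction_on with
    | zero => simp
    | add p q hp hq => simp only [map_add, hp, hq]
    | tmul p q =>
      simp only [Algebra.TensorProduct.map_tmul, Algebra.TensorProduct.lift_tmul, AlgHom.id_apply, AlgHom.comp_apply,
        LinearMap.lTensor_tmul, TensorProduct.rid_tmul, Algebra.ofId_apply, Algebra.smul_def]
      rw [mul_comm]
      congr 1
  rw [AlgHom.comp_apply, AlgHom.id_apply, act, AlgHom.comp_apply, Bialgebra.comulAlgHom_apply, key,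
    Coalgebra.lTensor_counit_comul, TensorProduct.rid_tmul, one_smul]

section trans

variable {H : Type v} [CommRing H] [HopfAlgebra R H] (π : A →ₐc[R] H)

/-- The action map of a homomorphism. -/
def actH : A →ₐ[R] A ⊗[R] H :=
  (Algebra.TensorProduct.map (AlgHom.id R A) (π : A →ₐ[R] H)).comp (Bialgebra.comulAlgHom R A)

theorem actH_comp {C : Type*} [CommRing C] [Algebra R C] (β : A ⊗[R] H →ₐ[R] C) :
    toConv (β.comp (actH π)) = toConv (β.comp Algebra.TensorProduct.includeLeft) *
      toConv ((β.comp Algebra.TensorProduct.includeRight).comp (π : A →ₐ[R] H)) := by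
  refine WithConv.ofConv_injective (AlgHom.ext fun a => ?_)
  rw [WithConv.ofConv_toConv, AlgHom.convMul_apply]
  simp only [actH, AlgHom.comp_apply, Bialgebra.comulAlgHom_apply]
  induction Coalgebra.comul (R := R) a using TensorProduct.induction_on with
  | zero => simp
  | add p q hp hq => simp only [map_add, hp, hq]
  | tmul p q => simp [← map_mul]

theorem conv_antipode_mul {C : Type*} [CommRing C] [Algebra R C] (f : H →ₐ[R] C) :
    toConv (f.comp (HopfAlgebra.antipodeAlgHom R H)) * toConv f = 1 := by
  refine WithConv.ofConv_injective (AlgHom.ext fun x => ?_)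
  have h := congrArg (fun y => f.comp y.ofConv) (AlgHom.antipode_id_cancel (R := R) (A := H))
  simp only [AlgHom.comp_convMul_distrib] at h
  refine (DFunLike.congr_fun h x).trans ?_
  simp [AlgHom.convOne_apply]

theorem conv_mul_antipode {C : Type*} [CommRing C] [Algebra R C] (f : H →ₐ[R] C) :
    toConv f * toConv (f.comp (HopfAlgebra.antipodeAlgHom R H)) = 1 := by
  refine WithConv.ofConv_injective (AlgHom.ext fun x => ?_)
  have h := congrArg (fun y => f.comp y.ofConv)
    (mul_eq_one_symm (AlgHom.antipode_id_cancel (R := R) (A := H)))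
  simp only [AlgHom.comp_convMul_distrib] at h
  refine (DFunLike.congr_fun h x).trans ?_
  simp [AlgHom.convOne_apply]

variable {K : Type v} [CommRing K] (β : A ⊗[R] H →+* K)

/-- Translation along the fibre. -/
theorem exists_θ :
    ∃ θ : Along (β.comp (algebraMap A (A ⊗[R] H))) ⊗[A] (A ⊗[R] H) ≃ₐ[K]
        Along (β.comp (actH π).toRingHom) ⊗[A] (A ⊗[R] H),
      ∀ a : A, θ (1 ⊗ₜ actH π a) = 1 ⊗ₜ actH π a := by
  let B := A ⊗[R] H
  let s := β.comp (algebraMap A B)
  let t := β.comp (actH π).toRingHom
  letI : Algebra R K := (β.comp (algebraMap R B)).toAlgebra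
  let βa : B →ₐ[R] K := { β with commutes' := fun r => rfl }
  letI iCs : Algebra R (Along s ⊗[A] B) := ((algebraMap K (Along s ⊗[A] B)).comp (algebraMap R K)).toAlgebra
  letI iCt : Algebra R (Along t ⊗[A] B) := ((algebraMap K (Along t ⊗[A] B)).comp (algebraMap R K)).toAlgebra
  let cs : K →ₐ[R] (Along s ⊗[A] B) :=
    { toRingHom := algebraMap K (Along s ⊗[A] B), commutes' := fun r => (RingHom.congr_fun (RingHom.algebraMap_toAlgebra ((algebraMap K (Along s ⊗[A] B)).comp (algebraMap R K))) r).symm }
  let ct : K →ₐ[R] (Along t ⊗[A] B) :=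
    { toRingHom := algebraMap K (Along t ⊗[A] B), commutes' := fun r => (RingHom.congr_fun (RingHom.algebraMap_toAlgebra ((algebraMap K (Along t ⊗[A] B)).comp (algebraMap R K))) r).symm }
  have hs : ∀ r, algebraMap R (Along s ⊗[A] B) r = algebraMap K (Along s ⊗[A] B) (β (algebraMap R B r)) := fun r => by
    have h0 : algebraMap R (Along s ⊗[A] B) = (algebraMap K (Along s ⊗[A] B)).comp (algebraMap R K) := RingHom.algebraMap_toAlgebra _
    rw [h0, RingHom.comp_apply]; rfl
  have ht : ∀ r, algebraMap R (Along t ⊗[A] B) r = algebraMap K (Along t ⊗[A] B) (β (algebraMap R B r)) := fun r => by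
    have h0 : algebraMap R (Along t ⊗[A] B) = (algebraMap K (Along t ⊗[A] B)).comp (algebraMap R K) := RingHom.algebraMap_toAlgebra _
    rw [h0, RingHom.comp_apply]; rfl
  let ins : B →ₐ[R] (Along s ⊗[A] B) :=
    { inclAlong s with
      commutes' := fun r => by
        refine Eq.trans ?_ (hs r).symm
        show inclAlong s (algebraMap R B r) = _
        rw [IsScalarTower.algebraMap_apply R A B]
        exact RingHom.congr_fun (inclAlong_comp s) (algebraMap R A r) }
  let int : B →ₐ[R] (Along t ⊗[A] B) :=
    { inclAlong t with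
      commutes' := fun r => by
        refine Eq.trans ?_ (ht r).symm
        show inclAlong t (algebraMap R B r) = _
        rw [IsScalarTower.algebraMap_apply R A B]
        refine (RingHom.congr_fun (inclAlong_comp t) (algebraMap R A r)).trans ?_
        refine congrArg (algebraMap K (Along t ⊗[A] B)) (congrArg β ?_)
        exact ((actH π).commutes r).trans (IsScalarTower.algebraMap_apply R A B r) }
  let iR : H →ₐ[R] B := Algebra.TensorProduct.includeRight
  let iL : A →ₐ[R] B := Algebra.TensorProduct.includeLeft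
  let h := βa.comp iR
  let y := βa.comp (actH π)
  let g := βa.comp iL
  let φ : B →ₐ[R] (Along t ⊗[A] B) := Algebra.TensorProduct.lift (ct.comp g)
    (toConv (ct.comp h) * toConv (int.comp iR)).ofConv (fun _ _ => mul_comm _ _)
  let ψ : B →ₐ[R] (Along s ⊗[A] B) := Algebra.TensorProduct.lift (cs.comp y)
    (toConv ((cs.comp h).comp (HopfAlgebra.antipodeAlgHom R H)) * toConv (ins.comp iR)).ofConv (fun _ _ => Commute.all _ _)
  have hφ : ∀ (a : A) (x : H), φ (a ⊗ₜ[R] x) = ct (g a) * (toConv (ct.comp h) * toConv (int.comp iR)).ofConv x :=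
    fun a x => Algebra.TensorProduct.lift_tmul _ _ _ _ _
  have hψ : ∀ (a : A) (x : H), ψ (a ⊗ₜ[R] x) = cs (y a) *
      (toConv ((cs.comp h).comp (HopfAlgebra.antipodeAlgHom R H)) * toConv (ins.comp iR)).ofConv x :=
    fun a x => Algebra.TensorProduct.lift_tmul _ _ _ _ _
  let F : (Along s ⊗[A] B) →ₐ[K] (Along t ⊗[A] B) := liftAlong s φ.toRingHom (RingHom.ext fun a => by
    show φ (a ⊗ₜ[R] (1 : H)) = algebraMap K (Along t ⊗[A] B) (β (a ⊗ₜ[R] (1 : H)))
    rw [hφ, map_one, mul_one]
    rfl)
  let G : (Along t ⊗[A] B) →ₐ[K] (Along s ⊗[A] B) := liftAlong t ψ.toRingHom (RingHom.ext fun a => by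
    show ψ (a ⊗ₜ[R] (1 : H)) = algebraMap K (Along s ⊗[A] B) (β (actH π a))
    rw [hψ, map_one, mul_one]
    rfl)
  have hF : ∀ b, F (1 ⊗ₜ b) = φ b := fun b => liftAlong_tmul _ _ _ b
  have hG : ∀ b, G (1 ⊗ₜ b) = ψ b := fun b => liftAlong_tmul _ _ _ b
  let FR : (Along s ⊗[A] B) →ₐ[R] (Along t ⊗[A] B) := { F.toRingHom with commutes' := fun r => F.commutes (algebraMap R K r) }
  let GR : (Along t ⊗[A] B) →ₐ[R] (Along s ⊗[A] B) := { G.toRingHom with commutes' := fun r => G.commutes (algebraMap R K r) }
  have hFc : FR.comp cs = ct := AlgHom.ext fun k => F.commutes k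
  have hGc : GR.comp ct = cs := AlgHom.ext fun k => G.commutes k
  have hFi : FR.comp ins = φ := AlgHom.ext hF
  have hGi : GR.comp int = ψ := AlgHom.ext hG
  have hφR : toConv (φ.comp iR) = toConv (ct.comp h) * toConv (int.comp iR) := by
    refine WithConv.ofConv_injective (AlgHom.ext fun x => ?_)
    show φ ((1 : A) ⊗ₜ[R] x) = _
    rw [hφ, map_one, map_one, one_mul]
  have hψR : toConv (ψ.comp iR) = toConv ((cs.comp h).comp (HopfAlgebra.antipodeAlgHom R H)) * toConv (ins.comp iR) := by
    refine WithConv.ofConv_injective (AlgHom.ext fun x => ?_)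
    show ψ ((1 : A) ⊗ₜ[R] x) = _
    rw [hψ, map_one, map_one, one_mul]
  have hGF : G.comp F = AlgHom.id K (Along s ⊗[A] B) := by
    refine algHom_ext_along fun b => ?_
    have key : GR.comp φ = ins := by
      refine Algebra.TensorProduct.ext ?_ ?_
      · refine AlgHom.ext fun a => ?_
        show GR (φ (a ⊗ₜ[R] (1 : H))) = ins (a ⊗ₜ[R] (1 : H))
        rw [hφ, map_one, mul_one]
        exact (G.commutes _).trans (RingHom.congr_fun (inclAlong_comp s) a).symm
      · show (GR.comp φ).comp iR = ins.comp iR
        apply WithConv.toConv_injective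
        rw [AlgHom.comp_assoc, ← WithConv.ofConv_toConv (φ.comp iR), hφR, AlgHom.comp_convMul_distrib]
        simp only [WithConv.ofConv_toConv, WithConv.toConv_ofConv, ← AlgHom.comp_assoc, hGc, hGi]
        rw [hψR, ← mul_assoc, conv_mul_antipode, one_mul]
    rw [AlgHom.comp_apply, hF, AlgHom.id_apply]
    exact DFunLike.congr_fun key b
  have hFG : F.comp G = AlgHom.id K (Along t ⊗[A] B) := by
    refine algHom_ext_along fun b => ?_
    have key : FR.comp ψ = int := by
      refine Algebra.TensorProduct.ext ?_ ?_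
      · refine AlgHom.ext fun a => ?_
        show FR (ψ (a ⊗ₜ[R] (1 : H))) = int (a ⊗ₜ[R] (1 : H))
        rw [hψ, map_one, mul_one]
        exact (F.commutes _).trans (RingHom.congr_fun (inclAlong_comp t) a).symm
      · show (FR.comp ψ).comp iR = int.comp iR
        apply WithConv.toConv_injective
        rw [AlgHom.comp_assoc, ← WithConv.ofConv_toConv (ψ.comp iR), hψR, AlgHom.comp_convMul_distrib]
        simp only [WithConv.toConv_ofConv, WithConv.ofConv_toConv, ← AlgHom.comp_assoc, hFc, hFi]
        rw [hφR, ← mul_assoc, conv_antipode_mul, one_mul]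
    rw [AlgHom.comp_apply, hG, AlgHom.id_apply]
    exact DFunLike.congr_fun key b
  refine ⟨AlgEquiv.ofAlgHom F G hFG hGF, fun a => (hF _).trans ?_⟩
  show φ (actH π a) = int (actH π a)
  suffices h1 : toConv (φ.comp (actH π)) = toConv (int.comp (actH π)) from
    DFunLike.congr_fun (congrArg WithConv.ofConv h1) a
  have hy : toConv (ct.comp y) = toConv (ct.comp g) * toConv ((ct.comp h).comp (π : A →ₐ[R] H)) :=
    actH_comp π (ct.comp βa)
  have hiL : int.comp iL = ct.comp y := AlgHom.ext fun a => RingHom.congr_fun (inclAlong_comp t) a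
  have hφL : φ.comp iL = ct.comp g := AlgHom.ext fun a => by
    show φ (a ⊗ₜ[R] (1 : H)) = _
    rw [hφ, map_one, mul_one]; rfl
  rw [actH_comp, actH_comp, hiL, hφL, hy, mul_assoc, ← WithConv.ofConv_toConv (φ.comp iR), hφR,
    AlgHom.convMul_comp_bialgHom_distrib]

end trans

/-- The translation structure. -/
def transAlg : TransAlg A (A ⊗[R] (A ⧸ I)) where
  τ := (act (R := R) I).toRingHom
  e :=
    { Algebra.TensorProduct.lift (AlgHom.id R A) ((Algebra.ofId R A).comp (Bialgebra.counitAlgHom R (A ⧸ I)))
        (fun _ _ => Commute.all _ _) with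
      commutes' := fun a => by
        show Algebra.TensorProduct.lift _ _ _ (a ⊗ₜ[R] (1 : A ⧸ I)) = a
        simp }
  e_τ a := DFunLike.congr_fun (act_counit I) a
  θ β := (exists_θ (Bialgebra.Quotient.mkBialgHom I : A →ₐc[R] A ⧸ I) β).choose
  θ_τ β := (exists_θ (Bialgebra.Quotient.mkBialgHom I : A →ₐc[R] A ⧸ I) β).choose_spec

theorem transAlg_inv : (transAlg (R := R) I).inv = (inv (R := R) I).toSubring :=
  SetLike.ext fun _ => eq_comm

theorem span_range_act : Submodule.span A (Set.range (transAlg (R := R) I).τ) = ⊤ := by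
  rw [eq_top_iff]
  rintro z -
  induction z using TensorProduct.induction_on with
  | zero => exact zero_mem _
  | add p q hp hq => exact add_mem hp hq
  | tmul a x =>
    obtain ⟨b, rfl⟩ := Ideal.Quotient.mk_surjective x
    -- `a ⊗ b = ∑ (a * S b₁) • τ b₂`
    let iL : A →ₐ[R] A ⊗[R] (A ⧸ I) := Algebra.TensorProduct.includeLeft
    let iR := (Algebra.TensorProduct.includeRight : (A ⧸ I) →ₐ[R] A ⊗[R] (A ⧸ I)).comp (Ideal.Quotient.mkₐ R I)
    have h : iR = ((toConv iL)⁻¹ * toConv (act (R := R) I)).ofConv := by
      rw [act_eq_conv, WithConv.toConv_ofConv]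
      exact (congrArg WithConv.ofConv (inv_mul_cancel_left (toConv iL) (toConv iR))).symm
    have h2 : a ⊗ₜ[R] Ideal.Quotient.mk I b = iL a * iR b := by simp [iL, iR]
    rw [h2, h, AlgHom.convMul_apply]
    induction Coalgebra.comul (R := R) b using TensorProduct.induction_on with
    | zero => simp
    | add p q hp hq => rw [map_add, mul_add]; exact add_mem hp hq
    | tmul p q =>
      rw [Algebra.TensorProduct.lift_tmul]
      have h3 : (a * HopfAlgebra.antipodeAlgHom R A p) • (transAlg (R := R) I).τ q ∈
          Submodule.span A (Set.range (transAlg (R := R) I).τ) :=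
        Submodule.smul_mem _ _ (Submodule.subset_span ⟨q, rfl⟩)
      have h4 : iL (a * HopfAlgebra.antipodeAlgHom R A p) * act (R := R) I q ∈
          Submodule.span A (Set.range (transAlg (R := R) I).τ) := by
        convert h3 using 1
        exact (Algebra.smul_def (a * HopfAlgebra.antipodeAlgHom R A p) (act (R := R) I q)).symm
      rw [map_mul, mul_assoc] at h4
      exact h4

variable [Module.Finite R (A ⧸ I)] [Module.Projective R (A ⧸ I)]

theorem flat : Module.Flat (inv (R := R) I) A := by
  have h := (transAlg (R := R) I).flat_inv (span_range_act I)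
  revert h
  generalize hS : (transAlg (R := R) I).inv = S
  rw [transAlg_inv] at hS
  subst hS
  exact fun h => h

theorem finitePresentation : Module.FinitePresentation (inv (R := R) I) A := by
  have h := (transAlg (R := R) I).finitePresentation_inv (span_range_act I)
  revert h
  generalize hS : (transAlg (R := R) I).inv = S
  rw [transAlg_inv] at hS
  subst hS
  exact fun h => h

theorem finite : Module.Finite (inv (R := R) I) A :=
  haveI := finitePresentation (R := R) I
  inferInstance

theorem projective : Module.Projective (inv (R := R) I) A :=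
  haveI := finitePresentation (R := R) I
  haveI := flat (R := R) I
  Module.Flat.projective_of_finitePresentation

theorem faithfullyFlat : Module.FaithfullyFlat (inv (R := R) I) A := by
  haveI := flat (R := R) I
  haveI := finite (R := R) I
  haveI : Algebra.IsIntegral (inv (R := R) I) A := Algebra.IsIntegral.of_finite _ A
  refine Module.FaithfullyFlat.of_comap_surjective fun p => ?_
  obtain ⟨Q, -, hQ, hQp⟩ := Ideal.exists_ideal_over_prime_of_isIntegral p.asIdeal (⊥ : Ideal A) (fun c hc => by
    rw [Ideal.mem_comap, Ideal.mem_bot] at hc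
    rw [show c = 0 from Subtype.ext hc]
    exact p.asIdeal.zero_mem)
  exact ⟨⟨Q, hQ⟩, PrimeSpectrum.ext hQp⟩

/-- The comparison map. -/
def cmp : A ⊗[inv (R := R) I] A →ₐ[inv (R := R) I] A ⊗[R] (A ⧸ I) :=
  Algebra.TensorProduct.lift
    { toRingHom := (act (R := R) I).toRingHom
      commutes' := fun c => c.2 }
    { toRingHom := algebraMap A (A ⊗[R] (A ⧸ I))
      commutes' := fun _ => rfl } fun _ _ => Commute.all _ _

@[simp] theorem cmp_tmul (a a' : A) : cmp (R := R) I (a ⊗ₜ a') = act (R := R) I a * (a' ⊗ₜ[R] (1 : A ⧸ I)) := by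
  unfold cmp
  exact Algebra.TensorProduct.lift_tmul _ _ _ _ _

theorem cmp_bijective : Function.Bijective (cmp (R := R) I) := by
  have key : ∀ (S : Subring A) (hS : S = (transAlg (R := R) I).inv),
      Function.Bijective (Algebra.TensorProduct.lift
        { toRingHom := (act (R := R) I).toRingHom
          commutes' := fun c : S => ((hS ▸ c.2 : (c : A) ∈ (transAlg (R := R) I).inv)).symm }
        ({ toRingHom := algebraMap A (A ⊗[R] (A ⧸ I))
           commutes' := fun _ => rfl } : A →ₐ[S] A ⊗[R] (A ⧸ I)) fun _ _ => Commute.all _ _) := by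
    rintro S rfl
    exact (transAlg (R := R) I).bijective_cmp (span_range_act I)
  exact key _ (transAlg_inv I).symm

end

end Groth.Agent.Lib.OT67.FinQuot
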