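import Groth.Agent.Lib.OT67.Averaging
import Groth.Agent.Lib.OT67.Algebraize
import Groth.Agent.H83.MultType.Quot
import Groth.Prelude.Def_SGA3b
import Mathlib

/-!
Lifting of homomorphisms modulo powers of an ideal, one power at a time.
-/

open TensorProduct

set_option linter.style.haveILetI false

universe u

namespace Groth.Agent.Lib.OT67.FormalLift

noncomputable section

open Groth.Agent.H83.MultType HomMod Averaging

variable {A : Type u} [CommRing A] {B : Type u} [CommRing B] [HopfAlgebra A B] {C : Type u} [CommRing C] [HopfAlgebra A C]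

set_option maxHeartbeats 1000000 in
/-- One step, given lifting over `A / J'`. -/
theorem exists_next_of {J J' : Ideal A} (hle : J' ≤ J)
    (hlift : ∀ F : (A ⧸ J') ⊗[A] C → (A ⧸ J') ⊗[A] B, IsHomMod (J.map (Ideal.Quotient.mk J')) F →
      ∃ φ : ((A ⧸ J') ⊗[A] C) →ₐc[A ⧸ J'] ((A ⧸ J') ⊗[A] B),
        ∀ x, φ x - F x ∈ (J.map (Ideal.Quotient.mk J') • ⊤ : Submodule (A ⧸ J') ((A ⧸ J') ⊗[A] B)))
    {f : C → B} (hf : IsHomMod J f) :
    ∃ f' : C → B, IsHomMod J' f' ∧ ∀ c, f' c - f c ∈ (J • ⊤ : Submodule A B) := by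
  let R := A ⧸ J'
  let K : Ideal R := J.map (Ideal.Quotient.mk J')
  let R' := R ⧸ K
  have hJR : ∀ a ∈ J, algebraMap A R' a = 0 := fun a ha => by
    rw [IsScalarTower.algebraMap_apply A R R', Ideal.Quotient.algebraMap_eq, Ideal.Quotient.eq_zero_iff_mem]
    exact Ideal.mem_map_of_mem _ ha
  obtain ⟨ψ, hψ⟩ := HomMod.exists_bialgHom hf R' hJR
  obtain ⟨TC, hTC⟩ := exists_towerEquiv A R R' C
  obtain ⟨TB, hTB⟩ := exists_towerEquiv A R R' B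
  let φ' : (R' ⊗[R] (R ⊗[A] C)) →ₐc[R'] (R' ⊗[R] (R ⊗[A] B)) :=
    (TB : R' ⊗[A] B →ₐc[R'] R' ⊗[R] (R ⊗[A] B)).comp (ψ.comp (TC.symm : R' ⊗[R] (R ⊗[A] C) →ₐc[R'] R' ⊗[A] C))
  have hsur : ∀ x : R' ⊗[R] (R ⊗[A] B), ∃ y, (1 : R') ⊗ₜ[R] y = x := fun x =>
    TensorProduct.mk_surjective R (R ⊗[A] B) R' Ideal.Quotient.mk_surjective x
  choose F hF using fun x : R ⊗[A] C => hsur (φ' ((1 : R') ⊗ₜ[R] x))
  obtain ⟨φR, hφR⟩ := hlift F (isHomMod_of_bialgHom φ' F hF)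
  have hsur' : ∀ x : R ⊗[A] B, ∃ b, (1 : R) ⊗ₜ[A] b = x := fun x =>
    TensorProduct.mk_surjective A B R Ideal.Quotient.mk_surjective x
  choose f' hf' using fun c : C => hsur' (φR ((1 : R) ⊗ₜ[A] c))
  refine ⟨f', isHomMod_of_bialgHom φR f' hf', fun c => ?_⟩
  let π : R' →ₐ[A] A ⧸ J :=
    Ideal.Quotient.liftₐ K (Ideal.Quotient.factorₐ A hle) fun x hx => by
      have hKle : K ≤ RingHom.ker (Ideal.Quotient.factor hle) := Ideal.map_le_iff_le_comap.2 fun a ha => by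
        rw [Ideal.mem_comap, RingHom.mem_ker, Ideal.Quotient.factor_mk]
        exact Ideal.Quotient.eq_zero_iff_mem.2 ha
      exact hKle hx
  refine mem_of_one_tmul_eq_zero π ?_
  apply EquivLike.injective TB
  have h1 : (1 : R') ⊗ₜ[R] (φR ((1 : R) ⊗ₜ[A] c)) = φ' ((1 : R') ⊗ₜ[R] ((1 : R) ⊗ₜ[A] c)) := by
    rw [← hF, ← sub_eq_zero, ← TensorProduct.tmul_sub]
    exact one_tmul_eq_zero_iff.2 (hφR _)
  have h2 : φ' ((1 : R') ⊗ₜ[R] ((1 : R) ⊗ₜ[A] c)) = TB ((1 : R') ⊗ₜ[A] f c) := by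
    show TB (ψ (TC.symm ((1 : R') ⊗ₜ[R] ((1 : R) ⊗ₜ[A] c)))) = _
    rw [← hTC, show TC.symm (TC ((1 : R') ⊗ₜ[A] c)) = (1 : R') ⊗ₜ[A] c from TC.toAlgEquiv.symm_apply_apply _, hψ]
  rw [TensorProduct.tmul_sub, _root_.map_sub, _root_.map_zero, sub_eq_zero, hTB, hf', h1, h2]

/-- One step: from modulo `J` to modulo `J'`, for `J' ≤ J` with `J ^ 2 ≤ J'`. -/
theorem exists_next {ε : B →ₗ[A] A} (hε : IsInvariant ε) [Algebra.Smooth A C] {J J' : Ideal A} (hle : J' ≤ J)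
    (hsq : J ^ 2 ≤ J') {f : C → B} (hf : IsHomMod J f) :
    ∃ f' : C → B, IsHomMod J' f' ∧ ∀ c, f' c - f c ∈ (J • ⊤ : Submodule A B) := by
  refine exists_next_of hle (fun F hF => ?_) hf
  obtain ⟨εR, hεR⟩ := exists_invariant_baseChange hε (A ⧸ J')
  refine Averaging.exists_hom hεR ⟨2, ?_⟩ hF
  rw [← Ideal.map_pow]
  exact Ideal.map_eq_bot_iff_le_ker _ |>.2 (by rw [Ideal.mk_ker]; exact hsq)

/-- An isotrivial group has an invariant integral. -/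
theorem exists_invariant_of_isotrivial (h : SGA3b.IsIsotrivial A B) : ∃ ε : B →ₗ[A] A, IsInvariant ε := by
  obtain ⟨S, _, _, -, -, hff, M, _, ⟨e⟩⟩ := h
  obtain ⟨L, hL⟩ := exists_invariant_of_equiv e
  exact exists_invariant_of_detect (fun N _ _ x hx => (Module.FaithfullyFlat.one_tmul_eq_zero_iff (R := A) (A := S) _ x).1 hx) hL

/-- Formal lifts are algebraic. -/
theorem exists_lift [IsNoetherianRing A] {I : Ideal A} [IsAdicComplete I A] (hB : SGA3b.IsIsotrivial A B)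
    (φ₀ : ((A ⧸ I) ⊗[A] C) →ₐc[A ⧸ I] ((A ⧸ I) ⊗[A] B))
    (hnext : ∀ (n : ℕ) (f : C → B), IsHomMod (I ^ (n + 1)) f →
      ∃ f', IsHomMod (I ^ (n + 2)) f' ∧ ∀ c, f' c - f c ∈ (I ^ (n + 1) • ⊤ : Submodule A B)) :
    ∃ φ : C →ₐc[A] B, ∀ c : C, φ₀ ((1 : A ⧸ I) ⊗ₜ[A] c) = (1 : A ⧸ I) ⊗ₜ[A] (φ c) := by
  have hsur : ∀ x : (A ⧸ I) ⊗[A] B, ∃ b, (1 : A ⧸ I) ⊗ₜ[A] b = x := fun x =>
    TensorProduct.mk_surjective A B (A ⧸ I) Ideal.Quotient.mk_surjective x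
  choose f₀ hf₀ using fun c : C => hsur (φ₀ ((1 : A ⧸ I) ⊗ₜ[A] c))
  have h0 : IsHomMod (I ^ (0 + 1)) f₀ := by simpa using isHomMod_of_bialgHom φ₀ f₀ hf₀
  let f : ∀ n : ℕ, { g : C → B // IsHomMod (I ^ (n + 1)) g } := fun n => Nat.rec ⟨f₀, h0⟩
    (fun k g => ⟨(hnext k g.1 g.2).choose, (hnext k g.1 g.2).choose_spec.1⟩) n
  obtain ⟨S, _, _, _, _, hff, M, _, ⟨e⟩⟩ := hB
  obtain ⟨φ, hφ⟩ := Algebraize.exists_bialgHom e (fun n => (f n).1)
    (fun n c => (hnext n (f n).1 (f n).2).choose_spec.2 c)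
    (fun n => (f n).2.map_add) (fun n => (f n).2.map_smul) (fun n => (f n).2.map_one) (fun n => (f n).2.map_mul)
    (fun n => (f n).2.counit) (fun n => (f n).2.comul)
  refine ⟨φ, fun c => ?_⟩
  rw [← hf₀, ← sub_eq_zero, ← TensorProduct.tmul_sub]
  refine one_tmul_eq_zero_iff.2 ?_
  rw [← neg_sub]
  refine neg_mem ?_
  have h : φ c - f₀ c ∈ (I ^ (0 + 1) • ⊤ : Submodule A B) := hφ 0 c
  rw [zero_add, pow_one] at h
  exact h

end

end Groth.Agent.Lib.OT67.FormalLift
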