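import Mathlib

/-!
Hopf ideals and flat closures from the generic fibre over a Dedekind domain.
-/

open TensorProduct

set_option linter.style.haveILetI false

universe u

namespace Groth.Agent.Lib.OT67.GenericHopfIdeal

noncomputable section

variable {R : Type u} [CommRing R] [IsDomain R] {K : Type u} [Field K] [Algebra R K] [IsFractionRing R K]
  {A : Type u} [CommRing A] [HopfAlgebra R A]

local notation "i" => (Algebra.TensorProduct.includeRight : A →ₐ[R] K ⊗[R] A)

theorem clear_denom (z : K ⊗[R] A) : ∃ r : R, r ≠ 0 ∧ ∃ a : A, r • z = i a := by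
  obtain ⟨⟨a, r⟩, h⟩ := IsLocalizedModule.surj (nonZeroDivisors R) (TensorProduct.mk R K A 1) z
  exact ⟨r, nonZeroDivisors.coe_ne_zero r, a, h⟩

theorem exists_of_mem_map {J' : Ideal A} {z : K ⊗[R] A} (hz : z ∈ J'.map i) :
    ∃ r : R, r ≠ 0 ∧ ∃ a ∈ J', r • z = i a := by
  induction hz using Submodule.span_induction with
  | mem x hx =>
    obtain ⟨a, ha, rfl⟩ := hx
    exact ⟨1, one_ne_zero, a, ha, one_smul _ _⟩
  | zero => exact ⟨1, one_ne_zero, 0, J'.zero_mem, by simp⟩
  | add x y _ _ hx hy =>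
    obtain ⟨r, hr, a, ha, hra⟩ := hx
    obtain ⟨s, hs, b, hb, hsb⟩ := hy
    refine ⟨r * s, mul_ne_zero hr hs, s • a + r • b,
      J'.add_mem (Submodule.smul_of_tower_mem _ s ha) (Submodule.smul_of_tower_mem _ r hb), ?_⟩
    rw [map_add, map_smul, map_smul, ← hra, ← hsb, smul_add, mul_comm r s, smul_smul, smul_smul]
    congr 1
    rw [mul_comm r s]
  | smul c x _ hx =>
    obtain ⟨r, hr, a, ha, hra⟩ := hx
    obtain ⟨s, hs, b, hb⟩ := clear_denom c
    refine ⟨s * r, mul_ne_zero hs hr, b * a, J'.mul_mem_left _ ha, ?_⟩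
    rw [map_mul, ← hb, ← hra, smul_eq_mul, smul_mul_smul_comm]

theorem mem_map_of_smul_mem {J : Ideal A} {z : K ⊗[R] A} {r : R} (hr : r ≠ 0) {a : A} (ha : a ∈ J)
    (h : r • z = i a) : z ∈ J.map i := by
  have hr' : algebraMap R K r ≠ 0 := fun h0 => hr ((map_eq_zero_iff _ (IsFractionRing.injective R K)).1 h0)
  have : z = (algebraMap R K r)⁻¹ • i a := by
    rw [← h, ← algebraMap_smul K r z, smul_smul, inv_mul_cancel₀ hr', one_smul]
  rw [this]
  exact Submodule.smul_of_tower_mem _ _ (Ideal.mem_map_of_mem _ ha)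

theorem mem_of_map_mem_map {J' : Ideal A} [Module.Flat R (A ⧸ J')] {a : A} (ha : i a ∈ J'.map i) : a ∈ J' := by
  obtain ⟨r, hr, b, hb, hrb⟩ := exists_of_mem_map ha
  rw [← map_smul] at hrb
  obtain ⟨c, hc⟩ := (IsLocalizedModule.eq_iff_exists (nonZeroDivisors R) (TensorProduct.mk R K A 1)).1 hrb
  rw [← Ideal.Quotient.eq_zero_iff_mem]
  have h1 : ((c : R) * r) • Ideal.Quotient.mk J' a = 0 := by
    rw [← smul_smul]
    have : Ideal.Quotient.mkₐ R J' ((c : R) • r • a) = Ideal.Quotient.mkₐ R J' ((c : R) • b) := congrArg _ hc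
    simp only [map_smul, Ideal.Quotient.mkₐ_eq_mk] at this
    rw [this, (Ideal.Quotient.eq_zero_iff_mem).2 hb, smul_zero]
  exact (smul_eq_zero.1 h1).resolve_left (mul_ne_zero (nonZeroDivisors.coe_ne_zero c) hr)

/-- The map of quotients. -/
def quotMap (J' : Ideal A) (J : Ideal (K ⊗[R] A)) (h : J' ≤ J.comap i) : A ⧸ J' →ₐ[R] (K ⊗[R] A) ⧸ J :=
  Ideal.Quotient.liftₐ J' ((Ideal.Quotient.mkₐ R J).comp i) fun a ha => Ideal.Quotient.eq_zero_iff_mem.2 (h ha)

/-- The natural map of tensor squares. -/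
def ν {N Q : Type u} [AddCommGroup N] [Module R N] [AddCommGroup Q] [Module R Q] [Module K Q] [IsScalarTower R K Q]
    (j : N →ₗ[R] Q) : N ⊗[R] N →ₗ[R] Q ⊗[K] Q :=
  ((IsLocalization.moduleTensorEquiv (nonZeroDivisors R) K Q Q).symm.toLinearMap.restrictScalars R).comp
    (TensorProduct.map j j)

theorem ν_tmul {N Q : Type u} [AddCommGroup N] [Module R N] [AddCommGroup Q] [Module R Q] [Module K Q]
    [IsScalarTower R K Q] (j : N →ₗ[R] Q) (x y : N) : ν (K := K) j (x ⊗ₜ y) = j x ⊗ₜ[K] j y := by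
  show (IsLocalization.moduleTensorEquiv (nonZeroDivisors R) K Q Q).symm (j x ⊗ₜ[R] j y) = _
  rw [LinearEquiv.symm_apply_eq]
  rfl

theorem ν_injective {N Q : Type u} [AddCommGroup N] [Module R N] [AddCommGroup Q] [Module R Q] [Module K Q]
    [IsScalarTower R K Q] [Module.Flat R N] [Module.Flat R Q] {j : N →ₗ[R] Q} (hj : Function.Injective j) :
    Function.Injective (ν (K := K) j) :=
  (IsLocalization.moduleTensorEquiv (nonZeroDivisors R) K Q Q).symm.injective.comp
    (TensorProduct.map_injective_of_flat_flat' j j hj hj)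

theorem comul_incl (J' : Ideal A) (J : Ideal (K ⊗[R] A)) (h : J' ≤ J.comap i) (a : A) :
    Algebra.TensorProduct.map (Ideal.Quotient.mkₐ K J) (Ideal.Quotient.mkₐ K J) (Coalgebra.comul (R := K) (i a)) =
      ν (K := K) (quotMap J' J h).toLinearMap
        (Algebra.TensorProduct.map (Ideal.Quotient.mkₐ R J') (Ideal.Quotient.mkₐ R J') (Coalgebra.comul (R := R) a)) := by
  have h1 : Coalgebra.comul (R := K) (i a) = AlgebraTensorModule.tensorTensorTensorComm R K R K K K A A
      (((1 : K) ⊗ₜ[K] (1 : K)) ⊗ₜ[R] Coalgebra.comul (R := R) a) := by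
    show Coalgebra.comul ((1 : K) ⊗ₜ[R] a) = _
    rw [TensorProduct.comul_tmul, Bialgebra.comul_one]
    rfl
  rw [h1]
  induction Coalgebra.comul (R := R) a using TensorProduct.induction_on with
  | zero => simp
  | add p q hp hq => simp only [tmul_add, map_add, hp, hq]
  | tmul p q =>
    rw [AlgebraTensorModule.tensorTensorTensorComm_tmul, Algebra.TensorProduct.map_tmul, Algebra.TensorProduct.map_tmul]
    refine Eq.trans ?_ (ν_tmul _ _ _).symm
    rfl

theorem map_isHopfIdeal {J' : Ideal A} [J'.IsHopfIdeal R] : (J'.map i).IsHopfIdeal K := by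
  let J := J'.map i
  let P := Algebra.TensorProduct.map (Ideal.Quotient.mkₐ K J) (Ideal.Quotient.mkₐ K J)
  let D := P.comp (Bialgebra.comulAlgHom K (K ⊗[R] A))
  have hc : J ≤ RingHom.ker (Bialgebra.counitAlgHom K (K ⊗[R] A)) := by
    refine Ideal.map_le_iff_le_comap.2 fun a ha => ?_
    show Coalgebra.counit (R := K) ((1 : K) ⊗ₜ[R] a) = 0
    rw [TensorProduct.counit_tmul, Submodule.IsCoideal.counit_eq_zero (I := J'.restrictScalars R) ha, zero_smul]
  have hD : J ≤ RingHom.ker D := by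
    refine Ideal.map_le_iff_le_comap.2 fun a ha => ?_
    show P (Coalgebra.comul (R := K) (i a)) = 0
    have h' : Algebra.TensorProduct.map (Ideal.Quotient.mkₐ R J') (Ideal.Quotient.mkₐ R J') (Coalgebra.comul (R := R) a) = 0 :=
      Submodule.IsCoideal.map_mkQ_comul_eq_zero (I := J'.restrictScalars R) ha
    rw [show P (Coalgebra.comul (R := K) (i a)) = _ from comul_incl J' J Ideal.le_comap_map a, h', map_zero]
  have hS : J ≤ J.comap (HopfAlgebra.antipodeAlgHom K (K ⊗[R] A)) := by
    refine Ideal.map_le_iff_le_comap.2 fun a ha => ?_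
    show HopfAlgebraStruct.antipode (R := K) ((1 : K) ⊗ₜ[R] a) ∈ J
    rw [TensorProduct.antipode_def, AlgebraTensorModule.map_tmul, HopfAlgebra.antipode_one]
    exact Ideal.mem_map_of_mem _ (Ideal.IsHopfIdeal.antipode_mem (R := R) ha)
  exact { counit_eq_zero := fun x hx => hc hx, map_mkQ_comul_eq_zero := fun x hx => hD hx,
          antipode_mem := fun x hx => hS hx }

theorem map_comap (J : Ideal (K ⊗[R] A)) : (J.comap i).map i = J := by
  refine le_antisymm Ideal.map_comap_le fun z hz => ?_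
  obtain ⟨r, hr, a, ha⟩ := clear_denom z
  refine mem_map_of_smul_mem hr ?_ ha
  show i a ∈ J
  rw [← ha]
  exact Submodule.smul_of_tower_mem _ r hz

theorem quotMap_comap_injective (J : Ideal (K ⊗[R] A)) : Function.Injective (quotMap (J.comap i) J le_rfl) := by
  rw [injective_iff_map_eq_zero]
  intro x hx
  obtain ⟨a, rfl⟩ := Ideal.Quotient.mk_surjective x
  exact Ideal.Quotient.eq_zero_iff_mem.2 (Ideal.Quotient.eq_zero_iff_mem.1 hx : i a ∈ J)

theorem flat_comap [IsDedekindDomain R] (J : Ideal (K ⊗[R] A)) : Module.Flat R (A ⧸ J.comap i) := by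
  haveI : Module.IsTorsionFree R ((K ⊗[R] A) ⧸ J) := Module.IsTorsionFree.trans_faithfulSMul R K _
  haveI : Module.IsTorsionFree R (A ⧸ J.comap i) :=
    (quotMap_comap_injective J).moduleIsTorsionFree _ (fun r x => map_smul (quotMap (J.comap i) J le_rfl) r x)
  infer_instance

theorem comap_isHopfIdeal [IsDedekindDomain R] {J : Ideal (K ⊗[R] A)} [J.IsHopfIdeal K] :
    (J.comap i).IsHopfIdeal R := by
  haveI := flat_comap J
  haveI : Module.IsTorsionFree R ((K ⊗[R] A) ⧸ J) := Module.IsTorsionFree.trans_faithfulSMul R K _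
  refine { counit_eq_zero := fun a ha => ?_, map_mkQ_comul_eq_zero := fun a ha => ?_, antipode_mem := fun a ha => ?_ }
  · have h := Submodule.IsCoideal.counit_eq_zero (R := K) (I := J.restrictScalars K) (x := i a) ha
    change Coalgebra.counit (R := K) ((1 : K) ⊗ₜ[R] a) = 0 at h
    rw [TensorProduct.counit_tmul] at h
    simp [Algebra.smul_def] at h
    exact h
  · have h : Algebra.TensorProduct.map (Ideal.Quotient.mkₐ K J) (Ideal.Quotient.mkₐ K J) (Coalgebra.comul (R := K) (i a)) = 0 :=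
      Submodule.IsCoideal.map_mkQ_comul_eq_zero (R := K) (I := J.restrictScalars K) (x := i a) ha
    rw [comul_incl (J.comap i) J le_rfl a, map_eq_zero_iff _ (ν_injective (quotMap_comap_injective J))] at h
    exact h
  · have h : HopfAlgebraStruct.antipode (R := K) ((1 : K) ⊗ₜ[R] a) ∈ J :=
      Ideal.IsHopfIdeal.antipode_mem (R := K) ha
    rw [TensorProduct.antipode_def, AlgebraTensorModule.map_tmul, HopfAlgebra.antipode_one] at h
    exact h

end

end Groth.Agent.Lib.OT67.GenericHopfIdeal
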