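import Groth.Agent.Lib.OT67.Monomial

open TensorProduct WithConv

universe u v

namespace Groth.Agent.Lib.OT67

variable {k : Type u} [Field k] {A : Type v} [CommRing A] [Bialgebra k A]

theorem sub_counit_mem (a : A) : a - Bialgebra.counitAlgHom k A a • (1 : A) ∈ aug k A := by
  simp [aug, RingHom.mem_ker]

theorem exists_sys [Module.Finite k A] :
    ∃ (x : Fin (Module.finrank k (aug k A).Cotangent) → A)
      (d : Fin (Module.finrank k (aug k A).Cotangent) → (A →ₗ[k] k)),
      Sys _ x d ∧ ∀ a ∈ aug k A, a - ∑ i, d i a • x i ∈ aug k A ^ 2 := by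
  haveI : Module.Finite k ((aug k A).restrictScalars k) := Module.Finite.of_injective
    ((aug k A).restrictScalars k).subtype Subtype.val_injective
  haveI : Module.Finite k (aug k A).Cotangent :=
    Module.Finite.of_surjective ((aug k A).toCotangent.restrictScalars k) (aug k A).toCotangent_surjective
  let b := Module.finBasis k (aug k A).Cotangent
  choose x hx using fun i => (aug k A).toCotangent_surjective (b i)
  let pr : A →ₗ[k] ((aug k A).restrictScalars k) :=
    (LinearMap.id - LinearMap.toSpanSingleton k A 1 ∘ₗ (Bialgebra.counitAlgHom k A).toLinearMap).codRestrict _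
      fun a => sub_counit_mem a
  let q : A →ₗ[k] (aug k A).Cotangent := ((aug k A).toCotangent.restrictScalars k) ∘ₗ pr
  have hq : ∀ (a : A) (ha : a ∈ aug k A), q a = (aug k A).toCotangent ⟨a, ha⟩ := fun a ha => by
    show (aug k A).toCotangent (pr a) = _
    congr 1
    refine Subtype.ext ?_
    show a - Bialgebra.counitAlgHom k A a • (1 : A) = a
    rw [show Bialgebra.counitAlgHom k A a = 0 from ha, zero_smul, sub_zero]
  have hq1 : q 1 = 0 := by
    show (aug k A).toCotangent (pr 1) = 0
    have : pr 1 = 0 := Subtype.ext (show (1 : A) - Bialgebra.counitAlgHom k A 1 • (1 : A) = 0 by simp)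
    rw [this]
    exact map_zero _
  have hqm : ∀ a c, q (a * c) = Bialgebra.counitAlgHom k A a • q c + Bialgebra.counitAlgHom k A c • q a := by
    intro a c
    set α := Bialgebra.counitAlgHom k A a
    set γ := Bialgebra.counitAlgHom k A c
    have h0 : q ((a - α • 1) * (c - γ • 1)) = 0 := by
      rw [hq _ (Ideal.mul_mem_right _ _ (sub_counit_mem a)), Ideal.toCotangent_eq_zero, sq]
      exact Ideal.mul_mem_mul (sub_counit_mem a) (sub_counit_mem c)
    simp only [sub_mul, mul_sub, smul_mul_assoc, mul_smul_comm, one_mul, mul_one, map_sub, map_smul, hq1,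
      smul_zero, sub_zero, sub_eq_zero] at h0
    rw [sub_eq_iff_eq_add] at h0
    rw [h0]
    abel
  refine ⟨fun i => (x i : A), fun i => b.coord i ∘ₗ q, ⟨fun i => (x i).2, fun i a c => ?_, fun i j => ?_⟩,
    fun a ha => ?_⟩
  · show b.coord i (q (a * c)) = _
    rw [hqm, map_add, map_smul, map_smul]
    rfl
  · show b.coord i (q (x j : A)) = _
    rw [hq _ (x j).2, Subtype.coe_eta, hx, Module.Basis.coord_apply, Module.Basis.repr_self, Finsupp.single_apply]
    by_cases h : i = j
    · subst h; simp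
    · rw [if_neg h, if_neg (Ne.symm h)]
  · have h : a - ∑ i, (b.coord i ∘ₗ q) a • (x i : A) ∈ aug k A :=
      sub_mem ha (Submodule.sum_mem _ fun i _ => Submodule.smul_of_tower_mem _ _ (x i).2)
    rw [← Ideal.toCotangent_eq_zero _ ⟨_, h⟩, ← hq _ h, map_sub, map_sum, sub_eq_zero]
    simp only [map_smul, hq _ (x _).2, Subtype.coe_eta, hx, LinearMap.comp_apply, Module.Basis.coord_apply]
    exact (b.sum_repr (q a)).symm

variable {r : ℕ} {x : Fin r → A} {d : Fin r → (A →ₗ[k] k)}

/-- For height one, the restricted monomials form a basis. -/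
theorem monomial_basis (ℓ : ℕ) [Fact ℓ.Prime] [CharP k ℓ] [Module.Finite k A] (S : Sys r x d)
    (hgen : ∀ a ∈ aug k A, a - ∑ i, d i a • x i ∈ aug k A ^ 2)
    (hh : ∀ a ∈ aug k A, a ^ ℓ = 0) :
    ∃ b : Module.Basis (Fin r → Fin ℓ) k A, ∀ a, b a = ∏ i, x i ^ (a i : ℕ) := by
  classical
  haveI : IsArtinianRing A := IsArtinianRing.of_finite k A
  have hnil : aug k A ≤ nilradical A := fun a ha => ⟨ℓ, hh a ha⟩
  obtain ⟨N, hN⟩ : IsNilpotent (aug k A) := by
    obtain ⟨N, hN⟩ := IsArtinianRing.isNilpotent_nilradical (R := A)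
    refine ⟨N, le_bot_iff.1 ?_⟩
    rw [← Ideal.zero_eq_bot, ← hN]
    exact Ideal.pow_right_mono hnil N
  set P := Algebra.adjoin k (Set.range x)
  have hP : ∀ n : ℕ, ∀ a : A, ∃ p ∈ P, a - p ∈ aug k A ^ (n + 1) := by
    intro n
    induction n with
    | zero => exact fun a => ⟨_, P.smul_mem P.one_mem _, by rw [pow_one]; exact sub_counit_mem a⟩
    | succ n ih =>
      have hgenmem : ∀ a ∈ aug k A ^ (n + 1), ∃ p ∈ P, a - p ∈ aug k A ^ (n + 1 + 1) := by
        intro a ha
        rw [pow_succ] at ha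
        induction ha using Submodule.mul_induction_on' with
        | mem_mul_mem b hb c hc =>
          obtain ⟨p, hp, hp'⟩ := ih b
          refine ⟨∑ i, d i c • (p * x i), P.sum_mem fun i _ => P.smul_mem
            (P.mul_mem hp (Algebra.subset_adjoin ⟨i, rfl⟩)) _, ?_⟩
          have h1 : b * c - ∑ i, d i c • (p * x i) =
              b * (c - ∑ i, d i c • x i) + (b - p) * ∑ i, d i c • x i := by
            simp only [mul_smul_comm, mul_sub, sub_mul, Finset.mul_sum, smul_sub, Finset.sum_sub_distrib]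
            abel
          rw [h1]
          refine add_mem ?_ ?_
          · have : b * (c - ∑ i, d i c • x i) ∈ aug k A ^ n * aug k A ^ 2 := Ideal.mul_mem_mul hb (hgen c hc)
            rwa [← pow_add] at this
          · rw [pow_succ]
            exact Ideal.mul_mem_mul hp'
              (Submodule.sum_mem _ fun i _ => Submodule.smul_of_tower_mem _ _ (S.hx i))
        | add b _ c _ hb hc =>
          obtain ⟨p, hp, hp'⟩ := hb
          obtain ⟨p', hp1, hp1'⟩ := hc
          exact ⟨p + p', P.add_mem hp hp1, by rw [add_sub_add_comm]; exact add_mem hp' hp1'⟩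
      intro a
      obtain ⟨p, hp, hp'⟩ := ih a
      obtain ⟨p', hp1, hp1'⟩ := hgenmem _ hp'
      exact ⟨p + p', P.add_mem hp hp1, by rw [← sub_sub]; exact hp1'⟩
  have htop : ∀ a : A, a ∈ P := fun a => by
    obtain ⟨p, hp, hp'⟩ := hP N a
    rw [pow_succ, hN, zero_mul, Ideal.zero_eq_bot, Ideal.mem_bot, sub_eq_zero] at hp'
    rwa [hp']
  have hli : LinearIndependent k fun a : Fin r → Fin ℓ => ∏ i, x i ^ (a i : ℕ) :=
    linearIndependent_monomials S ℓ fun c hc hcl => by
      rw [Ne, CharP.cast_eq_zero_iff k ℓ]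
      exact fun h => absurd (Nat.le_of_dvd (Nat.pos_of_ne_zero hc) h) (by omega)
  refine ⟨Module.Basis.mk hli fun a _ => ?_, fun a => Module.Basis.mk_apply _ _ a⟩
  obtain ⟨f, rfl⟩ : a ∈ (MvPolynomial.aeval (R := k) x).range := by
    rw [← Algebra.adjoin_range_eq_range_aeval]; exact htop a
  rw [MvPolynomial.as_sum f]
  simp only [AlgHom.toRingHom_eq_coe, RingHom.coe_coe, map_sum]
  refine Submodule.sum_mem _ fun s _ => ?_
  rw [MvPolynomial.aeval_monomial, ← Algebra.smul_def, Finsupp.prod_fintype _ _ (by simp)]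
  refine Submodule.smul_mem _ _ ?_
  by_cases h : ∀ i, s i < ℓ
  · exact Submodule.subset_span ⟨fun i => ⟨s i, h i⟩, rfl⟩
  · push_neg at h
    obtain ⟨i, hi⟩ := h
    rw [Finset.prod_eq_zero (f := fun i => x i ^ s i) (Finset.mem_univ i) (pow_eq_zero_of_le hi (hh _ (S.hx i)))]
    exact zero_mem _

end Groth.Agent.Lib.OT67
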