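import Groth.Agent.Lib.OT67.HenselDual
import Mathlib

/-!
Lifting finite etale Hopf algebras along a henselian local ring, and base change of the Cartier dual.
-/

open TensorProduct WithConv

set_option linter.style.haveILetI false

universe u

namespace Groth.Agent.Lib.OT67.HenselLift

noncomputable section

section Dual

variable {R : Type u} [CommRing R] (S : Type u) [CommRing S] [Algebra R S] (A : Type u) [CommRing A] [HopfAlgebra R A]
  [Module.Finite R A] [Module.Projective R A] [Coalgebra.IsCocomm R A]

theorem bcEquiv_one_tmul (x : CartDual.D R A) (a : A) :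
    (SplitMult.bcEquiv (R := R) S A ((1 : S) ⊗ₜ x)).ofConv ((1 : S) ⊗ₜ[R] a) = algebraMap R S (x.ofConv a) := by
  show (SplitMult.bcAlg (R := R) S A ((1 : S) ⊗ₜ x)).ofConv ((1 : S) ⊗ₜ[R] a) = _
  rw [SplitMult.bcAlg_apply, SplitMult.bcLift_tmul, one_smul]
  show (bcForm S x).ofConv ((1 : S) ⊗ₜ[R] a) = _
  rw [bcForm_apply, one_mul]

set_option maxHeartbeats 1000000 in
/-- The Cartier dual commutes with base change. -/
def bcBialgEquiv : S ⊗[R] CartDual.D R A ≃ₐc[S] CartDual.D S (S ⊗[R] A) := by
  refine @BialgEquiv.ofAlgEquiv S (S ⊗[R] CartDual.D R A) (CartDual.D S (S ⊗[R] A)) _ _ _ _ _ (SplitMult.bcEquiv (R := R) S A) ?_ ?_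
  · (
      refine Algebra.TensorProduct.ext' fun s x => ?_
      rw [show s ⊗ₜ[R] x = s • ((1 : S) ⊗ₜ[R] x) by rw [TensorProduct.smul_tmul', smul_eq_mul, mul_one], map_smul, map_smul]
      congr 1
      show (SplitMult.bcEquiv (R := R) S A ((1 : S) ⊗ₜ x)).ofConv ((1 : S) ⊗ₜ[R] (1 : A)) = _
      rw [bcEquiv_one_tmul, Bialgebra.counitAlgHom_apply, TensorProduct.counit_tmul, CommSemiring.counit_apply,
        Algebra.smul_def, mul_one]
      rfl)
  · (
      refine Algebra.TensorProduct.ext' fun s x => ?_
      rw [show s ⊗ₜ[R] x = s • ((1 : S) ⊗ₜ[R] x) by rw [TensorProduct.smul_tmul', smul_eq_mul, mul_one], map_smul, map_smul]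
      congr 1
      simp only [AlgHom.comp_apply, Bialgebra.comulAlgHom_apply, AlgEquiv.toAlgHom_eq_coe, AlgHom.coe_coe]
      apply (CartDual.ev₂ S (S ⊗[R] A)).injective
      refine TensorProduct.ext' fun u v => ?_
      rw [CartDual.ev₂_coalgebra_comul_tmul, comul_one_tmul]
      induction u using TensorProduct.induction_on with
      | zero => simp
      | add p q hp hq => simp only [TensorProduct.add_tmul, map_add, add_mul, hp, hq]
      | tmul c a =>
      induction v using TensorProduct.induction_on with
      | zero => simp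
      | add p q hp hq => simp only [TensorProduct.tmul_add, map_add, mul_add, hp, hq]
      | tmul c' a' =>
      rw [show c ⊗ₜ[R] a = c • ((1 : S) ⊗ₜ[R] a) by rw [TensorProduct.smul_tmul', smul_eq_mul, mul_one],
        show c' ⊗ₜ[R] a' = c' • ((1 : S) ⊗ₜ[R] a') by rw [TensorProduct.smul_tmul', smul_eq_mul, mul_one],
        TensorProduct.smul_tmul_smul, map_smul, smul_mul_smul_comm, map_smul]
      congr 1
      show _ = (SplitMult.bcEquiv (R := R) S A ((1 : S) ⊗ₜ x)).ofConv (((1 : S) ⊗ₜ[R] a) * ((1 : S) ⊗ₜ[R] a'))
      rw [Algebra.TensorProduct.tmul_mul_tmul, one_mul, bcEquiv_one_tmul, show x.ofConv (a * a') = x (a * a') from rfl, ← CartDual.ev₂_coalgebra_comul_tmul R A x]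
      generalize CoalgebraStruct.comul (R := R) x = z
      induction z using TensorProduct.induction_on with
      | zero => simp
      | tmul p q =>
        simp only [TensorProduct.map_tmul, TensorProduct.mapOfCompatibleSMul_tmul, TensorProduct.mk_apply,
          Algebra.TensorProduct.map_tmul, AlgHom.coe_coe, CartDual.ev₂_tmul]
        show (SplitMult.bcEquiv (R := R) S A ((1 : S) ⊗ₜ p)).ofConv ((1 : S) ⊗ₜ[R] a) *
          (SplitMult.bcEquiv (R := R) S A ((1 : S) ⊗ₜ q)).ofConv ((1 : S) ⊗ₜ[R] a') = _
        rw [bcEquiv_one_tmul, bcEquiv_one_tmul, ← map_mul]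
      | add p q hp hq => simp only [map_add, LinearMap.add_apply, hp, hq])

end Dual

section Lift

variable {R : Type u} [CommRing R] [HenselianLocalRing R]
variable {N N₀ : Type u} [CommRing N] [Algebra R N] [CommRing N₀] [Algebra R N₀]
  [Algebra (IsLocalRing.ResidueField R) N₀] [IsScalarTower R (IsLocalRing.ResidueField R) N₀]

/-- The comparison with the closed fibre. -/
def red (q : N →ₐ[R] N₀) : IsLocalRing.ResidueField R ⊗[R] N →ₐ[IsLocalRing.ResidueField R] N₀ :=
  Algebra.TensorProduct.lift (Algebra.ofId _ N₀) q fun _ _ => Commute.all _ _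

theorem red_one_tmul (q : N →ₐ[R] N₀) (x : N) : red q ((1 : IsLocalRing.ResidueField R) ⊗ₜ x) = q x := by
  simp [red]

theorem uniq {q : N →ₐ[R] N₀} (hq : Function.Bijective (red q)) [Module.Finite R N] {E : Type u} [CommRing E]
    [Algebra R E] [Algebra.Etale R E] {a b : E →ₐ[R] N} (h : q.comp a = q.comp b) : a = b :=
  (HenselDual.red_bijective E N).1 (AlgHom.ext fun x => hq.1 (by
    simp only [AlgHom.comp_apply, Algebra.TensorProduct.includeRight_apply, red_one_tmul]
    exact AlgHom.congr_fun h x))

theorem exists_lift {q : N →ₐ[R] N₀} (hq : Function.Bijective (red q)) [Module.Finite R N] {E : Type u} [CommRing E]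
    [Algebra R E] [Algebra.Etale R E] (g : E →ₐ[R] N₀) : ∃ a : E →ₐ[R] N, ∀ x, q (a x) = g x := by
  let e := AlgEquiv.ofBijective (red q) hq
  obtain ⟨a, ha⟩ := (HenselDual.red_bijective E N).2 ((e.symm.toAlgHom.restrictScalars R).comp g)
  refine ⟨a, fun x => ?_⟩
  rw [← red_one_tmul q]
  have := congrArg e (AlgHom.congr_fun ha x)
  exact this.trans (e.apply_symm_apply _)

variable {N' N₀' : Type u} [CommRing N'] [Algebra R N'] [CommRing N₀'] [Algebra R N₀']
  [Algebra (IsLocalRing.ResidueField R) N₀'] [IsScalarTower R (IsLocalRing.ResidueField R) N₀']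

/-- The product of two reductions. -/
def tens (q : N →ₐ[R] N₀) (q' : N' →ₐ[R] N₀') : N ⊗[R] N' →ₐ[R] N₀ ⊗[IsLocalRing.ResidueField R] N₀' :=
  Algebra.TensorProduct.lift
    ((Algebra.TensorProduct.includeLeft : N₀ →ₐ[R] N₀ ⊗[IsLocalRing.ResidueField R] N₀').comp q)
    (((Algebra.TensorProduct.includeRight :
      N₀' →ₐ[IsLocalRing.ResidueField R] N₀ ⊗[IsLocalRing.ResidueField R] N₀').restrictScalars R).comp q')
    fun _ _ => Commute.all _ _

theorem tens_tmul (q : N →ₐ[R] N₀) (q' : N' →ₐ[R] N₀') (x : N) (y : N') : tens q q' (x ⊗ₜ y) = q x ⊗ₜ q' y := by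
  simp [tens]

theorem red_tens {q : N →ₐ[R] N₀} {q' : N' →ₐ[R] N₀'} (hq : Function.Bijective (red q))
    (hq' : Function.Bijective (red q')) : Function.Bijective (red (tens q q')) := by
  have h : ⇑(red (tens q q')) =
      ⇑(TensorProduct.congr (LinearEquiv.ofBijective (red q).toLinearMap hq) (LinearEquiv.ofBijective (red q').toLinearMap hq')) ∘
      ⇑(TensorProduct.AlgebraTensorModule.distribBaseChange R (IsLocalRing.ResidueField R) N N') := by
    funext z
    induction z using TensorProduct.induction_on with
    | zero => simp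
    | add a b ha hb => simp only [Function.comp_apply, map_add] at ha hb ⊢; rw [ha, hb]
    | tmul s w =>
      induction w using TensorProduct.induction_on with
      | zero => simp
      | add a b ha hb => simp only [Function.comp_apply, TensorProduct.tmul_add, map_add] at ha hb ⊢; rw [ha, hb]
      | tmul x y =>
        simp [red, tens_tmul, Algebra.smul_def]
  rw [h]
  exact (LinearEquiv.bijective _).comp (LinearEquiv.bijective _)

theorem red_id : Function.Bijective (red (Algebra.ofId R (IsLocalRing.ResidueField R))) := by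
  have h : ⇑(red (Algebra.ofId R (IsLocalRing.ResidueField R))) =
      ⇑(TensorProduct.AlgebraTensorModule.rid R (IsLocalRing.ResidueField R) (IsLocalRing.ResidueField R)) := by
    funext z
    induction z using TensorProduct.induction_on with
    | zero => simp
    | add a b ha hb => simp only [map_add, ha, hb]
    | tmul s r => simp [red, Algebra.smul_def, mul_comm]
  rw [h]
  exact LinearEquiv.bijective _

end Lift

section Hopf

variable {R : Type u} [CommRing R] [HenselianLocalRing R] {T : Type u} [CommRing T] [Algebra R T] [Algebra.Etale R T]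
  [Module.Finite R T]

set_option maxHeartbeats 1000000 in
/-- A finite etale lift of a cocommutative Hopf algebra is a cocommutative Hopf algebra. -/
theorem exists_hopf (D₀ : Type u) [CommRing D₀] [HopfAlgebra (IsLocalRing.ResidueField R) D₀]
    [Coalgebra.IsCocomm (IsLocalRing.ResidueField R) D₀] [Algebra R D₀] [IsScalarTower R (IsLocalRing.ResidueField R) D₀]
    (π : T →ₐ[R] D₀) (hπ : Function.Bijective (red π))
    [Module.Finite (IsLocalRing.ResidueField R) D₀] :
    ∃ (C : Type u) (_ : CommRing C) (_ : HopfAlgebra R C), Module.Finite R C ∧ Module.Projective R C ∧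
      ∃ (_ : Coalgebra.IsCocomm R C), Algebra.Etale R (CartDual.D R C) ∧
      Nonempty (IsLocalRing.ResidueField R ⊗[R] C ≃ₐc[IsLocalRing.ResidueField R]
        CartDual.D (IsLocalRing.ResidueField R) D₀) := by
  have h₂ := red_tens hπ hπ
  have h₃ := red_tens hπ h₂
  obtain ⟨Δ, hΔ⟩ := exists_lift h₂ (((Bialgebra.comulAlgHom (IsLocalRing.ResidueField R) D₀).restrictScalars R).comp π)
  obtain ⟨ε, hε⟩ := exists_lift (red_id (R := R)) (((Bialgebra.counitAlgHom (IsLocalRing.ResidueField R) D₀).restrictScalars R).comp π)
  obtain ⟨σ, hσ⟩ := exists_lift hπ (((HopfAlgebra.antipodeAlgHom (IsLocalRing.ResidueField R) D₀).restrictScalars R).comp π)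
  have hΔ' : ∀ x, tens π π (Δ x) = CoalgebraStruct.comul (R := (IsLocalRing.ResidueField R)) (π x) := hΔ
  have hε' : ∀ x, algebraMap R (IsLocalRing.ResidueField R) (ε x) = CoalgebraStruct.counit (R := (IsLocalRing.ResidueField R)) (π x) := hε
  have hσ' : ∀ x, π (σ x) = HopfAlgebra.antipode (IsLocalRing.ResidueField R) (π x) := hσ
  have hco : (Algebra.TensorProduct.assoc R R R T T T).toAlgHom.comp
      ((Algebra.TensorProduct.map Δ (.id R T)).comp Δ) = (Algebra.TensorProduct.map (.id R T) Δ).comp Δ := by
    refine uniq h₃ (AlgHom.ext fun x => ?_)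
    have e1 : ∀ z : T ⊗[R] T, tens π (tens π π)
        (Algebra.TensorProduct.assoc R R R T T T (Algebra.TensorProduct.map Δ (.id R T) z)) =
        TensorProduct.assoc (IsLocalRing.ResidueField R) D₀ D₀ D₀ (TensorProduct.map (CoalgebraStruct.comul (R := (IsLocalRing.ResidueField R))) LinearMap.id (tens π π z)) := by
      intro z
      induction z using TensorProduct.induction_on with
      | zero => simp
      | add a b ha hb => simp only [map_add, ha, hb]
      | tmul p q =>
        rw [Algebra.TensorProduct.map_tmul, AlgHom.id_apply, tens_tmul, TensorProduct.map_tmul, LinearMap.id_apply, ← hΔ']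
        generalize Δ p = w
        induction w using TensorProduct.induction_on with
        | zero => simp
        | add a b ha hb => simp only [TensorProduct.add_tmul, map_add, ha, hb]
        | tmul u v => simp [tens_tmul]
    have e2 : ∀ z : T ⊗[R] T, tens π (tens π π) (Algebra.TensorProduct.map (.id R T) Δ z) =
        TensorProduct.map LinearMap.id (CoalgebraStruct.comul (R := (IsLocalRing.ResidueField R))) (tens π π z) := by
      intro z
      induction z using TensorProduct.induction_on with
      | zero => simp
      | add a b ha hb => simp only [map_add, ha, hb]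
      | tmul p q => simp [tens_tmul, hΔ']
    show tens π (tens π π) (Algebra.TensorProduct.assoc R R R T T T (Algebra.TensorProduct.map Δ (.id R T) (Δ x))) =
      tens π (tens π π) (Algebra.TensorProduct.map (.id R T) Δ (Δ x))
    rw [e1, e2, hΔ']
    exact Coalgebra.coassoc_apply (π x)
  have hr : (Algebra.TensorProduct.map ε (.id R T)).comp Δ = (Algebra.TensorProduct.lid R T).symm := by
    have h : (Algebra.TensorProduct.lid R T).toAlgHom.comp ((Algebra.TensorProduct.map ε (.id R T)).comp Δ) = AlgHom.id R T := by
      refine uniq hπ (AlgHom.ext fun x => ?_)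
      have e1 : ∀ z : T ⊗[R] T, π (Algebra.TensorProduct.lid R T (Algebra.TensorProduct.map ε (.id R T) z)) =
          TensorProduct.lid (IsLocalRing.ResidueField R) D₀ (TensorProduct.map (CoalgebraStruct.counit (R := (IsLocalRing.ResidueField R))) LinearMap.id (tens π π z)) := by
        intro z
        induction z using TensorProduct.induction_on with
        | zero => simp
        | add a b ha hb => simp only [map_add, ha, hb]
        | tmul p q => simp [tens_tmul, ← hε', Algebra.smul_def, IsScalarTower.algebraMap_apply R (IsLocalRing.ResidueField R) D₀]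
      show π (Algebra.TensorProduct.lid R T (Algebra.TensorProduct.map ε (.id R T) (Δ x))) = π x
      rw [e1, hΔ']
      have h5 := Coalgebra.rTensor_counit_comul (R := (IsLocalRing.ResidueField R)) (π x)
      rw [LinearMap.rTensor] at h5
      rw [h5]; simp
    exact AlgHom.ext fun x => (Algebra.TensorProduct.lid R T).injective
      ((AlgHom.congr_fun h x).trans ((Algebra.TensorProduct.lid R T).apply_symm_apply x).symm)
  have hl : (Algebra.TensorProduct.map (.id R T) ε).comp Δ = (Algebra.TensorProduct.rid R R T).symm := by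
    have h : (Algebra.TensorProduct.rid R R T).toAlgHom.comp ((Algebra.TensorProduct.map (.id R T) ε).comp Δ) = AlgHom.id R T := by
      refine uniq hπ (AlgHom.ext fun x => ?_)
      have e1 : ∀ z : T ⊗[R] T, π (Algebra.TensorProduct.rid R R T (Algebra.TensorProduct.map (.id R T) ε z)) =
          TensorProduct.rid (IsLocalRing.ResidueField R) D₀ (TensorProduct.map LinearMap.id (CoalgebraStruct.counit (R := (IsLocalRing.ResidueField R))) (tens π π z)) := by
        intro z
        induction z using TensorProduct.induction_on with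
        | zero => simp
        | add a b ha hb => simp only [map_add, ha, hb]
        | tmul p q => simp [tens_tmul, ← hε', Algebra.smul_def, IsScalarTower.algebraMap_apply R (IsLocalRing.ResidueField R) D₀]
      show π (Algebra.TensorProduct.rid R R T (Algebra.TensorProduct.map (.id R T) ε (Δ x))) = π x
      rw [e1, hΔ']
      have h5 := Coalgebra.lTensor_counit_comul (R := (IsLocalRing.ResidueField R)) (π x)
      rw [LinearMap.lTensor] at h5
      rw [h5]; simp
    exact AlgHom.ext fun x => (Algebra.TensorProduct.rid R R T).injective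
      ((AlgHom.congr_fun h x).trans ((Algebra.TensorProduct.rid R R T).apply_symm_apply x).symm)
  letI bT : Bialgebra R T := Bialgebra.ofAlgHom Δ ε hco hr hl
  have hs₁ : ((Algebra.TensorProduct.lift σ (.id R T) fun _ _ => Commute.all _ _).comp Δ) = (Algebra.ofId R T).comp ε := by
    refine uniq hπ (AlgHom.ext fun x => ?_)
    have e1 : ∀ z : T ⊗[R] T, π (Algebra.TensorProduct.lift σ (.id R T) (fun _ _ => Commute.all _ _) z) =
        LinearMap.mul' (IsLocalRing.ResidueField R) D₀ ((HopfAlgebra.antipode (IsLocalRing.ResidueField R)).rTensor D₀ (tens π π z)) := by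
      intro z
      induction z using TensorProduct.induction_on with
      | zero => simp
      | add a b ha hb => simp only [map_add, ha, hb]
      | tmul p q => simp [tens_tmul, hσ']
    show π (Algebra.TensorProduct.lift σ (.id R T) (fun _ _ => Commute.all _ _) (Δ x)) = π (algebraMap R T (ε x))
    rw [e1, hΔ', HopfAlgebra.mul_antipode_rTensor_comul_apply, AlgHom.commutes, ← hε', ← IsScalarTower.algebraMap_apply]
  have hs₂ : ((Algebra.TensorProduct.lift (.id R T) σ fun _ _ => Commute.all _ _).comp Δ) = (Algebra.ofId R T).comp ε := by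
    refine uniq hπ (AlgHom.ext fun x => ?_)
    have e1 : ∀ z : T ⊗[R] T, π (Algebra.TensorProduct.lift (.id R T) σ (fun _ _ => Commute.all _ _) z) =
        LinearMap.mul' (IsLocalRing.ResidueField R) D₀ ((HopfAlgebra.antipode (IsLocalRing.ResidueField R)).lTensor D₀ (tens π π z)) := by
      intro z
      induction z using TensorProduct.induction_on with
      | zero => simp
      | add a b ha hb => simp only [map_add, ha, hb]
      | tmul p q => simp [tens_tmul, hσ']
    show π (Algebra.TensorProduct.lift (.id R T) σ (fun _ _ => Commute.all _ _) (Δ x)) = π (algebraMap R T (ε x))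
    rw [e1, hΔ', HopfAlgebra.mul_antipode_lTensor_comul_apply, AlgHom.commutes, ← hε', ← IsScalarTower.algebraMap_apply]
  letI hT : HopfAlgebra R T := HopfAlgebra.ofAlgHom σ hs₁ hs₂
  suffices hfin : (∃ θ : (IsLocalRing.ResidueField R) ⊗[R] T →ₐc[(IsLocalRing.ResidueField R)] D₀, Function.Bijective θ) ∧ Coalgebra.IsCocomm R T by
    obtain ⟨⟨θ, hθ⟩, hcc⟩ := hfin
    haveI := hcc
    haveI : Module.FinitePresentation R T := Module.FinitePresentation.of_finite_of_finitePresentation R T
    haveI : Module.Projective R T := Module.Flat.projective_of_finitePresentation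
    refine ⟨CartDual.D R T, inferInstance, inferInstance, inferInstance, inferInstance, inferInstance,
      Algebra.Etale.of_equiv (AlgEquiv.ofBijective (CartDual.eval R T : T →ₐ[R] CartDual.D R (CartDual.D R T))
        (Triple.eval_bijective T)), ⟨?_⟩⟩
    let θ' : (IsLocalRing.ResidueField R) ⊗[R] T ≃ₐc[(IsLocalRing.ResidueField R)] D₀ := BialgEquiv.ofBijective θ hθ
    exact (bcBialgEquiv (IsLocalRing.ResidueField R) T).trans (@BialgEquiv.ofBijective (IsLocalRing.ResidueField R) (CartDual.D (IsLocalRing.ResidueField R) ((IsLocalRing.ResidueField R) ⊗[R] T)) (CartDual.D (IsLocalRing.ResidueField R) D₀) _ _ _ _ _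
      (CartDual.transpose (IsLocalRing.ResidueField R) (θ'.symm : D₀ →ₐc[(IsLocalRing.ResidueField R)] (IsLocalRing.ResidueField R) ⊗[R] T))
      (Triple.transpose_bijective _ (EquivLike.bijective θ'.symm)))
  refine ⟨⟨(BialgEquiv.ofAlgEquiv (AlgEquiv.ofBijective (red π) hπ)
    (AlgHom.ext fun z => ?_) (AlgHom.ext fun z => ?_) : (IsLocalRing.ResidueField R) ⊗[R] T ≃ₐc[(IsLocalRing.ResidueField R)] D₀), EquivLike.bijective _⟩,
    ⟨LinearMap.ext fun x => ?_⟩⟩
  · induction z using TensorProduct.induction_on with
    | zero => simp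
    | add a b ha hb => simp only [map_add, ha, hb]
    | tmul s x =>
      rw [show s ⊗ₜ[R] x = s • ((1 : (IsLocalRing.ResidueField R)) ⊗ₜ[R] x) by rw [TensorProduct.smul_tmul', smul_eq_mul, mul_one], map_smul, map_smul]
      congr 1
      show CoalgebraStruct.counit (R := (IsLocalRing.ResidueField R)) (red π ((1 : (IsLocalRing.ResidueField R)) ⊗ₜ x)) = CoalgebraStruct.counit (R := (IsLocalRing.ResidueField R)) ((1 : (IsLocalRing.ResidueField R)) ⊗ₜ[R] x)
      rw [red_one_tmul, ← hε', TensorProduct.counit_tmul, CommSemiring.counit_apply, Algebra.smul_def, mul_one]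
      rfl
  · induction z using TensorProduct.induction_on with
    | zero => simp
    | add a b ha hb => simp only [map_add, ha, hb]
    | tmul s x =>
      rw [show s ⊗ₜ[R] x = s • ((1 : (IsLocalRing.ResidueField R)) ⊗ₜ[R] x) by rw [TensorProduct.smul_tmul', smul_eq_mul, mul_one], map_smul, map_smul]
      congr 1
      show Algebra.TensorProduct.map _ _ (CoalgebraStruct.comul (R := (IsLocalRing.ResidueField R)) ((1 : (IsLocalRing.ResidueField R)) ⊗ₜ[R] x)) =
        CoalgebraStruct.comul (R := (IsLocalRing.ResidueField R)) (red π ((1 : (IsLocalRing.ResidueField R)) ⊗ₜ x))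
      rw [red_one_tmul, ← hΔ', comul_one_tmul]
      show Algebra.TensorProduct.map _ _ ((TensorProduct.mapOfCompatibleSMul (IsLocalRing.ResidueField R) R R ((IsLocalRing.ResidueField R) ⊗[R] T) ((IsLocalRing.ResidueField R) ⊗[R] T))
        (TensorProduct.map (TensorProduct.mk R (IsLocalRing.ResidueField R) T 1) (TensorProduct.mk R (IsLocalRing.ResidueField R) T 1) (Δ x))) = _
      generalize Δ x = w
      induction w using TensorProduct.induction_on with
      | zero => simp
      | add a b ha hb => simp only [map_add, ha, hb]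
      | tmul p q => simp [tens_tmul, red_one_tmul]
  · have h : (Algebra.TensorProduct.comm R T T).toAlgHom.comp Δ = Δ := by
      refine uniq h₂ (AlgHom.ext fun y => ?_)
      have e1 : ∀ z : T ⊗[R] T, tens π π (Algebra.TensorProduct.comm R T T z) = TensorProduct.comm (IsLocalRing.ResidueField R) D₀ D₀ (tens π π z) := by
        intro z
        induction z using TensorProduct.induction_on with
        | zero => simp
        | add a b ha hb => simp only [map_add, ha, hb]
        | tmul p q => simp [tens_tmul]
      show tens π π (Algebra.TensorProduct.comm R T T (Δ y)) = tens π π (Δ y)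
      rw [e1, hΔ', Coalgebra.comm_comul]
    exact AlgHom.congr_fun h x

end Hopf

end

end Groth.Agent.Lib.OT67.HenselLift
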