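import Groth.Agent.H83.MultType.Lift
import Mathlib

/-!
Maps of Hopf algebras which are bialgebra homomorphisms modulo an ideal of the base ring.
-/

open TensorProduct

set_option linter.style.haveILetI false

universe u

namespace Groth.Agent.Lib.OT67.HomMod

noncomputable section

open Groth.Agent.H83.MultType

variable {A : Type u} [CommRing A]

/-- `x` dies in `(A / J) ⊗ N` exactly if it lies in `J N`. -/
theorem one_tmul_eq_zero_iff {J : Ideal A} {N : Type u} [AddCommGroup N] [Module A N] {x : N} :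
    (1 : A ⧸ J) ⊗ₜ[A] x = 0 ↔ x ∈ (J • ⊤ : Submodule A N) := by
  rw [← Submodule.Quotient.mk_eq_zero, ← TensorProduct.quotTensorEquivQuotSMul_mk_one_tmul,
    LinearEquiv.map_eq_zero_iff]

/-- Elements of `J N` die in `R ⊗ N` if `J` dies in `R`. -/
theorem one_tmul_eq_zero {J : Ideal A} {N : Type u} [AddCommGroup N] [Module A N] (R : Type u) [CommRing R]
    [Algebra A R] (hJ : ∀ a ∈ J, algebraMap A R a = 0) {x : N} (hx : x ∈ (J • ⊤ : Submodule A N)) :
    (1 : R) ⊗ₜ[A] x = 0 := by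
  refine Submodule.smul_induction_on (p := fun x => (1 : R) ⊗ₜ[A] x = 0) hx (fun a ha y _ => ?_) fun a b ha hb => ?_
  · rw [TensorProduct.tmul_smul, TensorProduct.smul_tmul', Algebra.smul_def, hJ a ha, zero_mul, TensorProduct.zero_tmul]
  · rw [TensorProduct.tmul_add, ha, hb, add_zero]

/-- The converse for a quotient. -/
theorem mem_of_one_tmul_eq_zero {J : Ideal A} {N : Type u} [AddCommGroup N] [Module A N] {R : Type u} [CommRing R]
    [Algebra A R] (π : R →ₐ[A] A ⧸ J) {x : N} (hx : (1 : R) ⊗ₜ[A] x = 0) : x ∈ (J • ⊤ : Submodule A N) := by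
  rw [← one_tmul_eq_zero_iff]
  have h := congrArg (TensorProduct.map π.toLinearMap (LinearMap.id : N →ₗ[A] N)) hx
  simpa using h

variable {B : Type u} [CommRing B] [HopfAlgebra A B] {C : Type u} [CommRing C] [HopfAlgebra A C]

/-- A bialgebra homomorphism modulo `J`. -/
structure IsHomMod (J : Ideal A) (f : C → B) : Prop where
  map_add : ∀ a b, f (a + b) - (f a + f b) ∈ (J • ⊤ : Submodule A B)
  map_smul : ∀ (r : A) a, f (r • a) - r • f a ∈ (J • ⊤ : Submodule A B)
  map_one : f 1 - 1 ∈ (J • ⊤ : Submodule A B)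
  map_mul : ∀ a b, f (a * b) - f a * f b ∈ (J • ⊤ : Submodule A B)
  counit : ∀ a, CoalgebraStruct.counit (R := A) (f a) - CoalgebraStruct.counit (R := A) a ∈ J
  comul : ∀ a (s : Finset (C × C)), CoalgebraStruct.comul (R := A) a = ∑ i ∈ s, i.1 ⊗ₜ[A] i.2 →
    CoalgebraStruct.comul (R := A) (f a) - ∑ i ∈ s, f i.1 ⊗ₜ[A] f i.2 ∈ (J • ⊤ : Submodule A (B ⊗[A] B))

theorem comul_one_tmul (R : Type u) [CommRing R] [Algebra A R] (b : B) :
    CoalgebraStruct.comul (R := R) ((1 : R) ⊗ₜ[A] b) =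
      AlgebraTensorModule.distribBaseChange A R B B ((1 : R) ⊗ₜ[A] CoalgebraStruct.comul (R := A) b) := by
  rw [TensorProduct.comul_tmul, CommSemiring.comul_apply]
  generalize CoalgebraStruct.comul (R := A) b = z
  induction z using TensorProduct.induction_on with
  | zero => simp
  | tmul p q => simp
  | add p q hp hq => simp only [_root_.map_add, TensorProduct.tmul_add, hp, hq]

/-- A lift of a bialgebra homomorphism of reductions is a homomorphism modulo `J`. -/
theorem isHomMod_of_bialgHom {J : Ideal A} (φ : ((A ⧸ J) ⊗[A] C) →ₐc[A ⧸ J] ((A ⧸ J) ⊗[A] B)) (f : C → B)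
    (hf : ∀ c, (1 : A ⧸ J) ⊗ₜ[A] f c = φ (1 ⊗ₜ c)) : IsHomMod J f where
  map_add a b := by
    rw [← one_tmul_eq_zero_iff, TensorProduct.tmul_sub, sub_eq_zero, TensorProduct.tmul_add, hf, hf, hf, ← _root_.map_add,
      ← TensorProduct.tmul_add]
  map_smul r a := by
    rw [← one_tmul_eq_zero_iff, TensorProduct.tmul_sub, sub_eq_zero, TensorProduct.tmul_smul, hf, hf,
      TensorProduct.tmul_smul, ← IsScalarTower.algebraMap_smul (A ⧸ J) r, _root_.map_smul, IsScalarTower.algebraMap_smul]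
  map_one := by
    rw [← one_tmul_eq_zero_iff, TensorProduct.tmul_sub, sub_eq_zero, hf, ← Algebra.TensorProduct.one_def,
      _root_.map_one]
    rfl
  map_mul a b := by
    rw [← one_tmul_eq_zero_iff, TensorProduct.tmul_sub, sub_eq_zero, hf]
    have h1 : ∀ x y : B, (1 : A ⧸ J) ⊗ₜ[A] (x * y) = ((1 : A ⧸ J) ⊗ₜ[A] x) * ((1 : A ⧸ J) ⊗ₜ[A] y) := fun x y => by
      rw [Algebra.TensorProduct.tmul_mul_tmul, one_mul]
    rw [h1, hf, hf, ← _root_.map_mul, Algebra.TensorProduct.tmul_mul_tmul, one_mul]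
  counit a := by
    have h := CoalgHomClass.counit_comp_apply φ ((1 : A ⧸ J) ⊗ₜ[A] a)
    rw [← hf, TensorProduct.counit_tmul, TensorProduct.counit_tmul, CommSemiring.counit_apply, ← Algebra.algebraMap_eq_smul_one,
      ← Algebra.algebraMap_eq_smul_one] at h
    exact Ideal.Quotient.eq.1 h
  comul a s hs := by
    rw [← one_tmul_eq_zero_iff]
    apply (AlgebraTensorModule.distribBaseChange A (A ⧸ J) B B).injective
    rw [_root_.map_zero, TensorProduct.tmul_sub, _root_.map_sub, sub_eq_zero, ← comul_one_tmul, hf,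
      ← CoalgHomClass.map_comp_comul_apply φ, comul_one_tmul, hs, TensorProduct.tmul_sum, TensorProduct.tmul_sum,
      _root_.map_sum, _root_.map_sum, _root_.map_sum]
    refine Finset.sum_congr rfl fun i _ => ?_
    simp [hf]

variable {J : Ideal A} {f : C → B}

/-- Modulo `J` such a map is linear. -/
def linHom (hf : IsHomMod J f) (R : Type u) [CommRing R] [Algebra A R] (hJ : ∀ a ∈ J, algebraMap A R a = 0) :
    C →ₗ[A] R ⊗[A] B where
  toFun c := 1 ⊗ₜ f c
  map_add' a b := by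
    rw [← TensorProduct.tmul_add, ← sub_eq_zero, ← TensorProduct.tmul_sub]
    exact one_tmul_eq_zero R hJ (hf.map_add a b)
  map_smul' r a := by
    rw [RingHom.id_apply, ← TensorProduct.tmul_smul, ← sub_eq_zero, ← TensorProduct.tmul_sub]
    exact one_tmul_eq_zero R hJ (hf.map_smul r a)

/-- Modulo `J` such a map is an algebra homomorphism. -/
def algHom (hf : IsHomMod J f) (R : Type u) [CommRing R] [Algebra A R] (hJ : ∀ a ∈ J, algebraMap A R a = 0) :
    C →ₐ[A] R ⊗[A] B :=
  AlgHom.ofLinearMap (linHom hf R hJ)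
    (by
      show (1 : R) ⊗ₜ[A] f 1 = 1
      rw [Algebra.TensorProduct.one_def, ← sub_eq_zero, ← TensorProduct.tmul_sub]
      exact one_tmul_eq_zero R hJ hf.map_one)
    fun a b => by
      show (1 : R) ⊗ₜ[A] f (a * b) = ((1 : R) ⊗ₜ[A] f a) * ((1 : R) ⊗ₜ[A] f b)
      rw [Algebra.TensorProduct.tmul_mul_tmul, one_mul, ← sub_eq_zero, ← TensorProduct.tmul_sub]
      exact one_tmul_eq_zero R hJ (hf.map_mul a b)

theorem algHom_apply (hf : IsHomMod J f) (R : Type u) [CommRing R] [Algebra A R] (hJ : ∀ a ∈ J, algebraMap A R a = 0)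
    (c : C) : algHom hf R hJ c = (1 : R) ⊗ₜ f c := rfl

/-- The base change of a homomorphism modulo `J` to an algebra killed by `J`. -/
theorem exists_bialgHom (hf : IsHomMod J f) (R : Type u) [CommRing R] [Algebra A R]
    (hJ : ∀ a ∈ J, algebraMap A R a = 0) :
    ∃ ψ : (R ⊗[A] C) →ₐc[R] (R ⊗[A] B), ∀ c, ψ ((1 : R) ⊗ₜ c) = (1 : R) ⊗ₜ f c := by
  refine ⟨BialgHom.ofAlgHom (AlgHom.liftEquiv A R C (R ⊗[A] B) (algHom hf R hJ)) ?_ ?_, fun c => ?_⟩
  · refine Algebra.TensorProduct.ext (Subsingleton.elim _ _) (AlgHom.ext fun c => ?_)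
    show CoalgebraStruct.counit (R := R) (AlgHom.liftEquiv A R C (R ⊗[A] B) (algHom hf R hJ) (1 ⊗ₜ c)) =
      CoalgebraStruct.counit (R := R) ((1 : R) ⊗ₜ[A] c)
    rw [AlgHom.liftEquiv_tmul, one_smul, algHom_apply, TensorProduct.counit_tmul, TensorProduct.counit_tmul, ← sub_eq_zero,
      ← sub_smul, CommSemiring.counit_apply, ← Algebra.algebraMap_eq_smul_one]
    exact hJ _ (hf.counit c)
  · refine Algebra.TensorProduct.ext (Subsingleton.elim _ _) (AlgHom.ext fun c => ?_)
    show Algebra.TensorProduct.map (AlgHom.liftEquiv A R C (R ⊗[A] B) (algHom hf R hJ))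
        (AlgHom.liftEquiv A R C (R ⊗[A] B) (algHom hf R hJ)) (CoalgebraStruct.comul (R := R) ((1 : R) ⊗ₜ[A] c)) =
      CoalgebraStruct.comul (R := R) (AlgHom.liftEquiv A R C (R ⊗[A] B) (algHom hf R hJ) ((1 : R) ⊗ₜ[A] c))
    obtain ⟨s, hs⟩ := TensorProduct.exists_finset (CoalgebraStruct.comul (R := A) c)
    rw [AlgHom.liftEquiv_tmul, one_smul, algHom_apply, comul_one_tmul, comul_one_tmul, hs]
    have h := one_tmul_eq_zero R hJ (hf.comul c s hs)
    rw [TensorProduct.tmul_sub, sub_eq_zero] at h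
    rw [h, TensorProduct.tmul_sum, TensorProduct.tmul_sum, _root_.map_sum, _root_.map_sum, _root_.map_sum]
    refine Finset.sum_congr rfl fun i _ => ?_
    simp [algHom_apply]
  · show AlgHom.liftEquiv A R C (R ⊗[A] B) (algHom hf R hJ) (1 ⊗ₜ c) = _
    rw [AlgHom.liftEquiv_tmul, one_smul, algHom_apply]

end

end Groth.Agent.Lib.OT67.HomMod
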