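import Groth.Agent.Lib.OT67.Compound
import Groth.Agent.H87.HopfModel
import Mathlib

/-!
A flat closed subgroup over a principal ideal domain is the stabiliser of a line.
-/

open TensorProduct Module

set_option linter.style.haveILetI false

universe u

namespace Groth.Agent.Lib.OT67.LineStab

noncomputable section

variable {R : Type u} [CommRing R] {A : Type u} [CommRing A]

/-- A matrix corepresentation. -/
structure IsCorep [HopfAlgebra R A] {ι : Type*} [Fintype ι] [DecidableEq ι] (a : Matrix ι ι A) : Prop where
  comul : ∀ i j, CoalgebraStruct.comul (R := R) (a i j) = ∑ l, a i l ⊗ₜ[R] a l j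
  counit : ∀ i j, CoalgebraStruct.counit (R := R) (a i j) = if i = j then 1 else 0

variable [HopfAlgebra R A]

theorem IsCorep.inverse {ι : Type*} [Fintype ι] [DecidableEq ι] {a : Matrix ι ι A} (h : IsCorep (R := R) a) :
    a.map (HopfAlgebra.antipodeAlgHom R A) * a = 1 := by
  ext i j
  have h1 := HopfAlgebra.mul_antipode_rTensor_comul_apply (R := R) (a i j)
  rw [h.comul, h.counit] at h1
  simp only [_root_.map_sum, LinearMap.rTensor_tmul, LinearMap.mul'_apply] at h1
  rw [Matrix.mul_apply, Matrix.one_apply]
  refine h1.trans ?_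
  split_ifs <;> simp

theorem IsCorep.compound {n r : ℕ} {a : Matrix (Fin n) (Fin n) A} (h : IsCorep (R := R) a) :
    IsCorep (R := R) (Compound.compound r a) := by
  classical
  constructor
  · intro S T
    let Δ := Bialgebra.comulAlgHom R A
    have hΔ : a.map Δ = a.map (Algebra.TensorProduct.includeLeft : A →ₐ[R] A ⊗[R] A) *
        a.map (Algebra.TensorProduct.includeRight : A →ₐ[R] A ⊗[R] A) := by
      ext i j
      simp [Δ, Matrix.mul_apply, h.comul, Algebra.TensorProduct.tmul_mul_tmul]
    have := congrArg (Compound.compound r) hΔ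
    rw [Compound.compound_mul, show a.map Δ = a.map Δ.toRingHom from rfl,
      show a.map (Algebra.TensorProduct.includeLeft : A →ₐ[R] A ⊗[R] A) =
        a.map (Algebra.TensorProduct.includeLeft : A →ₐ[R] A ⊗[R] A).toRingHom from rfl,
      show a.map (Algebra.TensorProduct.includeRight : A →ₐ[R] A ⊗[R] A) =
        a.map (Algebra.TensorProduct.includeRight : A →ₐ[R] A ⊗[R] A).toRingHom from rfl,
      Compound.compound_map, Compound.compound_map, Compound.compound_map] at this
    have h1 := congrFun (congrFun this S) T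
    simp only [Matrix.mul_apply, Matrix.map_apply] at h1
    refine h1.trans ?_
    simp [Algebra.TensorProduct.tmul_mul_tmul]
  · intro S T
    have hε : a.map (Bialgebra.counitAlgHom R A).toRingHom = (1 : Matrix (Fin n) (Fin n) R) := by
      ext i j
      simp [h.counit, Matrix.one_apply]
    have h1 := congrFun (congrFun (congrArg (Compound.compound r) hε) S) T
    rw [Compound.compound_map, Compound.compound_one, Matrix.map_apply, Matrix.one_apply] at h1
    exact h1

theorem IsCorep.fromBlocks {ι κ : Type*} [Fintype ι] [DecidableEq ι] [Fintype κ] [DecidableEq κ] {a : Matrix ι ι A}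
    {b : Matrix κ κ A} (ha : IsCorep (R := R) a) (hb : IsCorep (R := R) b) :
    IsCorep (R := R) (Matrix.fromBlocks a 0 0 b) := by
  constructor
  · rintro (i | i) (j | j) <;> simp [Fintype.sum_sum_type, ha.comul, hb.comul]
  · rintro (i | i) (j | j) <;> simp [ha.counit, hb.counit]

theorem IsCorep.reindex {ι κ : Type*} [Fintype ι] [DecidableEq ι] [Fintype κ] [DecidableEq κ] {a : Matrix ι ι A}
    (ha : IsCorep (R := R) a) (e : ι ≃ κ) : IsCorep (R := R) (Matrix.reindex e e a) := by
  constructor
  · intro i j
    simp only [Matrix.reindex_apply, Matrix.submatrix_apply, ha.comul]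
    exact Fintype.sum_equiv e _ _ (fun l => by simp)
  · intro i j
    simp [ha.counit]

omit [HopfAlgebra R A] in
/-- Coefficients over a linearly independent family, tensored with a flat module. -/
theorem eq_zero_of_sum_tmul {M N : Type u} [AddCommGroup M] [Module R M] [AddCommGroup N] [Module R N] [Module.Flat R N]
    {κ : Type} [Fintype κ] [DecidableEq κ] {w : κ → M} (hw : LinearIndependent R w) {x : κ → N}
    (h : ∑ i, w i ⊗ₜ[R] x i = 0) (i : κ) : x i = 0 := by
  let ψ : (κ → R) →ₗ[R] M := Fintype.linearCombination R w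
  have hψ : Function.Injective ψ := linearIndependent_iff_injective_fintypeLinearCombination.1 hw
  have h0 : ∑ j, (Pi.single j (1 : R) : κ → R) ⊗ₜ[R] x j = 0 := by
    apply Module.Flat.rTensor_preserves_injective_linearMap (M := N) ψ hψ
    rw [_root_.map_sum, _root_.map_zero, ← h]
    exact Finset.sum_congr rfl fun j _ => by simp [ψ, Fintype.linearCombination_apply_single]
  have h1 := congrArg (fun z => TensorProduct.lid R N ((LinearMap.proj i).rTensor N z)) h0
  simpa [Pi.single_apply] using h1

set_option maxHeartbeats 800000 in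
set_option synthInstance.maxHeartbeats 100000 in
/-- A flat closed subgroup is the stabiliser of a line. -/
theorem exists_line [IsDomain R] [IsPrincipalIdealRing R] [Module.Flat R A] [Algebra.FiniteType R A]
    {B : Type u} [CommRing B] [HopfAlgebra R B] [Module.Flat R B] (π : A →ₐc[R] B) :
    ∃ (d : ℕ) (hd : 0 < d) (a : Matrix (Fin d) (Fin d) A), IsCorep (R := R) a ∧
      (∃ u : A, u * a.det = 1 ∧ Algebra.adjoin R (Set.range (fun p : Fin d × Fin d => a p.1 p.2) ∪ {u}) = ⊤) ∧
      RingHom.ker π = Ideal.span (Set.range (fun i : {i : Fin d // i ≠ ⟨0, hd⟩} => a i.1 ⟨0, hd⟩)) := by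
  classical
  haveI : IsNoetherianRing A := Algebra.FiniteType.isNoetherianRing R A
  obtain ⟨t, ht⟩ := (inferInstance : Algebra.FiniteType R A).out
  obtain ⟨g, hg⟩ := IsNoetherian.noetherian (RingHom.ker π : Ideal A)
  obtain ⟨U, hUfg, hsU, ρ, hρ, hρco⟩ := Groth.Agent.H87.HopfModel.exists_comod (B := R) (C := A)
    ((t : Set A) ∪ (g : Set A)) (t.finite_toSet.union g.finite_toSet)
  haveI : Module.Finite R U := Module.Finite.iff_fg.2 hUfg
  let q : U →ₗ[R] B := (π : A →ₐ[R] B).toLinearMap ∘ₗ U.subtype
  let W := LinearMap.ker q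
  let Q := U ⧸ W
  have hQ : Function.Injective (W.liftQ q le_rfl) :=
    LinearMap.ker_eq_bot.1 (Submodule.ker_liftQ_eq_bot' W q rfl)
  haveI : Module.IsTorsionFree R Q := Function.Injective.moduleIsTorsionFree _ hQ (fun c x => _root_.map_smul _ c x)
  haveI : Module.IsTorsionFree R U :=
    Function.Injective.moduleIsTorsionFree _ U.injective_subtype (fun c x => _root_.map_smul _ c x)
  haveI : Module.Finite R W := Module.Finite.iff_fg.2 (IsNoetherian.noetherian W)
  haveI : Module.IsTorsionFree R W := Function.Injective.moduleIsTorsionFree _ W.injective_subtype (fun c x => rfl)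
  haveI : Module.Free R W := by
    letI : AddCommGroup W := Submodule.addCommGroup W
    exact Module.free_of_finite_type_torsion_free'
  let bW := Module.finBasis R W
  let bQ := Module.finBasis R Q
  let r := Module.finrank R W
  let s := Module.finrank R Q
  let b : Basis (Fin (r + s)) R U := (bW.sumQuot bQ).reindex finSumFinEquiv
  have hbW : ∀ k : Fin r, b (Fin.castAdd s k) = (bW k : U) := fun k => by
    show ((bW.sumQuot bQ).reindex finSumFinEquiv) _ = _
    rw [Basis.reindex_apply, finSumFinEquiv_symm_apply_castAdd, Basis.sumQuot_inl]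
  have hbQ : ∀ k : Fin s, W.mkQ (b (Fin.natAdd r k)) = bQ k := fun k => by
    show W.mkQ (((bW.sumQuot bQ).reindex finSumFinEquiv) _) = _
    rw [Basis.reindex_apply, finSumFinEquiv_symm_apply_natAdd]
    exact Basis.sumQuot_inr bW bQ k
  let Δ := CoalgebraStruct.comul (R := R) (A := A)
  let a : Matrix (Fin (r + s)) (Fin (r + s)) A := fun i j => TensorProduct.lid R A ((b.coord i).rTensor A (ρ (b j)))
  have hrec : ∀ z : U ⊗[R] A, z = ∑ i, b i ⊗ₜ[R] TensorProduct.lid R A ((b.coord i).rTensor A z) := fun z => by
    induction z using TensorProduct.induction_on with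
    | zero => simp
    | tmul x y =>
      simp only [LinearMap.rTensor_tmul, TensorProduct.lid_tmul, ← TensorProduct.smul_tmul, ← TensorProduct.sum_tmul,
        Basis.coord_apply, b.sum_repr]
    | add p q hp hq => simp only [_root_.map_add, TensorProduct.tmul_add, Finset.sum_add_distrib, ← hp, ← hq]
  have hρb : ∀ j, ρ (b j) = ∑ i, b i ⊗ₜ[R] a i j := fun j => hrec _
  have hΔb : ∀ j, Δ (b j : A) = ∑ i, (b i : A) ⊗ₜ[R] a i j := fun j => by
    have := LinearMap.congr_fun hρ (b j)
    simp only [LinearMap.comp_apply, hρb, _root_.map_sum, LinearMap.rTensor_tmul, Submodule.subtype_apply] at this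
    exact this.symm
  have hcorep : IsCorep (R := R) a := by
    constructor
    · intro i j
      have h := LinearMap.congr_fun hρco (b j)
      simp only [LinearMap.comp_apply, LinearEquiv.coe_coe, hρb, _root_.map_sum, LinearMap.rTensor_tmul,
        LinearMap.lTensor_tmul, TensorProduct.sum_tmul, TensorProduct.assoc_tmul] at h
      have h2 := congrArg (fun z => TensorProduct.lid R (A ⊗[R] A) ((b.coord i).rTensor (A ⊗[R] A) z)) h
      simpa [Finsupp.single_apply] using h2.symm
    · intro i j
      have h : b j = ∑ l, CoalgebraStruct.counit (R := R) (a l j) • b l := by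
        apply Subtype.ext
        have h := congrArg (TensorProduct.rid R A) (Coalgebra.lTensor_counit_comul (R := R) (b j : A))
        rw [TensorProduct.rid_tmul, one_smul, hΔb] at h
        simpa using h.symm
      have h2 := congrArg (fun z => b.coord i z) h
      simpa [Finsupp.single_apply, eq_comm] using h2.symm
  have hgen : ∀ j, (b j : A) = ∑ i, CoalgebraStruct.counit (R := R) (b i : A) • a i j := fun j => by
    have h := congrArg (TensorProduct.lid R A) (Coalgebra.rTensor_counit_comul (R := R) (b j : A))
    rw [TensorProduct.lid_tmul, one_smul, show Coalgebra.comul (b j : A) = Δ (b j : A) from rfl, hΔb] at h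
    simpa using h.symm
  have hπW : ∀ k : Fin r, π (b (Fin.castAdd s k) : A) = 0 := fun k => by
    rw [hbW]
    exact (bW k).2
  have hrn : r ≤ r + s := Nat.le_add_right r s
  -- the lower left block lies in the kernel
  have hblock : ∀ (i : Fin s) (k : Fin r), π (a (Fin.natAdd r i) (Fin.castAdd s k)) = 0 := fun i k => by
    have h : TensorProduct.map (π : A →ₐ[R] B).toLinearMap (π : A →ₐ[R] B).toLinearMap (Δ (b (Fin.castAdd s k) : A)) = 0 := by
      rw [show TensorProduct.map (π : A →ₐ[R] B).toLinearMap (π : A →ₐ[R] B).toLinearMap (Δ (b (Fin.castAdd s k) : A)) =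
        CoalgebraStruct.comul (R := R) (π (b (Fin.castAdd s k) : A)) from CoalgHomClass.map_comp_comul_apply π _, hπW,
        _root_.map_zero]
    rw [hΔb, _root_.map_sum, Fin.sum_univ_add] at h
    simp only [TensorProduct.map_tmul] at h
    rw [Finset.sum_eq_zero (fun l _ => by
      rw [show (π : A →ₐ[R] B).toLinearMap (b (Fin.castAdd s l) : A) = 0 from hπW l, TensorProduct.zero_tmul]), zero_add] at h
    refine eq_zero_of_sum_tmul (w := fun l : Fin s => π (b (Fin.natAdd r l) : A)) ?_
      (x := fun l => π (a (Fin.natAdd r l) (Fin.castAdd s k))) h i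
    have hli := bQ.linearIndependent.map' (W.liftQ q le_rfl) (LinearMap.ker_eq_bot.2 hQ)
    have heq : (fun l : Fin s => π (b (Fin.natAdd r l) : A)) = W.liftQ q le_rfl ∘ bQ := by
      funext l
      show q (b (Fin.natAdd r l)) = W.liftQ q le_rfl (bQ l)
      rw [← hbQ]
      rfl
    rw [heq]
    exact hli
  -- the kernel
  let J : Ideal A := Ideal.span (Set.range fun p : {i : Fin (r + s) // r ≤ (i : ℕ)} × Fin r => a p.1.1 (Fin.castLE hrn p.2))
  have hker : RingHom.ker π = J := by
    refine le_antisymm ?_ (Ideal.span_le.2 ?_)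
    · rw [← hg]
      refine Ideal.span_le.2 fun x hx => ?_
      have hxU : x ∈ U := hsU (Or.inr hx)
      have hxW : (⟨x, hxU⟩ : U) ∈ W := show π x = 0 from (show x ∈ RingHom.ker π from hg ▸ Ideal.subset_span hx)
      have hcast : ∀ k : Fin r, ((bW k : U) : A) ∈ J := fun k => by
        rw [← hbW, hgen]
        refine J.sum_mem fun i _ => ?_
        induction i using Fin.addCases with
        | left l =>
          rw [show CoalgebraStruct.counit (R := R) (b (Fin.castAdd s l) : A) = 0 by
            rw [← CoalgHomClass.counit_comp_apply π, hπW, _root_.map_zero], zero_smul]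
          exact J.zero_mem
        | right l =>
          exact Submodule.smul_of_tower_mem J _ (Ideal.subset_span ⟨(⟨Fin.natAdd r l, by simp⟩, k), rfl⟩)
      have h := congrArg (fun w : W => ((w : U) : A)) (bW.sum_repr ⟨⟨x, hxU⟩, hxW⟩)
      simp only [Submodule.coe_sum, Submodule.coe_smul] at h
      show x ∈ J
      rw [← h]
      exact J.sum_mem fun k _ => Submodule.smul_of_tower_mem J _ (hcast k)
    · rintro _ ⟨⟨⟨i, hi⟩, k⟩, rfl⟩
      induction i using Fin.addCases with
      | left l => exact absurd hi (by simp)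
      | right l => exact hblock l k
  -- the representation
  let T₀ := Compound.topIdx (n := r + s) hrn
  let κ := Compound.Idx (r + s) r ⊕ Fin (r + s)
  let M : Matrix κ κ A := Matrix.fromBlocks (Compound.compound r a) 0 0 a
  have hM : IsCorep (R := R) M := hcorep.compound.fromBlocks hcorep
  let d := Fintype.card κ
  have hd : 0 < d := Fintype.card_pos_iff.2 ⟨Sum.inl T₀⟩
  let e : κ ≃ Fin d := (Fintype.equivFin κ).trans (Equiv.swap (Fintype.equivFin κ (Sum.inl T₀)) ⟨0, hd⟩)
  have he : e.symm ⟨0, hd⟩ = Sum.inl T₀ := by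
    rw [Equiv.symm_apply_eq]
    simp [e]
  let M' : Matrix (Fin d) (Fin d) A := Matrix.reindex e e M
  have hM' : IsCorep (R := R) M' := hM.reindex e
  refine ⟨d, hd, M', hM', ⟨(M'.map (HopfAlgebra.antipodeAlgHom R A)).det,
    by rw [← Matrix.det_mul, hM'.inverse, Matrix.det_one], ?_⟩, ?_⟩
  · refine eq_top_iff.2 (ht ▸ Algebra.adjoin_le fun x hx => ?_)
    set S := Algebra.adjoin R (Set.range (fun p : Fin d × Fin d => M' p.1 p.2) ∪
      {(M'.map (HopfAlgebra.antipodeAlgHom R A)).det})
    have hent : ∀ i j, a i j ∈ S := fun i j =>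
      Algebra.subset_adjoin (Or.inl ⟨(e (Sum.inr i), e (Sum.inr j)), by simp [M', M]⟩)
    have hxU : x ∈ U := hsU (Or.inl hx)
    have h := congrArg (fun w : U => (w : A)) (b.sum_repr ⟨x, hxU⟩)
    simp only [Submodule.coe_sum, Submodule.coe_smul] at h
    show x ∈ S
    rw [← h]
    refine S.sum_mem fun j _ => S.smul_mem ?_ _
    rw [hgen]
    exact S.sum_mem fun i _ => S.smul_mem (hent i j) _
  · rw [hker, show J = _ from (Compound.span_minors_eq hrn hcorep.inverse).symm]
    refine le_antisymm (Ideal.span_le.2 ?_) (Ideal.span_le.2 ?_)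
    · rintro _ ⟨⟨S, hS⟩, rfl⟩
      exact Ideal.subset_span ⟨⟨e (Sum.inl S), fun h => hS (by
        have h' := congrArg e.symm h
        rw [Equiv.symm_apply_apply, he] at h'
        exact Sum.inl_injective h')⟩, by simp [M', M, he, T₀]⟩
    · rintro _ ⟨⟨i, hi⟩, rfl⟩
      have hval : M' i ⟨0, hd⟩ = M (e.symm i) (Sum.inl T₀) := by simp [M', he]
      show M' i ⟨0, hd⟩ ∈ _
      rw [hval]
      rcases hse : e.symm i with S | l
      · refine Ideal.subset_span ⟨⟨S, fun h => hi ?_⟩, rfl⟩
        rw [h, ← he] at hse
        exact e.symm.injective hse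
      · simp [M]

end

end Groth.Agent.Lib.OT67.LineStab
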