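import Groth.Agent.Lib.OT67.HopfDescent
import Groth.Agent.Lib.OT67.QuasiIso
import Groth.Agent.H19.FlatLocus.Main
import Groth.Agent.H47.FlatModel
import Groth.Agent.H83.MultType.Quot
import Mathlib

/-!
A Noetherian local model of a finitely presented Hopf algebra over a local ring which is flat along the closed fibre.
-/

open TensorProduct

set_option linter.style.haveILetI false

universe u

namespace Groth.Agent.Lib.OT67.LocalModel

noncomputable section

/-- An element congruent to one on whose locus the algebra is flat. -/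
theorem exists_elem {R : Type u} [CommRing R] {I : Ideal R} {C : Type u} [CommRing C] [Algebra R C]
    [Algebra.FinitePresentation R C]
    (hfl : ∀ (q : Ideal C) [q.IsPrime], Ideal.map (algebraMap R C) I ≤ q → Module.Flat R (Localization.AtPrime q)) :
    ∃ h : C, h - 1 ∈ Ideal.map (algebraMap R C) I ∧ Module.Flat R (Localization.Away h) := by
  have hU := Groth.Agent.H19.FlatLocus.isOpen_flat_of_finitePresentation (R := R) (S := C) (M := C)
  obtain ⟨s, hs⟩ := (PrimeSpectrum.isClosed_iff_zeroLocus _).1 hU.isClosed_compl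
  let a := Ideal.span s
  let J := Ideal.map (algebraMap R C) I
  have key : ∀ (q : Ideal C) [q.IsPrime], Module.Flat R (LocalizedModule q.primeCompl C) ↔
      Module.Flat R (Localization.AtPrime q) := fun q _ => by
    let E : LocalizedModule q.primeCompl C ≃ₗ[R] Localization.AtPrime q :=
      (IsLocalizedModule.iso q.primeCompl (Algebra.linearMap C (Localization.AtPrime q))).restrictScalars R
    exact ⟨fun h => Module.Flat.of_linearEquiv E.symm, fun h => Module.Flat.of_linearEquiv E⟩
  have hmem : ∀ (q : Ideal C) [q.IsPrime], a ≤ q ↔ ¬ Module.Flat R (Localization.AtPrime q) := fun q _ => by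
    rw [← key q]
    have := Set.ext_iff.1 hs ⟨q, inferInstance⟩
    simp only [Set.mem_compl_iff, Set.mem_setOf_eq, PrimeSpectrum.mem_zeroLocus] at this
    rw [this, Ideal.span_le]
  have htop : a ⊔ J = ⊤ := by
    by_contra hne
    obtain ⟨M, hM, hle⟩ := Ideal.exists_le_maximal _ hne
    haveI := hM.isPrime
    exact (hmem M).1 (le_sup_left.trans hle) (hfl M (le_sup_right.trans hle))
  obtain ⟨h, hh, z, hz, hhz⟩ := Submodule.mem_sup.1 (htop ▸ Submodule.mem_top : (1 : C) ∈ a ⊔ J)
  refine ⟨h, ?_, ?_⟩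
  · rw [← hhz, sub_add_cancel_left]
    exact J.neg_mem hz
  · let S := Localization.Away h
    refine Module.flat_of_isLocalized_maximal (R := R) S S (fun P [P.IsMaximal] => Localization.AtPrime P)
      (fun P [P.IsMaximal] => Algebra.linearMap S (Localization.AtPrime P)) fun P _ => ?_
    let q : Ideal C := P.comap (algebraMap C S)
    haveI : q.IsPrime := Ideal.IsPrime.comap _
    have hflat : Module.Flat R (Localization.AtPrime q) := by
      by_contra hnf
      have := (hmem q).2 hnf hh
      exact P.primeCompl.one_mem (P.eq_top_of_isUnit_mem this (IsLocalization.Away.algebraMap_isUnit h) ▸ Submodule.mem_top)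
    haveI : IsLocalization.AtPrime (Localization.AtPrime P) q :=
      IsLocalization.isLocalization_isLocalization_atPrime_isLocalization (Submonoid.powers h) (Localization.AtPrime P) P
    exact Module.Flat.of_linearEquiv
      ((IsLocalization.algEquiv q.primeCompl (Localization.AtPrime P) (Localization.AtPrime q)).restrictScalars R).toLinearEquiv

set_option maxHeartbeats 800000 in
set_option synthInstance.maxHeartbeats 200000 in
/-- The model: a finitely generated ring, with an element cutting out a flat neighbourhood of the closed fibre. -/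
theorem exists_model_elem {R : Type u} [CommRing R] {m : Ideal R} {C : Type u} [CommRing C] [HopfAlgebra R C]
    [Algebra.FinitePresentation R C]
    (hfl : ∀ (q : Ideal C) [q.IsPrime], Ideal.map (algebraMap R C) m ≤ q → Module.Flat R (Localization.AtPrime q)) :
    ∃ (A : Type u) (_ : CommRing A) (_ : Algebra A R) (D : Type u) (_ : CommRing D) (_ : HopfAlgebra A D) (h : D),
      Algebra.FiniteType ℤ A ∧ Algebra.FinitePresentation A D ∧
      h - 1 ∈ Ideal.map (algebraMap A D) (m.comap (algebraMap A R)) ∧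
      Module.Flat R (R ⊗[A] Localization.Away h) ∧ Nonempty ((R ⊗[A] D) ≃ₐc[R] C) := by
  classical
  obtain ⟨A₀, _, _, C₀, _, _, hA₀, hfp₀, ⟨T⟩⟩ := HopfDescent.exists_model R C
  obtain ⟨h, hh, hflat⟩ := exists_elem hfl
  obtain ⟨f, t, ht, -, hsum⟩ := Submodule.mem_span_iff_exists_finset_subset.1 hh
  choose! r hr hrx using fun x (hx : x ∈ t) => ht hx
  obtain ⟨B', hB', hlev⟩ := Groth.Agent.H87.HopfStage.exists_level (A := R) (X := C₀)
    (t.image fun x => T.toAlgEquiv.symm (f x))
  choose! c₀ hc₀ using fun x (hx : x ∈ t) => hlev _ (Finset.mem_image_of_mem _ hx)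
  obtain ⟨B, hBdef⟩ : ∃ B : Subalgebra A₀ R, B = B' ⊔ Algebra.adjoin A₀ ((t.image r : Finset R) : Set R) := ⟨_, rfl⟩
  have hB : B.FG := hBdef ▸ hB'.sup ⟨_, rfl⟩
  have h1 : B' ≤ B := hBdef ▸ le_sup_left
  have h2 : ∀ x ∈ t, r x ∈ B := fun x hx =>
    hBdef ▸ (le_sup_right : Algebra.adjoin A₀ ((t.image r : Finset R) : Set R) ≤ _)
      (Algebra.subset_adjoin (Finset.mem_coe.2 (Finset.mem_image_of_mem r hx)))
  let σ : B ⊗[A₀] C₀ →ₐ[A₀] R ⊗[A₀] C₀ := Algebra.TensorProduct.map B.val (AlgHom.id A₀ C₀)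
  let up : B' ⊗[A₀] C₀ →ₐ[A₀] B ⊗[A₀] C₀ := Algebra.TensorProduct.map (Subalgebra.inclusion h1) (AlgHom.id A₀ C₀)
  let z₀ : B ⊗[A₀] C₀ := ∑ x ∈ t.attach, up (c₀ x.1) * algebraMap B (B ⊗[A₀] C₀) ⟨r x.1, h2 _ x.2⟩
  have hzI : z₀ ∈ Ideal.map (algebraMap B (B ⊗[A₀] C₀)) (m.comap (algebraMap B R)) :=
    Ideal.sum_mem _ fun x _ => Ideal.mul_mem_left _ _ (Ideal.mem_map_of_mem _ (hr _ x.2))
  have hz₀ : T (σ z₀) = h - 1 := by
    rw [← hsum, _root_.map_sum, _root_.map_sum, ← Finset.sum_attach t fun x => f x • x]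
    refine Finset.sum_congr rfl fun x _ => ?_
    rw [_root_.map_mul, _root_.map_mul, smul_eq_mul]
    have h3 : T (σ (up (c₀ x.1))) = f x.1 := by
      refine Eq.trans (congrArg T ?_) (T.toAlgEquiv.apply_symm_apply _)
      rw [← hc₀ _ x.2]
      generalize c₀ x.1 = w
      induction w using TensorProduct.induction_on with
      | zero => simp
      | tmul p q => simp [σ, up]
      | add p q hp hq => simp only [_root_.map_add, hp, hq]
    have h4 : T (σ (algebraMap B (B ⊗[A₀] C₀) ⟨r x.1, h2 _ x.2⟩)) = x.1 := by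
      refine Eq.trans ?_ (hrx _ x.2)
      rw [← AlgHomClass.commutes T (r x.1)]
      rfl
    rw [h3, h4]
  haveI : Algebra.FiniteType A₀ B := B.fg_iff_finiteType.1 hB
  obtain ⟨T', hT'⟩ := HopfDescent.exists_tower A₀ B R C₀
  let hD : B ⊗[A₀] C₀ := 1 + z₀
  have hval : ∀ w : B ⊗[A₀] C₀, T' (Algebra.TensorProduct.map B.val (AlgHom.id A₀ C₀) w) = (1 : R) ⊗ₜ[B] w := fun w => by
    induction w using TensorProduct.induction_on with
    | zero => simp
    | tmul p q =>
      rw [Algebra.TensorProduct.map_tmul, hT']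
      show (p : R) ⊗ₜ[B] ((1 : B) ⊗ₜ[A₀] q) = _
      rw [show (p : R) = p • (1 : R) by simp [Algebra.smul_def], TensorProduct.smul_tmul, TensorProduct.smul_tmul', smul_eq_mul, mul_one]
    | add p q hp hq => simp only [_root_.map_add, TensorProduct.tmul_add, hp, hq]
  refine ⟨B, inferInstance, inferInstance, B ⊗[A₀] C₀, inferInstance, inferInstance, hD,
    Algebra.FiniteType.trans (S := A₀) hA₀ inferInstance, inferInstance, by simpa [hD] using hzI, ?_, ⟨T'.symm.trans T⟩⟩
  let E := IsLocalization.Away.tensorProductEquivTMulRight B R hD (Localization.Away hD)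
  let F : (R ⊗[B] (B ⊗[A₀] C₀)) ≃ₐ[R] C := T'.toAlgEquiv.symm.trans T.toAlgEquiv
  have hF : F ((1 : R) ⊗ₜ[B] hD) = h := by
    show T (T'.toAlgEquiv.symm ((1 : R) ⊗ₜ[B] hD)) = h
    rw [← hval, show T'.toAlgEquiv.symm (T' (Algebra.TensorProduct.map B.val (AlgHom.id A₀ C₀) hD)) =
      Algebra.TensorProduct.map B.val (AlgHom.id A₀ C₀) hD from T'.toAlgEquiv.symm_apply_apply _, _root_.map_add,
      _root_.map_one, _root_.map_add, _root_.map_one, hz₀, add_sub_cancel]
  let G : Localization.Away ((1 : R) ⊗ₜ[B] hD) ≃+* Localization.Away h :=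
    IsLocalization.ringEquivOfRingEquiv (M := Submonoid.powers ((1 : R) ⊗ₜ[B] hD)) (T := Submonoid.powers h)
      (Localization.Away ((1 : R) ⊗ₜ[B] hD)) (Localization.Away h) F.toRingEquiv (by
      rw [Submonoid.map_powers]
      exact congrArg Submonoid.powers hF)
  let G' : Localization.Away ((1 : R) ⊗ₜ[B] hD) ≃ₐ[R] Localization.Away h :=
    AlgEquiv.ofRingEquiv (f := G) fun r => by
      rw [IsScalarTower.algebraMap_apply R (R ⊗[B] (B ⊗[A₀] C₀)) (Localization.Away ((1 : R) ⊗ₜ[B] hD)),
        IsScalarTower.algebraMap_apply R C (Localization.Away h)]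
      exact (IsLocalization.ringEquivOfRingEquiv_eq _ _).trans (congrArg _ (F.commutes r))
  exact Module.Flat.of_linearEquiv (E.trans G').toLinearEquiv

theorem flat_atPrime {R S : Type u} [CommRing R] [CommRing S] [Algebra R S] (x : S) (q : Ideal S) [q.IsPrime]
    (hx : x ∉ q) [Module.Flat R (Localization.Away x)] : Module.Flat R (Localization.AtPrime q) := by
  let Q := Localization.Away x
  let L := Localization.AtPrime q
  have hle : Submonoid.powers x ≤ q.primeCompl := Submonoid.powers_le.2 hx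
  let φ : Q →ₐ[S] L := IsLocalization.liftAlgHom (M := Submonoid.powers x) (f := Algebra.ofId S L) fun y =>
    IsLocalization.map_units L (⟨y.1, hle y.2⟩ : q.primeCompl)
  letI : Algebra Q L := φ.toRingHom.toAlgebra
  haveI : IsScalarTower S Q L := IsScalarTower.of_algebraMap_eq fun a => (φ.commutes a).symm
  haveI : IsScalarTower R Q L := IsScalarTower.of_algebraMap_eq fun a => by
    rw [IsScalarTower.algebraMap_apply R S L, IsScalarTower.algebraMap_apply R S Q, ← IsScalarTower.algebraMap_apply S Q L]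
  haveI := IsLocalization.isLocalization_of_submonoid_le Q L (Submonoid.powers x) q.primeCompl hle
  haveI : Module.Flat Q L := IsLocalization.flat L (q.primeCompl.map (algebraMap S Q))
  exact Module.Flat.trans R Q L

set_option maxHeartbeats 800000 in
set_option synthInstance.maxHeartbeats 200000 in
/-- A Noetherian local model, still flat along the closed fibre. -/
theorem exists_localModel {R : Type u} [CommRing R] [IsLocalRing R] {C : Type u} [CommRing C] [HopfAlgebra R C]
    [Algebra.FinitePresentation R C]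
    (hfl : ∀ (q : Ideal C) [q.IsPrime], Ideal.map (algebraMap R C) (IsLocalRing.maximalIdeal R) ≤ q →
      Module.Flat R (Localization.AtPrime q)) :
    ∃ (R₀ : Type u) (_ : CommRing R₀) (_ : IsLocalRing R₀) (_ : IsNoetherianRing R₀) (_ : Algebra R₀ R)
      (_ : IsLocalHom (algebraMap R₀ R)) (C₀ : Type u) (_ : CommRing C₀) (_ : HopfAlgebra R₀ C₀),
      Algebra.FiniteType R₀ C₀ ∧
      (∀ (q : Ideal C₀) [q.IsPrime], Ideal.map (algebraMap R₀ C₀) (IsLocalRing.maximalIdeal R₀) ≤ q →
        Module.Flat R₀ (Localization.AtPrime q)) ∧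
      Nonempty ((R ⊗[R₀] C₀) ≃ₐc[R] C) := by
  classical
  obtain ⟨A, _, _, D, _, _, h, hA, hD, hh, hflat, ⟨T⟩⟩ := exists_model_elem hfl
  let ι : Type u := {B : Subalgebra A R // B.FG}
  let G : ι → Type u := fun B => B.1
  let g : ∀ B B' : ι, B ≤ B' → G B →ₐ[A] G B' := fun B B' hle => Subalgebra.inclusion hle
  have hcolim : FlatCA.IsDirectedColimitRing G (fun B B' hle => (g B B' hle).toRingHom) R := by
    refine ⟨⟨fun B B' => ⟨⟨B.1 ⊔ B'.1, B.2.sup B'.2⟩, (le_sup_left : B.1 ≤ _), (le_sup_right : B'.1 ≤ _)⟩⟩,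
      ⟨⟨⊥, Subalgebra.fg_bot⟩⟩, fun B => RingHom.ext fun x => rfl,
      fun B B' B'' h h' => RingHom.ext fun x => rfl, fun B B' h => RingHom.ext fun x => rfl,
      fun a => ⟨⟨Algebra.adjoin A {a}, ⟨{a}, by simp⟩⟩, ⟨a, Algebra.subset_adjoin rfl⟩, rfl⟩,
      fun B x hx => ⟨B, le_rfl, Subtype.ext hx⟩⟩
  haveI : Algebra.FinitePresentation D (Localization.Away h) := IsLocalization.Away.finitePresentation h
  haveI : Algebra.FinitePresentation A (Localization.Away h) := Algebra.FinitePresentation.trans A D _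
  obtain ⟨⟨B, hB⟩, hBflat⟩ := (Groth.Agent.H47.FlatModel.flat_baseChange_iff_exists G g R hcolim
    (B₀ := Localization.Away h) (Localization.Away h)).1 hflat
  change Module.Flat B (B ⊗[A] Localization.Away h) at hBflat
  haveI : Algebra.FiniteType A B := B.fg_iff_finiteType.1 hB
  haveI : Algebra.FiniteType ℤ B := Algebra.FiniteType.trans (S := A) hA inferInstance
  haveI : IsNoetherianRing B := Algebra.FiniteType.isNoetherianRing ℤ B
  let p : Ideal B := (IsLocalRing.maximalIdeal R).comap (algebraMap B R)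
  let R₀ := Localization.AtPrime p
  let ψ : R₀ →ₐ[B] R := IsLocalization.liftAlgHom (M := p.primeCompl) (f := Algebra.ofId B R)
    fun y => IsLocalRing.notMem_maximalIdeal.1 y.2
  letI : Algebra R₀ R := ψ.toRingHom.toAlgebra
  haveI : IsScalarTower B R₀ R := IsScalarTower.of_algebraMap_eq fun b => (ψ.commutes b).symm
  haveI : IsScalarTower A R₀ R := IsScalarTower.of_algebraMap_eq fun a => by
    rw [IsScalarTower.algebraMap_apply A B R, IsScalarTower.algebraMap_apply A B R₀, ← IsScalarTower.algebraMap_apply B R₀ R]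
  have hloc : IsLocalHom (algebraMap R₀ R) := ⟨fun x hx => by
    obtain ⟨⟨b, s⟩, hbs⟩ := IsLocalization.surj p.primeCompl x
    have h1 : IsUnit (algebraMap B R b) := by
      rw [IsScalarTower.algebraMap_apply B R₀ R, ← hbs, _root_.map_mul, ← IsScalarTower.algebraMap_apply]
      exact hx.mul (IsLocalRing.notMem_maximalIdeal.1 s.2)
    have h2 : IsUnit (algebraMap B R₀ b) :=
      IsLocalization.map_units R₀ (⟨b, IsLocalRing.notMem_maximalIdeal.2 h1⟩ : p.primeCompl)
    rw [← hbs] at h2
    exact (IsUnit.mul_iff.1 h2).1⟩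
  haveI : IsNoetherianRing R₀ := IsLocalization.isNoetherianRing p.primeCompl R₀ inferInstance
  obtain ⟨T', -⟩ := HopfDescent.exists_tower A R₀ R D
  refine ⟨R₀, inferInstance, inferInstance, inferInstance, inferInstance, hloc, R₀ ⊗[A] D, inferInstance, inferInstance,
    Algebra.FiniteType.baseChange R₀, fun q _ hq => ?_, ⟨T'.symm.trans T⟩⟩
  let hq' : R₀ ⊗[A] D := (1 : R₀) ⊗ₜ h
  have hnq : hq' ∉ q := fun hmem => by
    have h1 : hq' - 1 ∈ q := by
      refine hq ?_
      have h2 := Ideal.mem_map_of_mem (Algebra.TensorProduct.includeRight : D →ₐ[A] R₀ ⊗[A] D).toRingHom hh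
      rw [Ideal.map_map] at h2
      have h3 : (1 : R₀) ⊗ₜ[A] (h - 1) = hq' - 1 := by rw [TensorProduct.tmul_sub]; rfl
      rw [← h3]
      refine Ideal.map_le_iff_le_comap.2 (fun a ha => ?_) h2
      show (1 : R₀) ⊗ₜ[A] algebraMap A D a ∈ Ideal.map (algebraMap R₀ (R₀ ⊗[A] D)) (IsLocalRing.maximalIdeal R₀)
      rw [show (1 : R₀) ⊗ₜ[A] algebraMap A D a = algebraMap R₀ (R₀ ⊗[A] D) (algebraMap A R₀ a) from
        ((Algebra.TensorProduct.includeRight : D →ₐ[A] R₀ ⊗[A] D).commutes a).trans (IsScalarTower.algebraMap_apply A R₀ _ a)]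
      refine Ideal.mem_map_of_mem _ ((IsLocalRing.mem_maximalIdeal _).2 fun hu => ?_)
      have hu' := hu.map (algebraMap R₀ R)
      rw [← IsScalarTower.algebraMap_apply] at hu'
      exact (IsLocalRing.mem_maximalIdeal _).1 ha hu'
    exact ‹q.IsPrime›.ne_top ((Ideal.eq_top_iff_one q).2 (sub_sub_cancel hq' (1 : R₀ ⊗[A] D) ▸ q.sub_mem hmem h1))
  let Q := Localization.Away hq'
  haveI : Module.Flat R₀ Q := by
    haveI : Module.Flat R₀ (R₀ ⊗[B] (B ⊗[A] Localization.Away h)) := Module.Flat.baseChange _ _ _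
    exact Module.Flat.of_linearEquiv ((IsLocalization.Away.tensorProductEquivTMulRight A R₀ h (Localization.Away h)).symm.toLinearEquiv.trans
      (AlgebraTensorModule.cancelBaseChange A B R₀ R₀ (Localization.Away h)).symm)
  exact flat_atPrime hq' q hnq

end

end Groth.Agent.Lib.OT67.LocalModel
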