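import Mathlib

/-!
Restricted monomials in lifts of a cotangent basis of a finite-dimensional commutative Hopf algebra.
-/

open TensorProduct WithConv

universe u v

namespace Groth.Agent.Lib.OT67

variable {k : Type u} [Field k] {A : Type v} [CommRing A] [Bialgebra k A]

/-- The augmentation ideal. -/
abbrev aug (k : Type u) [Field k] (A : Type v) [CommRing A] [Bialgebra k A] : Ideal A :=
  RingHom.ker (Bialgebra.counitAlgHom k A)

/-- The left invariant operator attached to a linear form. -/
noncomputable def op (d : A →ₗ[k] k) : A →ₗ[k] A :=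
  (TensorProduct.rid k A).toLinearMap ∘ₗ d.lTensor A ∘ₗ Coalgebra.comul

theorem op_leibniz {d : A →ₗ[k] k}
    (hd : ∀ a b, d (a * b) = Bialgebra.counitAlgHom k A a * d b + Bialgebra.counitAlgHom k A b * d a) (a b : A) :
    op d (a * b) = a * op d b + b * op d a := by
  have key : ∀ y z : A ⊗[k] A,
      TensorProduct.rid k A (d.lTensor A (y * z)) =
        TensorProduct.rid k A (Coalgebra.counit.lTensor A y) * TensorProduct.rid k A (d.lTensor A z) +
        TensorProduct.rid k A (Coalgebra.counit.lTensor A z) * TensorProduct.rid k A (d.lTensor A y) := by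
    intro y z
    induction y using TensorProduct.induction_on with
    | zero => simp
    | add p q hp hq => simp only [add_mul, map_add, hp, hq, mul_add]; ring
    | tmul p q =>
      induction z using TensorProduct.induction_on with
      | zero => simp
      | add r s hr hs => simp only [mul_add, map_add, hr, hs, add_mul]; ring
      | tmul r s =>
        simp only [Algebra.TensorProduct.tmul_mul_tmul, LinearMap.lTensor_tmul, TensorProduct.rid_tmul, hd,
          smul_mul_smul_comm, add_smul, Bialgebra.counitAlgHom_apply, mul_comm r p]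
  simp only [op, LinearMap.comp_apply, LinearEquiv.coe_coe, Bialgebra.comul_mul, key, Coalgebra.lTensor_counit_comul,
    TensorProduct.rid_tmul, one_smul]

theorem counit_op (d : A →ₗ[k] k) (a : A) : Bialgebra.counitAlgHom k A (op d a) = d a := by
  have key : ∀ y : A ⊗[k] A,
      Bialgebra.counitAlgHom k A (TensorProduct.rid k A (d.lTensor A y)) =
        d (TensorProduct.lid k A (Coalgebra.counit.rTensor A y)) := by
    intro y
    induction y using TensorProduct.induction_on with
    | zero => simp
    | add p q hp hq => simp only [map_add, hp, hq]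
    | tmul p q => simp [mul_comm]
  simp only [op, LinearMap.comp_apply, LinearEquiv.coe_coe, key, Coalgebra.rTensor_counit_comul,
    TensorProduct.lid_tmul, one_smul]

theorem apply_op (e d : A →ₗ[k] k) (a : A) : e (op d a) = (toConv e * toConv d).ofConv a := by
  rw [LinearMap.convMul_def, ofConv_toConv]
  simp only [op, LinearMap.comp_apply, LinearEquiv.coe_coe]
  induction Coalgebra.comul (R := k) a using TensorProduct.induction_on with
  | zero => simp
  | add p q hp hq => simp only [map_add, hp, hq]
  | tmul p q => simp [mul_comm]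

section basis
variable (r : ℕ) (x : Fin r → A) (d : Fin r → (A →ₗ[k] k))

/-- A system of parameters with dual point derivations. -/
structure Sys : Prop where
  hx : ∀ i, Bialgebra.counitAlgHom k A (x i) = 0
  hd : ∀ i a b, d i (a * b) = Bialgebra.counitAlgHom k A a * d i b + Bialgebra.counitAlgHom k A b * d i a
  hdx : ∀ i j, d i (x j) = if i = j then 1 else 0

variable {r x d} (S : Sys r x d)
include S

theorem op_aeval (j : Fin r) (f : MvPolynomial (Fin r) k) :
    op (d j) (MvPolynomial.aeval x f) = ∑ i, MvPolynomial.aeval x (MvPolynomial.pderiv i f) * op (d j) (x i) := by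
  have h1 : op (d j) 1 = 0 := by
    have h := op_leibniz (S.hd j) 1 1
    rw [one_mul, one_mul] at h
    simpa using h
  induction f using MvPolynomial.induction_on with
  | C c =>
    rw [MvPolynomial.aeval_C, Algebra.algebraMap_eq_smul_one, map_smul, h1, smul_zero]
    simp
  | add f g hf hg => simp only [map_add, hf, hg, add_mul, Finset.sum_add_distrib]
  | mul_X f i hf =>
    rw [map_mul, MvPolynomial.aeval_X, op_leibniz (S.hd j), hf, Finset.mul_sum]
    have h2 : ∀ l, MvPolynomial.aeval x (MvPolynomial.pderiv l (f * MvPolynomial.X i)) * op (d j) (x l) =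
        x i * (MvPolynomial.aeval x (MvPolynomial.pderiv l f) * op (d j) (x l)) +
          (if l = i then MvPolynomial.aeval x f * op (d j) (x i) else 0) := by
      intro l
      rw [Derivation.leibniz, smul_eq_mul, smul_eq_mul, MvPolynomial.pderiv_X, map_add, map_mul, map_mul,
        MvPolynomial.aeval_X]
      by_cases hl : l = i
      · subst hl; rw [if_pos rfl, Pi.single_eq_same, map_one]; ring
      · rw [if_neg hl, Pi.single_eq_of_ne (Ne.symm hl), map_zero]; ring
    simp only [h2, Finset.sum_add_distrib, Finset.sum_ite_eq', Finset.mem_univ, if_true]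
    ring

theorem x_mem (i : Fin r) : x i ∈ aug k A := S.hx i

theorem aeval_mem_pow {n : ℕ} {f : MvPolynomial (Fin r) k} (hf : f.IsHomogeneous n) :
    MvPolynomial.aeval x f ∈ aug k A ^ n := by
  rw [MvPolynomial.as_sum f, map_sum]
  refine Submodule.sum_mem _ fun s hs => ?_
  rw [MvPolynomial.aeval_monomial]
  refine Ideal.mul_mem_left _ _ ?_
  have hs' : s.sum (fun _ e => e) = n := by
    have := hf (MvPolynomial.mem_support_iff.1 hs)
    rw [Finsupp.weight_apply] at this
    simpa using this
  rw [← hs', Finsupp.sum, ← Finset.prod_pow_eq_pow_sum, Finsupp.prod]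
  exact Ideal.prod_mem_prod fun i _ => Ideal.pow_mem_pow (x_mem S i) _

theorem op_pow_mem (j : Fin r) (n : ℕ) {a : A} (ha : a ∈ aug k A ^ (n + 1)) : op (d j) a ∈ aug k A ^ n := by
  induction n generalizing a with
  | zero => simp
  | succ n ih =>
    rw [pow_succ] at ha
    induction ha using Submodule.mul_induction_on' with
    | mem_mul_mem b hb c hc =>
      rw [op_leibniz (S.hd j)]
      refine add_mem (Ideal.mul_mem_right _ _ hb) ?_
      rw [pow_succ, mul_comm (aug k A ^ n)]
      exact Ideal.mul_mem_mul hc (ih hb)
    | add b _ c _ hb hc => rw [map_add]; exact add_mem hb hc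

theorem homogeneous_eq_zero : ∀ (n : ℕ) (f : MvPolynomial (Fin r) k), f.IsHomogeneous n →
    (∀ s ∈ f.support, ∀ i, s i ≠ 0 → ((s i : ℕ) : k) ≠ 0) →
    (∀ s ∈ f.support, ∀ i, ∀ c, c < s i → c ≠ 0 → ((c : ℕ) : k) ≠ 0) →
    MvPolynomial.aeval x f ∈ aug k A ^ (n + 1) → f = 0 := by
  intro n
  induction n with
  | zero =>
    intro f hf _ _ hmem
    rw [← MvPolynomial.totalDegree_zero_iff_isHomogeneous, MvPolynomial.totalDegree_eq_zero_iff_eq_C] at hf
    rw [hf, MvPolynomial.aeval_C, pow_one] at hmem
    have h0 : f.coeff 0 = 0 := by
      have : Bialgebra.counitAlgHom k A (algebraMap k A (f.coeff 0)) = 0 := hmem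
      rwa [AlgHom.commutes] at this
    rw [hf, h0, map_zero]
  | succ n ih =>
    intro f hf hne hlt hmem
    have hder : ∀ j, MvPolynomial.pderiv j f = 0 := by
      intro j
      refine ih _ (by simpa using hf.pderiv) ?_ ?_ ?_
      · intro s hs i hi
        have hs' : s + Finsupp.single j 1 ∈ f.support := by
          rw [MvPolynomial.mem_support_iff] at hs ⊢
          intro h0; apply hs; rw [MvPolynomial.coeff_pderiv, h0, zero_mul]
        by_cases hij : j = i
        · subst hij
          exact hlt _ hs' j _ (by simp) hi
        · simpa [Finsupp.single_apply, hij] using hne _ hs' i (by simpa [Finsupp.single_apply, hij] using hi)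
      · intro s hs i c hc hc0
        have hs' : s + Finsupp.single j 1 ∈ f.support := by
          rw [MvPolynomial.mem_support_iff] at hs ⊢
          intro h0; apply hs; rw [MvPolynomial.coeff_pderiv, h0, zero_mul]
        exact hlt _ hs' i c (lt_of_lt_of_le hc (by simp)) hc0
      · have h1 := op_pow_mem S j (n + 1) hmem
        rw [op_aeval S] at h1
        have h2 : ∀ i, MvPolynomial.aeval x (MvPolynomial.pderiv i f) *
            (op (d j) (x i) - algebraMap k A (d j (x i))) ∈ aug k A ^ (n + 1) := by
          intro i
          rw [pow_succ]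
          refine Ideal.mul_mem_mul (aeval_mem_pow S (by simpa using hf.pderiv)) ?_
          show Bialgebra.counitAlgHom k A _ = 0
          rw [map_sub, AlgHom.commutes, counit_op]
          simp
        have h3 : MvPolynomial.aeval x (MvPolynomial.pderiv j f) =
            (∑ i, MvPolynomial.aeval x (MvPolynomial.pderiv i f) * op (d j) (x i)) -
              ∑ i, MvPolynomial.aeval x (MvPolynomial.pderiv i f) * (op (d j) (x i) - algebraMap k A (d j (x i))) := by
          rw [← Finset.sum_sub_distrib]
          simp only [mul_sub, sub_sub_cancel]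
          rw [Finset.sum_eq_single j]
          · rw [S.hdx, if_pos rfl, map_one, mul_one]
          · intro i _ hi; rw [S.hdx, if_neg (Ne.symm hi), map_zero, mul_zero]
          · simp
        rw [h3]
        exact sub_mem h1 (Submodule.sum_mem _ fun i _ => h2 i)
    refine MvPolynomial.ext _ _ fun s => ?_
    rw [MvPolynomial.coeff_zero]
    by_contra hs
    have hdeg := hf hs
    obtain ⟨j, hj⟩ : ∃ j, s j ≠ 0 := by
      by_contra h
      push_neg at h
      rw [show s = 0 from Finsupp.ext h, map_zero] at hdeg
      exact Nat.succ_ne_zero n hdeg.symm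
    have h4 := congrArg (fun g => MvPolynomial.coeff (s - Finsupp.single j 1) g) (hder j)
    have hsub : s - Finsupp.single j 1 + Finsupp.single j 1 = s :=
      tsub_add_cancel_of_le (Finsupp.single_le_iff.2 (Nat.one_le_iff_ne_zero.2 hj))
    simp only [MvPolynomial.coeff_pderiv, hsub, MvPolynomial.coeff_zero] at h4
    have hsj : (((s - Finsupp.single j 1 : Fin r →₀ ℕ) j : ℕ) : k) + 1 = ((s j : ℕ) : k) := by
      rw [Finsupp.tsub_apply, Finsupp.single_eq_same, ← Nat.cast_add_one,
        Nat.sub_add_cancel (Nat.one_le_iff_ne_zero.2 hj)]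
    rw [hsj] at h4
    exact hne s (MvPolynomial.mem_support_iff.2 hs) j hj ((mul_eq_zero.1 h4).resolve_left hs)

/-- A vanishing combination of monomials with all exponents small is zero. -/
theorem eq_zero_of_aeval_eq_zero (N : ℕ) (hN : ∀ c, c ≠ 0 → c < N → ((c : ℕ) : k) ≠ 0)
    (f : MvPolynomial (Fin r) k) (hf : ∀ s ∈ f.support, ∀ i, s i < N)
    (h0 : MvPolynomial.aeval x f = 0) : f = 0 := by
  have key : ∀ n, MvPolynomial.homogeneousComponent n f = 0 := by
    intro n
    induction n using Nat.strong_induction_on with
    | _ n ih =>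
      have hhom := MvPolynomial.homogeneousComponent_isHomogeneous n f
      have hsupp : ∀ s ∈ (MvPolynomial.homogeneousComponent n f).support, s ∈ f.support := by
        intro s hs
        rw [MvPolynomial.mem_support_iff, MvPolynomial.coeff_homogeneousComponent] at hs
        rw [MvPolynomial.mem_support_iff]
        intro h; rw [h] at hs; simp at hs
      refine homogeneous_eq_zero S n _ hhom
        (fun s hs i hi => hN _ hi (hf s (hsupp s hs) i))
        (fun s hs i c hc hc0 => hN _ hc0 (hc.trans (hf s (hsupp s hs) i))) ?_
      by_cases hn : n ∈ Finset.range (f.totalDegree + 1)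
      · have hs := congrArg (MvPolynomial.aeval x) (MvPolynomial.sum_homogeneousComponent f)
        rw [map_sum, h0, ← Finset.add_sum_erase _ _ hn] at hs
        rw [eq_neg_of_add_eq_zero_left hs]
        refine neg_mem (Submodule.sum_mem _ fun m hm => ?_)
        rw [Finset.mem_erase] at hm
        rcases lt_or_gt_of_ne hm.1 with h | h
        · rw [ih m h, map_zero]; exact zero_mem _
        · exact Ideal.pow_le_pow_right (by omega)
            (aeval_mem_pow S (MvPolynomial.homogeneousComponent_isHomogeneous m f))
      · rw [MvPolynomial.homogeneousComponent_eq_zero _ _ (by simpa [Nat.lt_succ_iff] using hn), map_zero]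
        exact zero_mem _
  rw [← MvPolynomial.sum_homogeneousComponent f]
  exact Finset.sum_eq_zero fun n _ => key n

/-- The restricted monomial attached to an exponent vector. -/
theorem linearIndependent_monomials (N : ℕ) (hN : ∀ c, c ≠ 0 → c < N → ((c : ℕ) : k) ≠ 0) :
    LinearIndependent k fun a : Fin r → Fin N => ∏ i, x i ^ (a i : ℕ) := by
  classical
  rw [Fintype.linearIndependent_iff]
  intro c hc a₀
  let e : (Fin r → Fin N) → (Fin r →₀ ℕ) := fun a => Finsupp.equivFunOnFinite.symm fun i => (a i : ℕ)
  have he : Function.Injective e := fun a b h => funext fun i => Fin.ext (DFunLike.congr_fun h i)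
  let f : MvPolynomial (Fin r) k := ∑ a, MvPolynomial.monomial (e a) (c a)
  have hf0 : MvPolynomial.aeval x f = 0 := by
    rw [map_sum, ← hc]
    refine Finset.sum_congr rfl fun a _ => ?_
    rw [MvPolynomial.aeval_monomial, Finsupp.prod_fintype _ _ (by simp), Algebra.smul_def]
    rfl
  have hsupp : ∀ s ∈ f.support, ∀ i, s i < N := by
    intro s hs i
    have := Finset.mem_of_subset (MvPolynomial.support_sum) hs
    rw [Finset.mem_biUnion] at this
    obtain ⟨a, -, ha⟩ := this
    have h2 := Finset.mem_singleton.1 (MvPolynomial.support_monomial_subset ha)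
    rw [h2]
    exact (a i).2
  have hfz := eq_zero_of_aeval_eq_zero S N hN f hsupp hf0
  have := congrArg (MvPolynomial.coeff (e a₀)) hfz
  simp only [f, MvPolynomial.coeff_sum, MvPolynomial.coeff_monomial, MvPolynomial.coeff_zero,
    he.eq_iff, Finset.sum_ite_eq', Finset.mem_univ, if_true] at this
  exact this

end basis

end Groth.Agent.Lib.OT67
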