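import Groth.Agent.Lib.OT67.Rank
import Mathlib

/-!
Generation by the first eigen-submodule and the case of the group algebra of `ℤ/p`.
-/

open TensorProduct WithConv

universe u

namespace Groth.Agent.Lib.OT67

variable {R : Type u} [CommRing R] (p : ℕ) [Fact p.Prime] {u : R} {χ : (ZMod p)ˣ →* Rˣ}

section gen
variable {A : Type u} [CommRing A] [HopfAlgebra R A] [Module.Finite R A] [Module.Projective R A]
variable (hu : u * ((p - 1 : ℕ) : R) = 1) (hχ : ∀ m : (ZMod p)ˣ, m ≠ 1 → IsUnit ((χ m : R) - 1))
  (hχp : ∀ m : (ZMod p)ˣ, ((χ m : Rˣ) : R) - (((m : ZMod p).val : ℕ) : R) ∈ Ideal.span ({(p : R)} : Set R))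
  (hrk : ∀ q : PrimeSpectrum R, Module.rankAtStalk A q = p)

include hu hχ hχp hrk in
theorem adjoin_eq_top : Algebra.adjoin R (OortTate.eigenAug R A p χ 1 : Set A) = ⊤ := by
  rw [eq_top_iff]
  intro a _
  set B := Algebra.adjoin R (OortTate.eigenAug R A p χ 1 : Set A)
  have hpow : ∀ t, OortTate.eigenAug R A p χ 1 ^ t ≤ Subalgebra.toSubmodule B := by
    intro t
    induction t with
    | zero => rw [Submodule.pow_zero, Submodule.one_eq_span, Submodule.span_le, Set.singleton_subset_iff]
              exact B.one_mem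
    | succ t ih =>
      rw [pow_succ]
      exact Submodule.mul_le.2 fun x hx y hy => B.mul_mem (ih hx) (Algebra.subset_adjoin hy)
  have hker : LinearMap.ker (Bialgebra.counitAlgHom R A).toLinearMap ≤ Subalgebra.toSubmodule B := by
    rw [← (decomposition p hu hχ (pow_id_eq_one' p hrk)).2]
    refine iSup_le fun i => ?_
    rw [eigenAug_congr p (red_modEq p _), ← pow_eq p hu hχ hχp hrk _ (red_mem p _).1 (red_mem p _).2]
    exact hpow _
  have h1 : a - Bialgebra.counitAlgHom R A a • (1 : A) ∈ B := hker (by simp)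
  have h2 := B.add_mem h1 (B.smul_mem B.one_mem (Bialgebra.counitAlgHom R A a))
  rwa [sub_add_cancel] at h2

end gen

theorem powConv_of_grouplike {A : Type u} [CommRing A] [HopfAlgebra R A] {a : A}
    (ha : Coalgebra.comul (R := R) a = a ⊗ₜ[R] a) (hε : Coalgebra.counit (R := R) a = 1) (n : ℕ) :
    SGA3b.powConv R A n a = a ^ n := by
  induction n with
  | zero =>
    show algebraMap R A (Coalgebra.counit a) = _
    rw [hε, map_one, pow_zero]
  | succ n ih =>
    rw [SGA3b.powConv, pow_succ]
    rw [show ((toConv (AlgHom.id R A)) ^ n * toConv (AlgHom.id R A)).ofConv a = _ from AlgHom.convMul_apply _ _ a,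
      ha, Algebra.TensorProduct.lift_tmul, pow_succ]
    exact congrArg (· * a) ih

theorem proj_powConv {A : Type u} [CommRing A] [HopfAlgebra R A] (hp : (toConv (AlgHom.id R A)) ^ p = 1)
    (m : (ZMod p)ˣ) (i : ℕ) (a : A) :
    OortTate.proj R A p u χ i (SGA3b.powConv R A (m : ZMod p).val a) =
      ((χ m : Rˣ) : R) ^ i • OortTate.proj R A p u χ i a := by
  rw [← powConv_proj p hp]
  simp only [OortTate.proj, LinearMap.smul_apply, LinearMap.sum_apply, AlgHom.toLinearMap_apply, map_smul, map_sum]
  congr 1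
  refine Finset.sum_congr rfl fun n _ => ?_
  congr 1
  rw [← AlgHom.comp_apply, ← AlgHom.comp_apply, powConv_comp, powConv_comp, mul_comm]

section mup
variable (hu : u * ((p - 1 : ℕ) : R) = 1) (hχ : ∀ m : (ZMod p)ˣ, m ≠ 1 → IsUnit ((χ m : R) - 1))
  (hχp : ∀ m : (ZMod p)ˣ, ((χ m : Rˣ) : R) - (((m : ZMod p).val : ℕ) : R) ∈ Ideal.span ({(p : R)} : Set R))

local notation "H" => MonoidAlgebra R (Multiplicative (ZMod p))

instance : Module.Finite R H := Module.Finite.of_basis (MonoidAlgebra.basis (Multiplicative (ZMod p)) R)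

instance : Module.Free R H := Module.Free.of_basis (MonoidAlgebra.basis (Multiplicative (ZMod p)) R)

theorem finrank_mup [Nontrivial R] : Module.finrank R H = p := by
  rw [Module.finrank_eq_card_basis (MonoidAlgebra.basis (Multiplicative (ZMod p)) R), Fintype.card_multiplicative,
    ZMod.card]

theorem rank_mup (q : PrimeSpectrum R) : Module.rankAtStalk H q = p := by
  haveI : Nontrivial R := q.nontrivial
  rw [Module.rankAtStalk_eq_finrank_of_free, finrank_mup]
  simp

theorem comul_of (g : Multiplicative (ZMod p)) :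
    Coalgebra.comul (R := R) (MonoidAlgebra.of R (Multiplicative (ZMod p)) g) =
      MonoidAlgebra.of R (Multiplicative (ZMod p)) g ⊗ₜ[R] MonoidAlgebra.of R (Multiplicative (ZMod p)) g := by
  simp [MonoidAlgebra.of_apply]

theorem counit_of (g : Multiplicative (ZMod p)) :
    Coalgebra.counit (R := R) (MonoidAlgebra.of R (Multiplicative (ZMod p)) g) = 1 := by
  simp [MonoidAlgebra.of_apply]

theorem of_eq_powConv (a : ZMod p) :
    MonoidAlgebra.of R (Multiplicative (ZMod p)) (Multiplicative.ofAdd a) =
      SGA3b.powConv R H a.val (OortTate.muT R p) := by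
  rw [OortTate.muT, powConv_of_grouplike (A := H) (comul_of p (Multiplicative.ofAdd 1))
    (counit_of p (Multiplicative.ofAdd 1)), ← map_pow, ← ofAdd_nsmul,
    nsmul_eq_mul, mul_one, ZMod.natCast_zmod_val]

include hu in
theorem eigen_mup (hp : (toConv (AlgHom.id R H)) ^ p = 1) (i : ℕ) :
    OortTate.eigenAug R H p χ i = Submodule.span R {OortTate.ygen R p u χ i} := by
  have hT : Bialgebra.counitAlgHom R H (OortTate.muT R p - 1) = 0 := by
    rw [map_sub, map_one, Bialgebra.counitAlgHom_apply, OortTate.muT, counit_of, sub_self]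
  apply le_antisymm
  · intro x hx
    rw [← P_of_mem p hu hx]
    have hx' : x ∈ Submodule.span R (Set.range (MonoidAlgebra.of R (Multiplicative (ZMod p)))) := by
      rw [← (MonoidAlgebra.basis (Multiplicative (ZMod p)) R).sum_repr x]
      refine Submodule.sum_mem _ fun g _ => Submodule.smul_mem _ _ (Submodule.subset_span ⟨g, ?_⟩)
      simp [MonoidAlgebra.of_apply]
    suffices hm : Submodule.map (P p u χ i) (Submodule.span R (Set.range (MonoidAlgebra.of R (Multiplicative (ZMod p))))) ≤
        Submodule.span R {OortTate.ygen R p u χ i} from hm ⟨x, hx', rfl⟩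
    rw [Submodule.map_span, Submodule.span_le]
    rintro _ ⟨_, ⟨g, rfl⟩, rfl⟩
    obtain ⟨a, rfl⟩ := Multiplicative.ofAdd.surjective g
    show P p u χ i _ ∈ Submodule.span R {OortTate.ygen R p u χ i}
    rw [P_apply, Bialgebra.counitAlgHom_apply, counit_of, one_smul]
    by_cases ha : a = 0
    · subst ha
      rw [ofAdd_zero, map_one, sub_self, map_zero]
      exact zero_mem _
    · have h1 : MonoidAlgebra.of R (Multiplicative (ZMod p)) (Multiplicative.ofAdd a) - 1 =
          SGA3b.powConv R H ((Units.mk0 a ha : (ZMod p)ˣ) : ZMod p).val (OortTate.muT R p - 1) := by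
        rw [map_sub, map_one, Units.val_mk0, ← of_eq_powConv]
      rw [h1, proj_powConv p hp]
      exact Submodule.smul_mem _ _ (Submodule.mem_span_singleton_self _)
  · rw [Submodule.span_le, Set.singleton_subset_iff]
    rw [map_proj p hu hp]
    exact ⟨_, hT, rfl⟩

include hu hχ hχp in
theorem mup_main :
    LinearIndependent R (fun i : Fin (p - 1) => OortTate.ygen R p u χ (i : ℕ)) ∧
      Submodule.span R (Set.range (fun i : Fin (p - 1) => OortTate.ygen R p u χ (i : ℕ))) =
        LinearMap.ker (Bialgebra.counitAlgHom R H).toLinearMap ∧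
      Algebra.adjoin R ({OortTate.ygen R p u χ 1} : Set H) = ⊤ ∧
      ∃! w : R, OortTate.ygen R p u χ 1 ^ p = w • OortTate.ygen R p u χ 1 := by
  rcases subsingleton_or_nontrivial R with hR | hR
  · haveI : Subsingleton H := Module.subsingleton R _
    exact ⟨linearIndependent_of_subsingleton, Subsingleton.elim _ _, Subsingleton.elim _ _,
      ⟨0, Subsingleton.elim _ _, fun _ _ => Subsingleton.elim _ _⟩⟩
  have hp := pow_id_eq_one' p (A := H) (rank_mup p)
  have hspan : Submodule.span R (Set.range (fun i : Fin (p - 1) => OortTate.ygen R p u χ (i : ℕ))) =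
      LinearMap.ker (Bialgebra.counitAlgHom R H).toLinearMap := by
    rw [← (decomposition p hu hχ hp).2, Submodule.span_range_eq_iSup]
    simp only [eigen_mup p hu hp]
  have h2 := (Fact.out : p.Prime).two_le
  let Φ : ((Fin (p - 1) → R) × R) →ₗ[R] H :=
    (Fintype.linearCombination R (fun i : Fin (p - 1) => OortTate.ygen R p u χ (i : ℕ))).coprod
      (LinearMap.toSpanSingleton R H 1)
  have hΦ : Function.Surjective Φ := by
    intro a
    have h1 : a - Bialgebra.counitAlgHom R H a • (1 : H) ∈
        Submodule.span R (Set.range (fun i : Fin (p - 1) => OortTate.ygen R p u χ (i : ℕ))) := by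
      rw [hspan]; simp
    rw [← Fintype.range_linearCombination] at h1
    obtain ⟨c, hc⟩ := h1
    exact ⟨(c, Bialgebra.counitAlgHom R H a), by
      simp only [Φ, LinearMap.coprod_apply, LinearMap.toSpanSingleton_apply, hc, sub_add_cancel]⟩
  have hbij := OrzechProperty.bijective_of_surjective_of_finrank_le Φ hΦ (by
    rw [finrank_mup, Module.finrank_prod, Module.finrank_pi, Fintype.card_fin, Module.finrank_self]
    omega)
  have hli : LinearIndependent R (fun i : Fin (p - 1) => OortTate.ygen R p u χ (i : ℕ)) := by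
    rw [linearIndependent_iff_injective_fintypeLinearCombination]
    intro c c' h
    have := hbij.1 (a₁ := (c, 0)) (a₂ := (c', 0)) (by
      simp only [Φ, LinearMap.coprod_apply, h])
    exact congrArg Prod.fst this
  refine ⟨hli, hspan, ?_, ?_⟩
  · rw [← Algebra.adjoin_span, ← eigen_mup p hu hp]
    exact adjoin_eq_top p hu hχ hχp (rank_mup p)
  · have hy : OortTate.ygen R p u χ 1 ∈ OortTate.eigenAug R H p χ 1 := by
      rw [eigen_mup p hu hp]; exact Submodule.mem_span_singleton_self _
    have h1 : OortTate.ygen R p u χ 1 ^ p ∈ Submodule.span R {OortTate.ygen R p u χ 1} := by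
      rw [← eigen_mup p hu hp, eigenAug_congr p (show 1 ≡ p [MOD p - 1] from
        (Nat.modEq_iff_dvd' (by omega)).2 dvd_rfl)]
      exact pow_mem_eigen p hy p (by omega)
    obtain ⟨w, hw⟩ := Submodule.mem_span_singleton.1 h1
    refine ⟨w, hw.symm, fun w' hw' => ?_⟩
    obtain ⟨i, hi⟩ : ∃ i : Fin (p - 1), OortTate.ygen R p u χ (i : ℕ) = OortTate.ygen R p u χ 1 :=
      ⟨⟨1 % (p - 1), Nat.mod_lt _ (by omega)⟩, by
        show OortTate.proj R H p u χ (1 % (p - 1)) _ = _
        rw [proj_congr p (Nat.mod_modEq 1 (p - 1))]⟩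
    have h3 : (w' - w) • OortTate.ygen R p u χ (i : ℕ) = 0 := by rw [hi, sub_smul, ← hw', hw, sub_self]
    refine sub_eq_zero.1 ?_
    have h4 := Fintype.linearIndependent_iff.1 hli (Pi.single i (w' - w)) (by
      rw [Finset.sum_eq_single i (fun b _ hb => by rw [Pi.single_eq_of_ne hb, zero_smul])
        (fun h => absurd (Finset.mem_univ i) h), Pi.single_eq_same, h3]) i
    rwa [Pi.single_eq_same] at h4

end mup

end Groth.Agent.Lib.OT67
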