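import Groth.Agent.Lib.OT67.Height1
import Mathlib

/-!
Point derivations `v` with `v ^ p = c • v` of a commutative bialgebra in characteristic `p`, and the
maps to bialgebras of rank `p` they define.
-/

open TensorProduct WithConv

universe u v w

namespace Groth.Agent.Lib.OT67

/-- A point derivation at the counit. -/
def IsDer {k : Type u} [Field k] {A : Type v} [CommRing A] [Bialgebra k A] (d : WithConv (A →ₗ[k] k)) : Prop :=
  ∀ a b : A, d.ofConv (a * b) =
    Bialgebra.counitAlgHom k A a * d.ofConv b + Bialgebra.counitAlgHom k A b * d.ofConv a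

variable {k : Type u} [Field k] {A : Type v} [CommRing A] [Bialgebra k A]

theorem IsDer.one {d : WithConv (A →ₗ[k] k)} (hd : IsDer d) : d.ofConv 1 = 0 := by
  simpa using hd 1 1

theorem IsDer.of_basis {ι : Type*} (b : Module.Basis ι k A) {d : WithConv (A →ₗ[k] k)}
    (h : ∀ i j, d.ofConv (b i * b j) =
      Bialgebra.counitAlgHom k A (b i) * d.ofConv (b j) + Bialgebra.counitAlgHom k A (b j) * d.ofConv (b i)) :
    IsDer d := by
  intro u v
  induction b.mem_span u using Submodule.span_induction with
  | mem u hu =>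
    obtain ⟨i, rfl⟩ := hu
    induction b.mem_span v using Submodule.span_induction with
    | mem v hv => obtain ⟨j, rfl⟩ := hv; exact h i j
    | zero => simp
    | add x y _ _ hx hy => simp only [mul_add, map_add, hx, hy]; ring
    | smul r x _ hx => simp only [mul_smul_comm, map_smul, hx, smul_eq_mul]; ring
  | zero => simp
  | add x y _ _ hx hy => simp only [add_mul, map_add, hx, hy]; ring
  | smul r x _ hx => simp only [smul_mul_assoc, map_smul, hx, smul_eq_mul]; ring

theorem counit_op_pow (d : WithConv (A →ₗ[k] k)) (n : ℕ) (a : A) :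
    Bialgebra.counitAlgHom k A ((op d.ofConv ^ n : Module.End k A) a) = (d ^ n).ofConv a := by
  induction n generalizing a with
  | zero =>
    show _ = (1 : WithConv (A →ₗ[k] k)).ofConv a
    simp [LinearMap.convOne_def]
  | succ n ih => rw [pow_succ, Module.End.mul_apply, ih, apply_op, pow_succ, toConv_ofConv, toConv_ofConv]

/-- The Leibniz formula. -/
theorem IsDer.leibniz {d : WithConv (A →ₗ[k] k)} (hd : IsDer d) (n : ℕ) (a b : A) :
    (d ^ n).ofConv (a * b) =
      ∑ i ∈ Finset.range (n + 1), (n.choose i : k) * (d ^ i).ofConv a * (d ^ (n - i)).ofConv b := by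
  let D : Module.End k A := op d.ofConv
  let L : Module.End k (A ⊗[k] A) := D.rTensor A
  let R : Module.End k (A ⊗[k] A) := D.lTensor A
  have hc : Commute L R := TensorProduct.ext' fun x y => by simp [L, R]
  have hm : ∀ m : ℕ, ∀ t : A ⊗[k] A, LinearMap.mul' k A (((L + R) ^ m) t) = (D ^ m) (LinearMap.mul' k A t) := by
    intro m
    induction m with
    | zero => simp
    | succ m ih =>
      intro t
      rw [pow_succ, Module.End.mul_apply, ih, pow_succ, Module.End.mul_apply]
      congr 1
      induction t using TensorProduct.induction_on with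
      | zero => simp
      | add p q hp hq => simp only [map_add, hp, hq]
      | tmul p q =>
        simp only [L, R, D, LinearMap.add_apply, LinearMap.rTensor_tmul, LinearMap.lTensor_tmul, map_add,
          LinearMap.mul'_apply, op_leibniz hd]
        ring
  have hLR : ∀ i j : ℕ, (L ^ i * R ^ j) (a ⊗ₜ b) = (D ^ i) a ⊗ₜ[k] (D ^ j) b := by
    intro i j
    rw [Module.End.mul_apply, LinearMap.lTensor_pow, LinearMap.rTensor_pow, LinearMap.lTensor_tmul,
      LinearMap.rTensor_tmul]
  have h := congrArg (Bialgebra.counitAlgHom k A) (hm n (a ⊗ₜ b))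
  rw [LinearMap.mul'_apply, counit_op_pow, hc.add_pow, LinearMap.sum_apply, map_sum, map_sum] at h
  rw [← h]
  refine Finset.sum_congr rfl fun i _ => ?_
  rw [← nsmul_eq_mul', LinearMap.smul_apply, hLR, map_nsmul, map_nsmul, LinearMap.mul'_apply, map_mul,
    counit_op_pow, counit_op_pow, nsmul_eq_mul]
  ring

theorem IsDer.pow_one_eq_zero {d : WithConv (A →ₗ[k] k)} (hd : IsDer d) {n : ℕ} (hn : n ≠ 0) :
    (d ^ n).ofConv 1 = 0 := by
  obtain ⟨m, rfl⟩ := Nat.exists_eq_succ_of_ne_zero hn
  rw [pow_succ, LinearMap.convMul_def]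
  simp [Algebra.TensorProduct.one_def, hd.one]

section CharP

variable (p : ℕ) [Fact p.Prime] [CharP k p]

theorem IsDer.pow_char {d : WithConv (A →ₗ[k] k)} (hd : IsDer d) : IsDer (d ^ p) := by
  intro a b
  have hp := (Fact.out : p.Prime)
  rw [hd.leibniz, Finset.sum_eq_add_of_mem 0 p (by simp) (by simp) hp.ne_zero.symm]
  · simp only [pow_zero, Nat.choose_zero_right, Nat.choose_self, Nat.cast_one, one_mul, Nat.sub_zero, Nat.sub_self,
      LinearMap.convOne_def, ofConv_toConv, LinearMap.comp_apply, Algebra.linearMap_apply, Algebra.algebraMap_self,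
      RingHom.id_apply, Bialgebra.counitAlgHom_apply]
    ring
  · rintro i hi ⟨h0, hip⟩
    rw [(CharP.cast_eq_zero_iff k p _).2 (hp.dvd_choose_self h0 (by have := Finset.mem_range.1 hi; omega)),
      zero_mul, zero_mul]

theorem IsDer.pow_pow_char {d : WithConv (A →ₗ[k] k)} (hd : IsDer d) : ∀ n : ℕ, IsDer (d ^ (p ^ n))
  | 0 => by simpa using hd
  | n + 1 => by rw [pow_succ, pow_mul]; exact (IsDer.pow_pow_char hd n).pow_char p

theorem IsDer.zero : IsDer (0 : WithConv (A →ₗ[k] k)) := fun a b => by simp

theorem IsDer.sum {ι : Type*} (s : Finset ι) (c : ι → k) {e : ι → WithConv (A →ₗ[k] k)}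
    (he : ∀ i ∈ s, IsDer (e i)) : IsDer (∑ i ∈ s, c i • e i) := by
  intro a b
  simp only [WithConv.ofConv_sum, LinearMap.sum_apply, WithConv.ofConv_smul, LinearMap.smul_apply, smul_eq_mul,
    Finset.mul_sum, ← Finset.sum_add_distrib]
  refine Finset.sum_congr rfl fun i hi => ?_
  rw [he i hi a b]
  ring

theorem exists_root_ne_zero [IsAlgClosed k] (a : ℕ → k) (ha : a 0 ≠ 0) (n : ℕ) :
    ∃ (y : k) (x : ℕ → k), x 0 = a 0 * y ∧ (∀ i, x (i + 1) = x i ^ p + a (i + 1) * y) ∧ x n ^ p = y ∧ x 0 ≠ 0 := by
  have hp2 := (Fact.out : p.Prime).two_le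
  let P : ℕ → Polynomial k := fun i =>
    Nat.rec (Polynomial.C (a 0) * Polynomial.X) (fun i q => q ^ p + Polynomial.C (a (i + 1)) * Polynomial.X) i
  have hdeg : ∀ i, (P i).natDegree = p ^ i := by
    intro i
    induction i with
    | zero => exact (Polynomial.natDegree_C_mul_X _ ha).trans (pow_zero p).symm
    | succ i ih =>
      show ((P i) ^ p + Polynomial.C (a (i + 1)) * Polynomial.X).natDegree = _
      rw [Polynomial.natDegree_add_eq_left_of_natDegree_lt, Polynomial.natDegree_pow, ih, pow_succ, mul_comm]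
      rw [Polynomial.natDegree_pow, ih]
      calc (Polynomial.C (a (i + 1)) * Polynomial.X).natDegree ≤ 1 := (Polynomial.natDegree_mul_le).trans (by simp)
        _ < p * p ^ i := by
          have : 1 ≤ p ^ i := Nat.one_le_pow _ _ (by omega)
          nlinarith
  have h0 : ∀ i, (P i).eval 0 = 0 := by
    intro i
    induction i with
    | zero => simp [P]
    | succ i ih =>
      show ((P i) ^ p + Polynomial.C (a (i + 1)) * Polynomial.X).eval 0 = 0
      simp [ih, zero_pow (by omega : p ≠ 0)]
  let Q : Polynomial k := P n ^ p - Polynomial.X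
  have hQdeg : Q.natDegree = p ^ (n + 1) := by
    rw [Polynomial.natDegree_sub_eq_left_of_natDegree_lt, Polynomial.natDegree_pow, hdeg, pow_succ, mul_comm]
    rw [Polynomial.natDegree_pow, hdeg, Polynomial.natDegree_X]
    have : 1 ≤ p ^ n := Nat.one_le_pow _ _ (by omega)
    nlinarith
  have hc1 : (P n ^ p).coeff 1 = 0 := by
    have h := congrArg (fun q => Polynomial.coeff q 0) (Polynomial.derivative_pow (P n) p)
    simp only [Polynomial.coeff_derivative, CharP.cast_eq_zero, map_zero, zero_mul, Polynomial.coeff_zero,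
      zero_add, mul_one, Nat.cast_zero] at h
    exact h
  let R := Q.divX
  have hR0 : R.eval 0 = -1 := by
    rw [← Polynomial.coeff_zero_eq_eval_zero, Polynomial.coeff_divX, Polynomial.coeff_sub, hc1,
      Polynomial.coeff_X_one, zero_sub]
  have hRdeg : R.degree ≠ 0 := by
    intro h
    have h1 := Polynomial.natDegree_eq_of_degree_eq_some (h.trans Nat.cast_zero.symm)
    rw [Polynomial.natDegree_divX_eq_natDegree_tsub_one, hQdeg] at h1
    have : 2 ≤ p ^ (n + 1) := hp2.trans (Nat.le_self_pow (Nat.succ_ne_zero n) p)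
    omega
  obtain ⟨y, hy⟩ := IsAlgClosed.exists_root R hRdeg
  have hy0 : y ≠ 0 := by
    rintro rfl
    rw [Polynomial.IsRoot.def, hR0] at hy
    exact one_ne_zero (neg_eq_zero.1 hy)
  refine ⟨y, fun i => (P i).eval y, by simp [P], fun i => ?_, ?_, by simp [P, ha, hy0]⟩
  · show ((P i) ^ p + Polynomial.C (a (i + 1)) * Polynomial.X).eval y = _
    simp
  · have h := congrArg (Polynomial.eval y) (Polynomial.X_mul_divX_add Q)
    rw [Polynomial.eval_add, Polynomial.eval_mul, Polynomial.eval_C, hy, mul_zero, zero_add,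
      Polynomial.coeff_zero_eq_eval_zero] at h
    simp only [Q, Polynomial.eval_sub, Polynomial.eval_pow, Polynomial.eval_X, h0,
      zero_pow (by omega : p ≠ 0), sub_zero] at h
    exact (sub_eq_zero.1 h.symm)

/-- A restricted line in the Lie algebra. -/
theorem exists_line [IsAlgClosed k] [Module.Finite k A] {d : WithConv (A →ₗ[k] k)} (hd : IsDer d) (hd0 : d ≠ 0) :
    ∃ w : WithConv (A →ₗ[k] k), IsDer w ∧ w ≠ 0 ∧ (w ^ p = 0 ∨ w ^ p = w) := by
  classical
  let e : ℕ → WithConv (A →ₗ[k] k) := fun i => d ^ (p ^ i)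
  have hsum : ∀ (m : ℕ) (c : ℕ → k),
      (∑ i ∈ Finset.range m, c i • e i) ^ p = ∑ i ∈ Finset.range m, c i ^ p • e (i + 1) := by
    intro m c
    have hX : ∀ (m : ℕ), ∀ c : ℕ → k, ∑ i ∈ Finset.range m, c i • e i =
        Polynomial.aeval d (∑ i ∈ Finset.range m, c i • (Polynomial.X : Polynomial k) ^ (p ^ i)) := fun m c => by
      simp [e]
    rw [hX m c, ← map_pow, sum_pow_char]
    simp only [smul_pow, ← pow_mul, ← pow_succ, map_sum, map_smul, map_pow, Polynomial.aeval_X, e]
  have hdep : ∃ n, ∃ a : ℕ → k, e n = ∑ i ∈ Finset.range n, a i • e i := by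
    by_contra hcon
    push_neg at hcon
    haveI : Module.Finite k (WithConv (A →ₗ[k] k)) :=
      Module.Finite.equiv (WithConv.linearEquiv k (A →ₗ[k] k)).symm
    refine Module.Finite.not_linearIndependent_of_infinite (R := k) e (linearIndependent_iff'.2 fun s c hs => ?_)
    by_contra hne
    push_neg at hne
    have hsne : (s.filter fun i => c i ≠ 0).Nonempty := ⟨hne.choose, by simpa using hne.choose_spec⟩
    set m := (s.filter fun i => c i ≠ 0).max' hsne
    have hm := Finset.mem_filter.1 ((s.filter fun i => c i ≠ 0).max'_mem hsne)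
    refine hcon m (fun i => if i ∈ s then -((c m)⁻¹ * c i) else 0) ?_
    rw [Finset.sum_eq_add_sum_sdiff_singleton_of_mem hm.1] at hs
    have h1 : ∑ x ∈ s \ {m}, c x • e x = ∑ i ∈ Finset.range m, (if i ∈ s then c i else 0) • e i := by
      rw [← Finset.sum_filter_of_ne (p := fun i => c i ≠ 0) (fun i _ h => fun h0 => h (by rw [h0, zero_smul]))]
      symm
      refine (Finset.sum_subset_zero_on_sdiff ?_ ?_ ?_).symm
      · intro i hi
        simp only [Finset.mem_filter, Finset.mem_sdiff, Finset.mem_singleton] at hi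
        have hle : i ≤ m := Finset.le_max' (s.filter fun i => c i ≠ 0) i (Finset.mem_filter.2 ⟨hi.1.1, hi.2⟩)
        exact Finset.mem_range.2 (by omega)
      · intro i hi
        simp only [Finset.mem_filter, Finset.mem_sdiff, Finset.mem_singleton, Finset.mem_range] at hi
        split_ifs with h
        · by_cases h0 : c i = 0
          · rw [h0, zero_smul]
          · exact absurd ⟨⟨h, by omega⟩, h0⟩ hi.2
        · rw [zero_smul]
      · intro i hi
        simp only [Finset.mem_filter, Finset.mem_sdiff] at hi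
        rw [if_pos hi.1.1]
    rw [h1] at hs
    have h2 : c m • e m = -∑ i ∈ Finset.range m, (if i ∈ s then c i else 0) • e i := eq_neg_of_add_eq_zero_left hs
    calc e m = (c m)⁻¹ • c m • e m := (inv_smul_smul₀ hm.2 _).symm
      _ = _ := by
        rw [h2, ← Finset.sum_neg_distrib, Finset.smul_sum]
        refine Finset.sum_congr rfl fun i _ => ?_
        split_ifs <;> simp [smul_smul]
  let n := Nat.find hdep
  obtain ⟨a, ha⟩ := Nat.find_spec hdep
  have hind : ∀ m, m ≤ n → ∀ c : ℕ → k, ∑ i ∈ Finset.range m, c i • e i = 0 → ∀ i < m, c i = 0 := by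
    intro m
    induction m with
    | zero => intro _ c _ i hi; omega
    | succ m ih =>
      intro hmn c hc i hi
      rw [Finset.sum_range_succ] at hc
      have hcm : c m = 0 := by
        by_contra h
        refine Nat.find_min hdep (show m < Nat.find hdep by omega) ⟨fun i => -((c m)⁻¹ * c i), ?_⟩
        calc e m = (c m)⁻¹ • c m • e m := (inv_smul_smul₀ h _).symm
          _ = (c m)⁻¹ • -∑ i ∈ Finset.range m, c i • e i := by rw [eq_neg_of_add_eq_zero_right hc]
          _ = _ := by
            rw [← Finset.sum_neg_distrib, Finset.smul_sum]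
            exact Finset.sum_congr rfl fun i _ => by rw [smul_neg, smul_smul, neg_smul]
      rcases Nat.lt_succ_iff_lt_or_eq.1 hi with h | rfl
      · rw [hcm, zero_smul, add_zero] at hc
        exact ih (by omega) c hc i h
      · exact hcm
  have hn0 : n ≠ 0 := fun h => hd0 (by
    have h' := ha
    rw [show Nat.find hdep = n from rfl, h, Finset.sum_range_zero] at h'
    simpa [e] using h')
  obtain ⟨m, hm⟩ := Nat.exists_eq_succ_of_ne_zero hn0
  rw [show Nat.find hdep = n from rfl, hm] at ha
  have hder : ∀ c : ℕ → k, IsDer (∑ i ∈ Finset.range (m + 1), c i • e i) := fun c =>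
    IsDer.sum _ c fun i _ => hd.pow_pow_char p i
  by_cases ha0 : a 0 = 0
  · choose b hb using fun i => IsAlgClosed.exists_pow_nat_eq (-a (i + 1)) (Fact.out : p.Prime).pos
    let c : ℕ → k := fun i => if i < m then b i else 1
    refine ⟨_, hder c, fun h => one_ne_zero (α := k) ?_, Or.inl ?_⟩
    · simpa [c] using hind (m + 1) (by omega) c h m (Nat.lt_succ_self m)
    · rw [hsum, Finset.sum_range_succ, show c m = 1 by simp [c], one_pow, one_smul, ha, Finset.sum_range_succ',
        ha0, zero_smul, add_zero, ← Finset.sum_add_distrib]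
      refine Finset.sum_eq_zero fun i hi => ?_
      rw [show c i = b i by simp [c, Finset.mem_range.1 hi], hb, neg_smul, neg_add_cancel]
  · obtain ⟨y, x, hx0, hx, hy, hne⟩ := exists_root_ne_zero p a ha0 m
    refine ⟨_, hder x, fun h => hne (hind (m + 1) (by omega) x h 0 (Nat.succ_pos m)), Or.inr ?_⟩
    rw [hsum, Finset.sum_range_succ, hy, ha, Finset.sum_range_succ', Finset.sum_range_succ' (fun i => x i • e i),
      smul_add, Finset.smul_sum, ← add_assoc, ← Finset.sum_add_distrib, smul_smul, mul_comm y, ← hx0]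
    congr 1
    refine Finset.sum_congr rfl fun i _ => ?_
    rw [hx i, add_smul, smul_smul, mul_comm y]

/-- The powers below `p` of a non-zero point derivation are independent. -/
theorem IsDer.pow_apply {d : WithConv (A →ₗ[k] k)} (hd : IsDer d) {x : A}
    (hx : Bialgebra.counitAlgHom k A x = 0) (hdx : d.ofConv x = 1) : ∀ n j : ℕ, n ≤ j →
      (d ^ n).ofConv (x ^ j) = if n = j then (n.factorial : k) else 0 := by
  intro n
  induction n using Nat.strong_induction_on with
  | _ n ih =>
    intro j hj
    rcases n with _ | n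
    · show (1 : WithConv (A →ₗ[k] k)).ofConv (x ^ j) = _
      have h1 : (1 : WithConv (A →ₗ[k] k)).ofConv (x ^ j) = Bialgebra.counitAlgHom k A (x ^ j) := by
        simp [LinearMap.convOne_def]
      rw [h1, map_pow, hx]
      rcases j with _ | j
      · simp
      · simp [zero_pow]
    · obtain ⟨i, rfl⟩ : ∃ i, j = i + 1 := ⟨j - 1, by omega⟩
      rw [pow_succ' x, hd.leibniz, Finset.sum_eq_single 1]
      · rw [Nat.choose_one_right, pow_one, hdx, mul_one, Nat.add_sub_cancel, ih n (Nat.lt_succ_self n) i (by omega)]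
        by_cases h : n = i
        · subst h; rw [if_pos rfl, if_pos rfl, Nat.factorial_succ]; push_cast; ring
        · rw [if_neg h, if_neg (by omega), mul_zero]
      · intro l hl hl1
        have hl' := Finset.mem_range.1 hl
        rcases l with _ | _ | l
        · have : (d ^ 0).ofConv x = 0 := by simpa [LinearMap.convOne_def] using hx
          rw [this, mul_zero, zero_mul]
        · exact absurd rfl hl1
        · rw [ih (n + 1 - (l + 1 + 1)) (by omega) i (by omega), if_neg (by omega), mul_zero]
      · simp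

theorem IsDer.pow_linearIndependent {d : WithConv (A →ₗ[k] k)} (hd : IsDer d) {x : A}
    (hx : Bialgebra.counitAlgHom k A x = 0) (hdx : d.ofConv x = 1) :
    LinearIndependent k fun n : Fin p => d ^ (n : ℕ) := by
  rw [Fintype.linearIndependent_iff]
  intro c hc j
  induction hj : p - (j : ℕ) using Nat.strong_induction_on generalizing j with
  | _ m ih =>
    have h0 := congrArg (fun φ : WithConv (A →ₗ[k] k) => φ.ofConv (x ^ (j : ℕ))) hc
    simp only [WithConv.ofConv_sum, LinearMap.sum_apply, WithConv.ofConv_smul, LinearMap.smul_apply,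
      WithConv.ofConv_zero, LinearMap.zero_apply, smul_eq_mul] at h0
    rw [Finset.sum_eq_single j] at h0
    · rw [hd.pow_apply hx hdx _ _ le_rfl, if_pos rfl] at h0
      refine (mul_eq_zero.1 h0).resolve_right ?_
      intro hf
      rw [CharP.cast_eq_zero_iff k p, (Fact.out : p.Prime).dvd_factorial] at hf
      omega
    · intro n _ hn
      rcases lt_or_gt_of_ne (fun e => hn (Fin.ext e) : (n : ℕ) ≠ j) with h1 | h1
      · rw [hd.pow_apply hx hdx _ _ h1.le, if_neg h1.ne, mul_zero]
      · rw [ih (p - (n : ℕ)) (by omega) n rfl, zero_mul]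
    · simp

theorem IsDer.exists_param {d : WithConv (A →ₗ[k] k)} (hd : IsDer d) (hd0 : d ≠ 0) :
    ∃ x : A, Bialgebra.counitAlgHom k A x = 0 ∧ d.ofConv x = 1 := by
  obtain ⟨a, ha⟩ : ∃ a, d.ofConv a ≠ 0 := by
    by_contra h
    push_neg at h
    exact hd0 (WithConv.ofConv_injective (LinearMap.ext h))
  refine ⟨(d.ofConv a)⁻¹ • (a - Bialgebra.counitAlgHom k A a • (1 : A)), ?_, ?_⟩
  · simp
  · rw [map_smul, map_sub, map_smul, hd.one, smul_zero, sub_zero, smul_eq_mul, inv_mul_cancel₀ ha]

/-- Classifying property of a bialgebra of rank `p` with a point derivation. -/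
theorem exists_bialgHom_of_der [Module.Finite k A] {C : Type w} [CommRing C] [Bialgebra k C] [Module.Finite k C]
    (hC : Module.finrank k C = p) {δ : WithConv (C →ₗ[k] k)} (hδ : IsDer δ) (hδ0 : δ ≠ 0) {c : k}
    (hδp : δ ^ p = c • δ) {d : WithConv (A →ₗ[k] k)} (hd : IsDer d) (hd0 : d ≠ 0) (hdp : d ^ p = c • d) :
    ∃ f : A →ₐc[k] C, Function.Surjective f := by
  classical
  have hp1 := (Fact.out : p.Prime).one_lt
  obtain ⟨y, hy, hδy⟩ := hδ.exists_param hδ0
  obtain ⟨x, hx, hdx⟩ := hd.exists_param hd0
  have hliC := hδ.pow_linearIndependent p hy hδy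
  haveI : Module.Finite k (WithConv (C →ₗ[k] k)) :=
    Module.Finite.equiv (WithConv.linearEquiv k (C →ₗ[k] k)).symm
  have hspan := hliC.span_eq_top_of_card_eq_finrank' (by
    rw [Fintype.card_fin, (WithConv.linearEquiv k (C →ₗ[k] k)).finrank_eq, Subspace.dual_finrank_eq, hC])
  let T : C →ₗ[k] (Fin p → k) := LinearMap.pi fun n => (δ ^ (n : ℕ)).ofConv
  have hTi : Function.Injective T := (injective_iff_map_eq_zero T).2 fun z hz =>
    (Module.forall_dual_apply_eq_zero_iff k z).1 fun φ => by
      have hφ : toConv φ ∈ Submodule.span k (Set.range fun n : Fin p => δ ^ (n : ℕ)) := hspan ▸ Submodule.mem_top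
      rw [Submodule.mem_span_range_iff_exists_fun] at hφ
      obtain ⟨l, hl⟩ := hφ
      rw [← ofConv_toConv φ, ← hl]
      simp only [WithConv.ofConv_sum, LinearMap.sum_apply, WithConv.ofConv_smul, LinearMap.smul_apply]
      exact Finset.sum_eq_zero fun n _ => by rw [show (δ ^ (n : ℕ)).ofConv z = 0 from congrFun hz n, smul_zero]
  have hTs : Function.Surjective T :=
    (LinearMap.injective_iff_surjective_of_finrank_eq_finrank (by rw [hC, Module.finrank_pi, Fintype.card_fin])).1 hTi
  let eT := LinearEquiv.ofBijective T ⟨hTi, hTs⟩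
  let F : A →ₗ[k] C := eT.symm.toLinearMap ∘ₗ LinearMap.pi fun n : Fin p => (d ^ (n : ℕ)).ofConv
  have hF : ∀ (n : ℕ) (a : A), (δ ^ n).ofConv (F a) = (d ^ n).ofConv a := by
    intro n
    induction n using Nat.strong_induction_on with
    | _ n ih =>
      intro a
      by_cases hn : n < p
      · exact congrFun (eT.apply_symm_apply (fun n : Fin p => (d ^ (n : ℕ)).ofConv a)) ⟨n, hn⟩
      · obtain ⟨m, rfl⟩ := Nat.exists_eq_add_of_le (not_lt.1 hn)
        rw [add_comm, pow_add, pow_add, hδp, hdp, mul_smul_comm, mul_smul_comm, ← pow_succ, ← pow_succ,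
          WithConv.ofConv_smul, WithConv.ofConv_smul, LinearMap.smul_apply, LinearMap.smul_apply,
          ih (m + 1) (by omega)]
  have hext : ∀ z z' : C, (∀ n : ℕ, (δ ^ n).ofConv z = (δ ^ n).ofConv z') → z = z' := fun z z' h =>
    hTi (funext fun n => h n)
  have h1 : F 1 = 1 := hext _ _ fun n => by
    rw [hF]
    rcases eq_or_ne n 0 with rfl | hn
    · simp [LinearMap.convOne_def]
    · rw [hd.pow_one_eq_zero hn, hδ.pow_one_eq_zero hn]
  have hmul : ∀ a b, F (a * b) = F a * F b := fun a b => hext _ _ fun n => by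
    rw [hF, hd.leibniz, hδ.leibniz]
    simp only [hF]
  let f : A →ₐ[k] C := AlgHom.ofLinearMap F h1 hmul
  have hpair : ∀ (φ ψ : WithConv (C →ₗ[k] k)) (a : A),
      LinearMap.mul' k k (TensorProduct.map φ.ofConv ψ.ofConv (Algebra.TensorProduct.map f f (Coalgebra.comul (R := k) a))) =
        (toConv (φ.ofConv ∘ₗ F) * toConv (ψ.ofConv ∘ₗ F)).ofConv a := by
    intro φ ψ a
    rw [LinearMap.convMul_def]
    simp only [ofConv_toConv, LinearMap.comp_apply]
    induction Coalgebra.comul (R := k) a using TensorProduct.induction_on with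
    | zero => simp
    | add p q hp hq => simp only [map_add, hp, hq]
    | tmul p q => simp [f]
  have hcomul : ∀ a, Algebra.TensorProduct.map f f (Coalgebra.comul (R := k) a) = Coalgebra.comul (R := k) (f a) := by
    intro a
    rw [← sub_eq_zero]
    refine (Module.forall_dual_apply_eq_zero_iff k _).1 fun Φ => ?_
    obtain ⟨y, rfl⟩ := (TensorProduct.dualDistribEquiv k C C).surjective Φ
    generalize hz : Algebra.TensorProduct.map f f (Coalgebra.comul (R := k) a) - Coalgebra.comul (R := k) (f a) = z
    have hkey : ∀ n m : ℕ, LinearMap.mul' k k (TensorProduct.map (δ ^ n).ofConv (δ ^ m).ofConv z) = 0 := by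
      intro n m
      have hcomp : ∀ n, toConv ((δ ^ n).ofConv ∘ₗ F) = d ^ n := fun n =>
        WithConv.ofConv_injective (LinearMap.ext fun a => hF n a)
      rw [← hz, map_sub, map_sub, hpair, hcomp, hcomp, ← pow_add, ← hF, pow_add, LinearMap.convMul_def]
      exact sub_eq_zero.2 rfl
    induction y using TensorProduct.induction_on with
    | zero => simp
    | add y y' hy hy' => rw [map_add, LinearMap.add_apply, hy, hy', add_zero]
    | tmul φ ψ =>
      have hmem : ∀ φ : C →ₗ[k] k, ∃ l : Fin p → k, φ = ∑ n, l n • (δ ^ (n : ℕ)).ofConv := fun φ => by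
        have hφ : toConv φ ∈ Submodule.span k (Set.range fun n : Fin p => δ ^ (n : ℕ)) := hspan ▸ Submodule.mem_top
        rw [Submodule.mem_span_range_iff_exists_fun] at hφ
        obtain ⟨l, hl⟩ := hφ
        exact ⟨l, by simpa [WithConv.ofConv_sum] using (congrArg WithConv.ofConv hl).symm⟩
      obtain ⟨l, rfl⟩ := hmem φ
      obtain ⟨l', rfl⟩ := hmem ψ
      simp only [TensorProduct.sum_tmul, TensorProduct.tmul_sum, map_sum, LinearMap.sum_apply]
      refine Finset.sum_eq_zero fun i _ => Finset.sum_eq_zero fun j _ => ?_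
      rw [TensorProduct.tmul_smul, map_smul, LinearMap.smul_apply, ← TensorProduct.smul_tmul', map_smul,
        LinearMap.smul_apply, show TensorProduct.dualDistribEquiv k C C ((δ ^ (j : ℕ)).ofConv ⊗ₜ[k] (δ ^ (i : ℕ)).ofConv) z =
          LinearMap.mul' k k (TensorProduct.map (δ ^ (j : ℕ)).ofConv (δ ^ (i : ℕ)).ofConv z) from ?_, hkey, smul_zero,
        smul_zero]
      clear hz hkey
      induction z using TensorProduct.induction_on with
      | zero => simp
      | add p q hp hq => simp only [map_add, hp, hq]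
      | tmul p q => simp
  have hcounit : ∀ a, Coalgebra.counit (R := k) (f a) = Coalgebra.counit (R := k) a := fun a => by
    have h := hF 0 a
    simp only [pow_zero, LinearMap.convOne_def, ofConv_toConv, LinearMap.comp_apply, Algebra.linearMap_apply,
      Algebra.algebraMap_self, RingHom.id_apply] at h
    exact h
  refine ⟨BialgHom.ofAlgHom f (AlgHom.ext hcounit) (AlgHom.ext hcomul), ?_⟩
  show Function.Surjective F
  rw [← LinearMap.dualMap_injective_iff]
  refine (injective_iff_map_eq_zero _).2 fun φ hφ => ?_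
  have hmem : toConv φ ∈ Submodule.span k (Set.range fun n : Fin p => δ ^ (n : ℕ)) := hspan ▸ Submodule.mem_top
  rw [Submodule.mem_span_range_iff_exists_fun] at hmem
  obtain ⟨l, hl⟩ := hmem
  have h0 : ∑ n : Fin p, l n • d ^ (n : ℕ) = 0 := by
    refine WithConv.ofConv_injective (LinearMap.ext fun a => ?_)
    have := LinearMap.congr_fun hφ a
    rw [LinearMap.dualMap_apply, ← ofConv_toConv φ, ← hl] at this
    simp only [WithConv.ofConv_sum, LinearMap.sum_apply, WithConv.ofConv_smul, LinearMap.smul_apply, hF] at this ⊢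
    rw [WithConv.ofConv_zero]
    exact this
  have hl0 := Fintype.linearIndependent_iff.1 (hd.pow_linearIndependent p hx hdx) l h0
  rw [← ofConv_toConv φ, ← hl]
  simp [hl0]

end CharP

end Groth.Agent.Lib.OT67
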