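import Groth.Agent.Lib.OT67.TruncStructure
import Groth.Agent.H24.PowerSeries
import Groth.Agent.Lib.Adic.Complete
import Groth.Agent.Lib.GRing.Component
import Mathlib

/-!
Power series presentations of connected finite flat group schemes over complete discrete valuation rings.
-/

open TensorProduct IsLocalRing

set_option linter.style.haveILetI false

universe u v

namespace Groth.Agent.Lib.OT67.PSPresentation

noncomputable section

/-- The monomial in the given elements. -/
abbrev mon {A : Type v} [CommRing A] {r : ℕ} (a : Fin r → A) {q : Fin r → ℕ} (α : (i : Fin r) → Fin (q i)) : A :=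
  ∏ i, a i ^ (α i : ℕ)

theorem trunc_span {k : Type u} [Field k] {r : ℕ} (q : Fin r → ℕ) :
    Submodule.span k (Set.range (mon (q := q) fun i : Fin r =>
      (Ideal.Quotient.mk _ (MvPolynomial.X i) : TruncStructure.Trunc k q))) = ⊤ := by
  classical
  refine top_le_iff.1 fun z _ => ?_
  obtain ⟨P, rfl⟩ := Ideal.Quotient.mkₐ_surjective k _ z
  rw [P.as_sum, map_sum]
  refine Submodule.sum_mem _ fun α _ => ?_
  rw [MvPolynomial.monomial_eq, map_mul, ← MvPolynomial.algebraMap_eq, AlgHom.commutes, ← Algebra.smul_def]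
  refine Submodule.smul_mem _ _ ?_
  rw [Finsupp.prod_fintype _ _ (by simp), map_prod]
  by_cases h : ∀ i, α i < q i
  · exact Submodule.subset_span ⟨fun i => ⟨α i, h i⟩, by simp [mon]⟩
  · push Not at h
    obtain ⟨i, hi⟩ := h
    rw [← map_prod, Ideal.Quotient.mkₐ_eq_mk, Ideal.Quotient.eq_zero_iff_mem.2]
    · exact zero_mem _
    refine Ideal.mem_of_dvd _ (Finset.dvd_prod_of_mem (fun j => (MvPolynomial.X j : MvPolynomial (Fin r) k) ^ α j) (Finset.mem_univ i)) ?_
    exact Ideal.mem_of_dvd _ (pow_dvd_pow _ hi) (Ideal.subset_span ⟨i, rfl⟩)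

/-- A series without small monomials is a combination of the large pure powers. -/
theorem mem_span_X_pow {R : Type u} [CommRing R] {r : ℕ} (q : Fin r → ℕ) (s : Finset (Fin r))
    (F : MvPowerSeries (Fin r) R) (h : ∀ m : Fin r →₀ ℕ, (∀ i ∈ s, m i < q i) → MvPowerSeries.coeff m F = 0) :
    F ∈ Ideal.span (Set.range fun i : Fin r => (MvPowerSeries.X i : MvPowerSeries (Fin r) R) ^ q i) := by
  classical
  induction s using Finset.induction_on generalizing F with
  | empty =>
    rw [show F = 0 from MvPowerSeries.ext fun m => by rw [h m (by simp), map_zero]]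
    exact zero_mem _
  | insert j t hj ih =>
    let G : MvPowerSeries (Fin r) R := fun m => if q j ≤ m j then MvPowerSeries.coeff m F else 0
    have hG : ∀ m, MvPowerSeries.coeff m G = if q j ≤ m j then MvPowerSeries.coeff m F else 0 := fun m => rfl
    have h1 : G ∈ Ideal.span (Set.range fun i : Fin r => (MvPowerSeries.X i : MvPowerSeries (Fin r) R) ^ q i) := by
      obtain ⟨w, hw⟩ := (MvPowerSeries.X_pow_dvd_iff (s := j) (n := q j) (φ := G)).2 fun m hm => by
        rw [hG, if_neg (by omega)]
      rw [hw]
      exact Ideal.mul_mem_right _ _ (Ideal.subset_span ⟨j, rfl⟩)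
    rw [show F = G + (F - G) by ring]
    refine add_mem h1 (ih _ fun m hm => ?_)
    rw [map_sub, hG]
    split_ifs with hc
    · rw [sub_self]
    · rw [sub_zero, h m]
      intro i hi
      rcases Finset.mem_insert.1 hi with rfl | hi
      · omega
      · exact hm i hi

variable (R : Type u) [CommRing R] [IsDomain R] [IsDiscreteValuationRing R] [IsAdicComplete (maximalIdeal R) R]
  (p : ℕ) [Fact p.Prime] [CharP (ResidueField R) p] [PerfectField (ResidueField R)]
  (A : Type v) [CommRing A] [HopfAlgebra R A] [Module.Finite R A] [Module.Flat R A] [IsLocalRing A]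

set_option maxHeartbeats 1000000 in
theorem exists_presentation :
    ∃ (n : ℕ) (e : Fin n → ℕ) (g : Fin n → MvPolynomial (Fin n) R),
      (∀ i, (∀ d, (g i).coeff d ∈ maximalIdeal R) ∧ (g i).degreeOf i < p ^ e i) ∧
      Nonempty (A ≃ₐ[R] (MvPowerSeries (Fin n) R ⧸
        Ideal.span (Set.range fun i => (MvPowerSeries.X i : MvPowerSeries (Fin n) R) ^ p ^ e i + ↑(g i)))) := by
  classical
  haveI : PerfectRing (ResidueField R) p := PerfectField.toPerfectRing p
  let inc : A →ₐ[R] ResidueField R ⊗[R] A := Algebra.TensorProduct.includeRight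
  have hincs : Function.Surjective inc := TensorProduct.mk_surjective R A (ResidueField R) residue_surjective
  haveI : Nontrivial (ResidueField R ⊗[R] A) :=
    Bialgebra.nontrivial (R := ResidueField R) (A := ResidueField R ⊗[R] A)
  haveI : IsLocalRing (ResidueField R ⊗[R] A) := IsLocalRing.of_surjective' inc.toRingHom hincs
  obtain ⟨r, e, he, hfr, ⟨ψ⟩⟩ :=
    TruncStructure.exists_trunc' (k := ResidueField R) p (ResidueField R ⊗[R] A)
  let q : Fin r → ℕ := fun i => p ^ e i
  have hq0 : ∀ i, 0 < q i := fun i => pow_pos (Fact.out : p.Prime).pos _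
  choose a ha using fun i => hincs (ψ.symm (Ideal.Quotient.mk _ (MvPolynomial.X i)))
  have hX0 : ∀ i, ψ.symm (Ideal.Quotient.mk _ (MvPolynomial.X i)) ^ q i = 0 := fun i => by
    rw [← map_pow, ← map_pow]
    exact (congrArg ψ.symm (Ideal.Quotient.eq_zero_iff_mem.2 (Ideal.subset_span ⟨i, rfl⟩))).trans (map_zero _)
  have hmon : ∀ α : (i : Fin r) → Fin (q i), inc (mon a α) =
      ψ.symm (mon (fun i => (Ideal.Quotient.mk _ (MvPolynomial.X i) : TruncStructure.Trunc (ResidueField R) q)) α) := by
    intro α
    simp only [mon, map_prod]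
    exact Finset.prod_congr rfl fun i _ => by rw [map_pow, map_pow, ha]
  have hspan : ∀ z, z ∈ Submodule.span (ResidueField R) (Set.range fun α : (i : Fin r) → Fin (q i) => inc (mon a α)) := by
    intro z
    have h : ψ z ∈ Submodule.span (ResidueField R) (Set.range (mon (q := q) fun i : Fin r =>
      (Ideal.Quotient.mk _ (MvPolynomial.X i) : TruncStructure.Trunc (ResidueField R) q))) := by
      rw [trunc_span]; trivial
    have h2 := Submodule.mem_map_of_mem (f := ψ.symm.toLinearMap) h
    rw [Submodule.map_span, ← Set.range_comp] at h2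
    have he2 : (ψ.symm.toLinearMap ∘ mon (q := q) fun i : Fin r =>
        (Ideal.Quotient.mk _ (MvPolynomial.X i) : TruncStructure.Trunc (ResidueField R) q)) = fun α => inc (mon a α) :=
      funext fun α => (hmon α).symm
    rw [he2] at h2
    simpa using h2
  have hli : LinearIndependent (ResidueField R) fun α : (i : Fin r) → Fin (q i) => inc (mon a α) := by
    refine linearIndependent_of_top_le_span_of_card_eq_finrank (fun z _ => hspan z) ?_
    rw [hfr, Fintype.card_pi]
    simp [q]
  have hbij : Function.Bijective (Finsupp.linearCombination R fun α : (i : Fin r) → Fin (q i) => mon a α) := by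
    refine Module.IsLocalRing.linearCombination_bijective_of_flat _ ⟨hli, ?_⟩
    rw [← LinearMap.range_eq_top, Finsupp.range_linearCombination]
    exact eq_top_iff.2 fun z _ => hspan z
  let bas : Module.Basis ((i : Fin r) → Fin (q i)) R A :=
    Module.Basis.ofRepr (LinearEquiv.ofBijective _ hbij).symm
  have hbas : ∀ α, bas α = mon a α := fun α => by simp [bas]
  let toExp : ((i : Fin r) → Fin (q i)) → (Fin r →₀ ℕ) := fun α => Finsupp.equivFunOnFinite.symm fun i => (α i : ℕ)
  let c : Fin r → ((i : Fin r) → Fin (q i)) → R := fun i α => bas.repr (a i ^ q i) α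
  have hc : ∀ i α, c i α ∈ maximalIdeal R := by
    intro i α
    rw [← residue_eq_zero_iff]
    have h0 : inc (a i ^ q i) = 0 := by
      rw [map_pow, ha, hX0]
    rw [← bas.sum_repr (a i ^ q i), map_sum] at h0
    simp only [map_smul, hbas] at h0
    have h1 : ∀ (t : R) (x : ResidueField R ⊗[R] A), t • x = residue R t • x := fun t x =>
      (algebraMap_smul (ResidueField R) t x).symm
    simp only [h1] at h0
    exact Fintype.linearIndependent_iff.1 hli _ h0 α
  let g : Fin r → MvPolynomial (Fin r) R := fun i => -∑ α, MvPolynomial.monomial (toExp α) (c i α)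
  have hg1 : ∀ i d, (g i).coeff d ∈ maximalIdeal R := by
    intro i d
    simp only [g, MvPolynomial.coeff_neg, MvPolynomial.coeff_sum, neg_mem_iff]
    refine sum_mem fun α _ => ?_
    rw [MvPolynomial.coeff_monomial]
    split_ifs
    · exact hc i α
    · exact zero_mem _
  have hg2 : ∀ i, (g i).degreeOf i < q i := by
    intro i
    rw [MvPolynomial.degreeOf_lt_iff (hq0 i)]
    intro d hd
    simp only [g, MvPolynomial.support_neg] at hd
    obtain ⟨α, -, hα⟩ := Finset.mem_biUnion.1 (MvPolynomial.support_sum hd)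
    rw [Finset.mem_singleton.1 (MvPolynomial.support_monomial_subset hα)]
    simp [toExp]
  -- completeness of `A`
  haveI : IsNoetherianRing A := IsNoetherianRing.of_finite R A
  haveI : IsAdicComplete (maximalIdeal R) A := Groth.Agent.Lib.Adic.Complete.isAdicComplete_of_finite
  haveI : IsAdicComplete ((maximalIdeal R).map (algebraMap R A)) A :=
    (IsAdicComplete.map_algebraMap_iff _ _).mpr inferInstance
  have hle : (maximalIdeal R).map (algebraMap R A) ≤ maximalIdeal A :=
    (IsAdicComplete.le_jacobson_bot _).trans (sInf_le ⟨bot_le, maximalIdeal.isMaximal A⟩)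
  have hrad : maximalIdeal A ≤ ((maximalIdeal R).map (algebraMap R A)).radical := by
    rw [Ideal.radical_eq_sInf]
    refine le_sInf fun Q ⟨hQ, hQp⟩ => ?_
    haveI := hQp
    have hQC : Q.comap (algebraMap R A) = maximalIdeal R :=
      ((maximalIdeal.isMaximal R).eq_of_le (Ideal.IsPrime.comap _).ne_top (Ideal.map_le_iff_le_comap.1 hQ)).symm
    haveI : Q.IsMaximal := Ideal.isMaximal_of_isIntegral_of_isMaximal_comap (R := R) Q
      (hQC ▸ maximalIdeal.isMaximal R)
    exact (IsLocalRing.eq_maximalIdeal ‹Q.IsMaximal›).ge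
  obtain ⟨N, hN⟩ := Ideal.exists_pow_le_of_le_radical_of_fg hrad (IsNoetherian.noetherian _)
  haveI : IsAdicComplete (maximalIdeal A) A := Groth.Agent.Lib.Adic.Transfer.isAdicComplete_of_le hle hN
  have ham : ∀ i, a i ∈ maximalIdeal A := fun i => by
    rw [mem_maximalIdeal, mem_nonunits_iff]
    intro hu
    have h0 : (inc (a i)) ^ q i = 0 := by
      rw [ha, hX0]
    exact not_isUnit_zero (h0 ▸ (hu.map inc).pow (q i))
  obtain ⟨Φ, hΦ⟩ := Groth.Agent.H24.PowerSeries.exists_hom (A := R) (maximalIdeal A) a ham
  -- polynomials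
  have hΦpol : ∀ P : MvPolynomial (Fin r) R, Φ ↑P = MvPolynomial.aeval a P := by
    intro P
    induction P using MvPolynomial.induction_on with
    | C t =>
      rw [MvPolynomial.coe_C, MvPowerSeries.c_eq_algebraMap, AlgHom.commutes, MvPolynomial.aeval_C]
    | add P Q hP hQ => rw [MvPolynomial.coe_add, map_add, map_add, hP, hQ]
    | mul_X P i hP => rw [MvPolynomial.coe_mul, MvPolynomial.coe_X, map_mul, map_mul, hP, hΦ, MvPolynomial.aeval_X]
  let J := Ideal.span (Set.range fun i => (MvPowerSeries.X i : MvPowerSeries (Fin r) R) ^ q i + ↑(g i))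
  have hmonX : ∀ α : (i : Fin r) → Fin (q i),
      Φ (mon (fun i => (MvPowerSeries.X i : MvPowerSeries (Fin r) R)) α) = mon a α := fun α => by
    simp [mon, map_prod, hΦ]
  have hexp : ∀ α : (i : Fin r) → Fin (q i),
      MvPolynomial.aeval a (MvPolynomial.monomial (toExp α) (1 : R)) = mon a α := fun α => by
    rw [MvPolynomial.aeval_monomial, map_one, one_mul, Finsupp.prod_fintype _ _ (by simp)]
    simp [toExp, mon]
  have hJ : ∀ F ∈ J, Φ F = 0 := by
    refine fun F hF => RingHom.mem_ker.1 ((Ideal.span_le.2 ?_ : J ≤ RingHom.ker Φ) hF)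
    rintro _ ⟨i, rfl⟩
    rw [SetLike.mem_coe, RingHom.mem_ker, map_add, map_pow, hΦ, hΦpol]
    simp only [g, map_neg, map_sum]
    conv_lhs => arg 1; rw [← bas.sum_repr (a i ^ q i)]
    rw [← sub_eq_add_neg, sub_eq_zero]
    refine Finset.sum_congr rfl fun α _ => ?_
    rw [hbas, ← hexp, ← map_smul, MvPolynomial.smul_monomial, smul_eq_mul, mul_one]
  let φ : (MvPowerSeries (Fin r) R ⧸ J) →ₐ[R] A := Ideal.Quotient.liftₐ J Φ hJ
  -- the quotient is spanned by the small monomials
  let P := MvPowerSeries (Fin r) R ⧸ J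
  let m : ((i : Fin r) → Fin (q i)) → P := fun α =>
    Ideal.Quotient.mk J (mon (fun i => (MvPowerSeries.X i : MvPowerSeries (Fin r) R)) α)
  let S := Submodule.span R (Set.range m)
  have hmP : ∀ (t : R), t ∈ maximalIdeal R → ∀ z : P, algebraMap R P t * z ∈ (maximalIdeal R • ⊤ : Submodule R P) :=
    fun t ht z => by rw [← Algebra.smul_def]; exact Submodule.smul_mem_smul ht trivial
  have hgP : ∀ i, Ideal.Quotient.mk J (↑(g i)) ∈ (maximalIdeal R • ⊤ : Submodule R P) := by
    intro i
    conv => arg 2; rw [(g i).as_sum, ← MvPolynomial.coeToMvPowerSeries.ringHom_apply, map_sum, map_sum]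
    refine sum_mem fun d _ => ?_
    rw [← mul_one ((g i).coeff d), ← smul_eq_mul, ← MvPolynomial.smul_monomial, Algebra.smul_def, map_mul, map_mul,
      MvPolynomial.algebraMap_eq, MvPolynomial.coeToMvPowerSeries.ringHom_apply, MvPolynomial.coe_C,
      MvPowerSeries.c_eq_algebraMap, Ideal.Quotient.mk_algebraMap]
    exact hmP _ (hg1 i d) _
  have hred : ∀ z : P, z ∈ S ⊔ (maximalIdeal R • ⊤ : Submodule R P) := by
    intro z
    obtain ⟨F, rfl⟩ := Ideal.Quotient.mk_surjective z
    let F₀ : MvPowerSeries (Fin r) R := ∑ α : (i : Fin r) → Fin (q i),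
      MvPowerSeries.coeff (toExp α) F • mon (fun i => (MvPowerSeries.X i : MvPowerSeries (Fin r) R)) α
    have hcoe : ∀ α : (i : Fin r) → Fin (q i),
        mon (fun i => (MvPowerSeries.X i : MvPowerSeries (Fin r) R)) α = MvPowerSeries.monomial (toExp α) 1 := fun α => by
      rw [← MvPolynomial.coe_monomial, MvPolynomial.monomial_eq, Finsupp.prod_fintype _ _ (by simp),
        MvPolynomial.C_1, one_mul, ← MvPolynomial.coeToMvPowerSeries.ringHom_apply, map_prod]
      simp [mon, toExp]
    have hinj : Function.Injective toExp := fun α β h =>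
      funext fun i => Fin.ext (congrFun (Finsupp.equivFunOnFinite.symm.injective h) i)
    have hrest : F - F₀ ∈ Ideal.span (Set.range fun i : Fin r => (MvPowerSeries.X i : MvPowerSeries (Fin r) R) ^ q i) := by
      refine mem_span_X_pow q Finset.univ _ fun d hd => ?_
      obtain ⟨α, rfl⟩ : ∃ α, toExp α = d := ⟨fun i => ⟨d i, hd i (Finset.mem_univ i)⟩, by ext; simp [toExp]⟩
      rw [map_sub, map_sum, Finset.sum_eq_single α]
      · rw [map_smul, hcoe, MvPowerSeries.coeff_monomial, if_pos rfl, smul_eq_mul, mul_one, sub_self]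
      · intro β _ hβ
        rw [map_smul, hcoe, MvPowerSeries.coeff_monomial, if_neg fun h => hβ (hinj h).symm, smul_zero]
      · exact fun h => absurd (Finset.mem_univ α) h
    rw [show F = F₀ + (F - F₀) by ring, map_add]
    refine Submodule.add_mem_sup ?_ ?_
    · simp only [F₀, map_sum]
      refine sum_mem fun α _ => ?_
      rw [← Ideal.Quotient.mkₐ_eq_mk R, map_smul]
      exact S.smul_mem _ (Submodule.subset_span ⟨α, rfl⟩)
    · rw [Ideal.mem_span_range_iff_exists_fun] at hrest
      obtain ⟨w, hw⟩ := hrest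
      rw [← hw, map_sum]
      refine sum_mem fun i _ => ?_
      have h1 : Ideal.Quotient.mk J ((MvPowerSeries.X i : MvPowerSeries (Fin r) R) ^ q i) = -Ideal.Quotient.mk J (↑(g i)) := by
        rw [eq_neg_iff_add_eq_zero, ← map_add, Ideal.Quotient.eq_zero_iff_mem]
        exact Ideal.subset_span ⟨i, rfl⟩
      rw [map_mul]
      have h2 : Ideal.Quotient.mk J ((MvPowerSeries.X i : MvPowerSeries (Fin r) R) ^ q i) ∈
          (maximalIdeal R • ⊤ : Submodule R P) := by
        rw [h1]; exact (maximalIdeal R • ⊤ : Submodule R P).neg_mem (hgP i)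
      generalize Ideal.Quotient.mk J ((MvPowerSeries.X i : MvPowerSeries (Fin r) R) ^ q i) = y₀ at h2
      induction h2 using Submodule.smul_induction_on' with
      | smul t ht y _ => rw [mul_smul_comm]; exact Submodule.smul_mem_smul ht trivial
      | add y _ y' _ hy hy' => rw [mul_add]; exact add_mem hy hy'
  haveI : Nontrivial P := φ.toRingHom.domain_nontrivial
  haveI : IsNoetherianRing (MvPowerSeries (Fin r) R) :=
    Groth.Agent.Lib.Adic.Complete.isNoetherianRing_of_fg (J := Ideal.span (Set.range MvPowerSeries.X))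
      (Submodule.fg_span (Set.finite_range _))
      (A := MvPowerSeries (Fin r) R)
  haveI : IsNoetherianRing P := inferInstance
  haveI : IsLocalRing P := IsLocalRing.of_surjective' (Ideal.Quotient.mk J) Ideal.Quotient.mk_surjective
  haveI : IsHausdorff (maximalIdeal R) P := by
    refine IsHausdorff.of_map (J := maximalIdeal P) ?_
    rw [Ideal.map_le_iff_le_comap]
    intro t ht
    rw [Ideal.mem_comap, mem_maximalIdeal, mem_nonunits_iff]
    intro hu
    have hu2 := hu.map φ.toRingHom
    rw [show φ.toRingHom (algebraMap R P t) = algebraMap R A t from φ.commutes t] at hu2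
    exact (mem_maximalIdeal _).1 (hle (Ideal.mem_map_of_mem _ ht)) hu2
  haveI : Module.Finite R P := by
    apply Groth.Agent.Lib.Adic.Complete.finite_of_finite_quotient (I := maximalIdeal R)
    refine Module.Finite.of_surjective
      ((Submodule.mkQ _).comp (Finsupp.linearCombination R m) : _ →ₗ[R] P ⧸ (maximalIdeal R • ⊤ : Submodule R P)) ?_
    intro z
    obtain ⟨z, rfl⟩ := Submodule.mkQ_surjective _ z
    obtain ⟨y, hy, w, hw, rfl⟩ := Submodule.mem_sup.1 (hred z)
    rw [show S = LinearMap.range (Finsupp.linearCombination R m) from (Finsupp.range_linearCombination R).symm] at hy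
    obtain ⟨x, rfl⟩ := hy
    exact ⟨x, by rw [map_add, LinearMap.comp_apply, Submodule.mkQ_apply, Submodule.mkQ_apply,
      (Submodule.Quotient.mk_eq_zero _).2 hw, add_zero]⟩
  have htop : S = ⊤ := eq_top_iff.2 <| Submodule.le_of_le_smul_of_le_jacobson_bot Module.Finite.fg_top
    (IsLocalRing.maximalIdeal_le_jacobson _) fun z _ => hred z
  have hφbij : Function.Bijective φ := by
    have hφm : ∀ x, φ (Finsupp.linearCombination R m x) = Finsupp.linearCombination R (fun α => mon a α) x := by
      intro x
      induction x using Finsupp.induction_linear with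
      | zero => simp
      | add x y hx hy => simp only [map_add, hx, hy]
      | single α t =>
        rw [Finsupp.linearCombination_single, Finsupp.linearCombination_single, map_smul]
        exact congrArg (t • ·) (hmonX α)
    have hsurjm : Function.Surjective (Finsupp.linearCombination R m) := by
      rw [← LinearMap.range_eq_top, Finsupp.range_linearCombination]; exact htop
    refine ⟨fun x y hxy => ?_, fun z => ?_⟩
    · obtain ⟨x, rfl⟩ := hsurjm x
      obtain ⟨y, rfl⟩ := hsurjm y
      rw [hφm, hφm] at hxy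
      rw [hbij.1 hxy]
    · obtain ⟨x, rfl⟩ := hbij.2 z
      exact ⟨_, hφm x⟩
  exact ⟨r, e, g, fun i => ⟨hg1 i, hg2 i⟩, ⟨(AlgEquiv.ofBijective φ hφbij).symm⟩⟩

end

end Groth.Agent.Lib.OT67.PSPresentation
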