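import Groth.Agent.Lib.OT67.Present
import Mathlib

/-!
The Cartier pairing of a group scheme of prime order on eigen-submodules.
-/

open TensorProduct WithConv

universe u v

namespace Groth.Agent.Lib.OT67

theorem rankAtStalk_dual {R : Type u} [CommRing R] (M : Type v) [AddCommGroup M] [Module R M] [Module.Finite R M]
    [Module.Projective R M] (q : PrimeSpectrum R) :
    Module.rankAtStalk (M →ₗ[R] R) q = Module.rankAtStalk M q := by
  haveI : Module.FinitePresentation R M := Module.finitePresentation_of_projective R M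
  haveI : Module.Free (Localization.AtPrime q.asIdeal) (LocalizedModule q.asIdeal.primeCompl M) :=
    Module.free_of_flat_of_isLocalRing
  haveI : Module.Free (Localization.AtPrime q.asIdeal) (LocalizedModule q.asIdeal.primeCompl R) :=
    Module.free_of_flat_of_isLocalRing
  haveI : Nontrivial R := q.nontrivial
  have h1 : Module.rankAtStalk (R := R) R q = 1 := by
    rw [Module.rankAtStalk_eq_finrank_of_free, Module.finrank_self]
    simp
  unfold Module.rankAtStalk at h1 ⊢
  rw [((Module.FinitePresentation.linearEquivMapExtendScalars q.asIdeal.primeCompl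
      (M := M) (N := R)).extendScalarsOfIsLocalization q.asIdeal.primeCompl
        (Localization.AtPrime q.asIdeal)).finrank_eq,
    Module.finrank_linearMap, h1, mul_one]

variable {R : Type u} [CommRing R] {A : Type u} [CommRing A] [HopfAlgebra R A] [Coalgebra.IsCocomm R A]

instance tensorMonoidHomClass {B : Type*} [Semiring B] [Algebra R B] :
    MonoidHomClass (A ⊗[R] CartDual.D R A →ₐ[R] B) (A ⊗[R] CartDual.D R A) B where
  map_mul f := f.toRingHom.map_mul
  map_one f := f.toRingHom.map_one

instance toTensorMonoidHomClass {B : Type*} [Semiring B] [Algebra R B] :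
    MonoidHomClass (B →ₐ[R] A ⊗[R] CartDual.D R A) B (A ⊗[R] CartDual.D R A) where
  map_mul f := f.toRingHom.map_mul
  map_one f := f.toRingHom.map_one

/-- Constant maps. -/
noncomputable def constHom : A →ₐ[R] WithConv (A →ₗ[R] A) :=
  AlgHom.ofLinearMap
    { toFun := fun a => toConv (LinearMap.toSpanSingleton R A a ∘ₗ (Bialgebra.counitAlgHom R A).toLinearMap)
      map_add' := fun a b => WithConv.ofConv_injective (LinearMap.ext fun x => by simp)
      map_smul' := fun r a => WithConv.ofConv_injective (LinearMap.ext fun x => by simp [smul_smul, mul_comm]) }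
    (WithConv.ofConv_injective (LinearMap.ext fun x => (Algebra.algebraMap_eq_smul_one _).symm))
    (fun a b => WithConv.ofConv_injective (LinearMap.ext fun x => by
      have key : ∀ z : A ⊗[R] A,
          LinearMap.mul' R A (TensorProduct.map
            (LinearMap.toSpanSingleton R A a ∘ₗ (Bialgebra.counitAlgHom R A).toLinearMap)
            (LinearMap.toSpanSingleton R A b ∘ₗ (Bialgebra.counitAlgHom R A).toLinearMap) z) =
          Bialgebra.counitAlgHom R A (TensorProduct.lid R A (Coalgebra.counit.rTensor A z)) • (a * b) := by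
        intro z
        induction z using TensorProduct.induction_on with
        | zero => simp
        | add p q hp hq => simp only [map_add, hp, hq, add_smul]
        | tmul p q => simp [smul_smul, mul_comm]
      show Bialgebra.counitAlgHom R A x • (a * b) = _
      rw [LinearMap.convMul_def]
      show _ = LinearMap.mul' R A (TensorProduct.map _ _ (Coalgebra.comul (R := R) x))
      erw [key]
      rw [Coalgebra.rTensor_counit_comul, TensorProduct.lid_tmul, one_smul]))

/-- Scalar-valued maps. -/
noncomputable def scalarHom : CartDual.D R A →ₐ[R] WithConv (A →ₗ[R] A) :=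
  AlgHom.ofLinearMap
    { toFun := fun f => toConv (Algebra.linearMap R A ∘ₗ f.ofConv)
      map_add' := fun a b => WithConv.ofConv_injective (LinearMap.comp_add _ _ _)
      map_smul' := fun r a => WithConv.ofConv_injective (LinearMap.comp_smul _ _ _) }
    (WithConv.ofConv_injective (LinearMap.ext fun x => by
      show algebraMap R A (algebraMap R R _) = algebraMap R A _
      rw [Algebra.algebraMap_self]; rfl))
    (fun f g => WithConv.ofConv_injective (LinearMap.algHom_comp_convMul_distrib (Algebra.ofId R A) f g))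

theorem constHom_apply (a x : A) :
    (constHom (R := R) a).ofConv x = Coalgebra.counit (R := R) x • a := rfl

theorem scalarHom_apply (f : CartDual.D R A) (x : A) :
    (scalarHom (R := R) (A := A) f).ofConv x = algebraMap R A (f.ofConv x) := rfl

/-- The pairing map into endomorphisms. -/
noncomputable def Psi : A ⊗[R] CartDual.D R A →ₐ[R] WithConv (A →ₗ[R] A) :=
  Algebra.TensorProduct.lift (constHom (R := R) (A := A)) (scalarHom (R := R) (A := A)) fun a f => by
    apply WithConv.ofConv_injective
    refine LinearMap.ext fun x => ?_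
    have key : ∀ z : A ⊗[R] A,
        LinearMap.mul' R A (TensorProduct.map (constHom (R := R) (A := A) a).ofConv (scalarHom (R := R) (A := A) f).ofConv z) =
          f.ofConv (TensorProduct.lid R A (Coalgebra.counit.rTensor A z)) • a ∧
        LinearMap.mul' R A (TensorProduct.map (scalarHom (R := R) (A := A) f).ofConv (constHom (R := R) (A := A) a).ofConv z) =
          f.ofConv (TensorProduct.rid R A (Coalgebra.counit.lTensor A z)) • a := by
      intro z
      induction z using TensorProduct.induction_on with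
      | zero => simp
      | add p q hp hq => simp only [map_add, hp.1, hq.1, hp.2, hq.2, add_smul, and_self]
      | tmul p q =>
        simp [constHom_apply, scalarHom_apply, Algebra.algebraMap_eq_smul_one, smul_smul, mul_comm]
    show LinearMap.mul' R A (TensorProduct.map (constHom (R := R) (A := A) a).ofConv (scalarHom (R := R) (A := A) f).ofConv (Coalgebra.comul x)) =
      LinearMap.mul' R A (TensorProduct.map (scalarHom (R := R) (A := A) f).ofConv (constHom (R := R) (A := A) a).ofConv (Coalgebra.comul x))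
    rw [(key _).1, (key _).2, Coalgebra.rTensor_counit_comul, Coalgebra.lTensor_counit_comul,
      TensorProduct.lid_tmul, TensorProduct.rid_tmul]

local notation "Ψ" => (Psi (R := R) (A := A))

theorem Psi_tmul (a : A) (f : CartDual.D R A) (x : A) : (Ψ (a ⊗ₜ f)).ofConv x = f.ofConv x • a := by
  have h : Ψ (a ⊗ₜ f) = constHom (R := R) (A := A) a * scalarHom (R := R) (A := A) f :=
    Algebra.TensorProduct.lift_tmul _ _ _ _ _
  rw [h, LinearMap.convMul_def]
  show LinearMap.mul' R A (TensorProduct.map (constHom (R := R) (A := A) a).ofConv (scalarHom (R := R) (A := A) f).ofConv (Coalgebra.comul x)) = _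
  have key : ∀ z : A ⊗[R] A,
      LinearMap.mul' R A (TensorProduct.map (constHom (R := R) (A := A) a).ofConv (scalarHom (R := R) (A := A) f).ofConv z) =
        f.ofConv (TensorProduct.lid R A (Coalgebra.counit.rTensor A z)) • a := by
    intro z
    induction z using TensorProduct.induction_on with
    | zero => simp
    | add p q hp hq => simp only [map_add, hp, hq, add_smul]
    | tmul p q => simp [constHom_apply, scalarHom_apply, Algebra.algebraMap_eq_smul_one, smul_smul, mul_comm]
  rw [key, Coalgebra.rTensor_counit_comul, TensorProduct.lid_tmul, one_smul]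

theorem Psi_apply (z : A ⊗[R] CartDual.D R A) (a : A) :
    (Ψ z).ofConv a = TensorProduct.rid R A
      (LinearMap.lTensor A ((Module.Dual.eval R A a) ∘ₗ (CartDual.toDual R A).toLinearMap) z) := by
  induction z using TensorProduct.induction_on with
  | zero => simp
  | add p q hp hq => simp only [map_add, WithConv.ofConv_add, LinearMap.add_apply, hp, hq]
  | tmul x f => rw [Psi_tmul]; rfl

section finite
variable [Module.Finite R A] [Module.Projective R A]

theorem exists_dual_basis : ∃ (n : ℕ) (e : Fin n → A) (ψ : Fin n → (A →ₗ[R] R)),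
    ∀ a, ∑ i, ψ i a • e i = a := by
  obtain ⟨n, f, g, -, -, hfg⟩ := Module.Finite.exists_comp_eq_id_of_projective R A
  refine ⟨n, fun i => f (Pi.single i 1), fun i => LinearMap.proj i ∘ₗ g, fun a => ?_⟩
  conv_rhs => rw [show a = f (g a) from (DFunLike.congr_fun hfg a).symm, pi_eq_sum_univ' (g a), map_sum]
  simp only [map_smul, LinearMap.comp_apply, LinearMap.proj_apply]

theorem Psi_injective : Function.Injective (Ψ : A ⊗[R] CartDual.D R A → WithConv (A →ₗ[R] A)) := by
  obtain ⟨n, e, ψ, h⟩ := exists_dual_basis (R := R) (A := A)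
  let G : WithConv (A →ₗ[R] A) → A ⊗[R] CartDual.D R A := fun g => ∑ i, g.ofConv (e i) ⊗ₜ toConv (ψ i)
  refine Function.LeftInverse.injective (g := G) fun z => ?_
  induction z using TensorProduct.induction_on with
  | zero => simp [G]
  | add p q hp hq =>
    conv_rhs => rw [← hp, ← hq]
    simp only [G, map_add, WithConv.ofConv_add, LinearMap.add_apply, add_tmul, Finset.sum_add_distrib]
  | tmul a f =>
    simp only [G, Psi_tmul, smul_tmul]
    rw [← tmul_sum]
    congr 1
    refine WithConv.ofConv_injective (LinearMap.ext fun x => ?_)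
    simp only [WithConv.ofConv_sum, LinearMap.sum_apply, WithConv.ofConv_smul, LinearMap.smul_apply, ofConv_toConv,
      smul_eq_mul]
    conv_rhs => rw [← h x, map_sum]
    simp only [map_smul, smul_eq_mul, mul_comm]

theorem exists_delta : ∃ δ : A ⊗[R] CartDual.D R A, Ψ δ = toConv LinearMap.id := by
  obtain ⟨n, e, ψ, h⟩ := exists_dual_basis (R := R) (A := A)
  refine ⟨∑ i, e i ⊗ₜ toConv (ψ i), WithConv.ofConv_injective (LinearMap.ext fun x => ?_)⟩
  simp only [map_sum, WithConv.ofConv_sum, LinearMap.sum_apply, Psi_tmul, ofConv_toConv, h, LinearMap.id_apply]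

variable (p : ℕ) [Fact p.Prime] {u : R} {χ : (ZMod p)ˣ →* Rˣ}
variable (hu : u * ((p - 1 : ℕ) : R) = 1) (hχ : ∀ m : (ZMod p)ˣ, m ≠ 1 → IsUnit ((χ m : R) - 1))
  (hχp : ∀ m : (ZMod p)ˣ, ((χ m : Rˣ) : R) - (((m : ZMod p).val : ℕ) : R) ∈ Ideal.span ({(p : R)} : Set R))
  (hrk : ∀ q : PrimeSpectrum R, Module.rankAtStalk A q = p)

theorem Psi_delta_pow {δ : A ⊗[R] CartDual.D R A} (hδ : Ψ δ = toConv LinearMap.id) (n : ℕ) :
    Ψ (δ ^ n) = toConv (SGA3b.powConv R A n).toLinearMap := by
  rw [map_pow, hδ, SGA3b.powConv, AlgHom.toLinearMap_convPow, ofConv_toConv, AlgHom.toLinearMap_id]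

include hrk in
theorem exists_pairing : ∃ ϕ : MonoidAlgebra R (Multiplicative (ZMod p)) →ₐ[R] A ⊗[R] CartDual.D R A,
    Ψ (ϕ (OortTate.muT R p)) = toConv LinearMap.id := by
  obtain ⟨δ, hδ⟩ := exists_delta (R := R) (A := A)
  have hp : δ ^ p = 1 := by
    apply Psi_injective
    rw [Psi_delta_pow hδ, map_one, SGA3b.powConv, pow_id_eq_one' p hrk]
    exact AlgHom.toLinearMap_convOne
  let F : Multiplicative (ZMod p) →* A ⊗[R] CartDual.D R A :=
    { toFun := fun g => δ ^ (Multiplicative.toAdd g).val
      map_one' := by rw [toAdd_one, ZMod.val_zero, pow_zero]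
      map_mul' := fun a b => by rw [toAdd_mul, ZMod.val_add, ← pow_eq_pow_mod _ hp, pow_add] }
  refine ⟨MonoidAlgebra.lift R _ (Multiplicative (ZMod p)) F, ?_⟩
  rw [OortTate.muT, MonoidAlgebra.lift_of]
  show Ψ (δ ^ (Multiplicative.toAdd (Multiplicative.ofAdd (1 : ZMod p))).val) = _
  rw [toAdd_ofAdd, ZMod.val_one, pow_one, hδ]

variable {ϕ : MonoidAlgebra R (Multiplicative (ZMod p)) →ₐ[R] A ⊗[R] CartDual.D R A}
  (hϕ : Psi (R := R) (A := A) (ϕ (OortTate.muT R p)) = toConv (LinearMap.id (R := R) (M := A)))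

include hϕ in
theorem Psi_ygen (i : ℕ) : Ψ (ϕ (OortTate.ygen R p u χ i)) = toConv (P p u χ i) := by
  have hm : ∀ m : ℕ, Ψ (ϕ (SGA3b.powConv R (MonoidAlgebra R (Multiplicative (ZMod p))) m (OortTate.muT R p - 1))) =
      toConv ((SGA3b.powConv R A m).toLinearMap ∘ₗ
        (LinearMap.id - LinearMap.toSpanSingleton R A 1 ∘ₗ (Bialgebra.counitAlgHom R A).toLinearMap)) := by
    intro m
    have h1 : SGA3b.powConv R (MonoidAlgebra R (Multiplicative (ZMod p))) m (OortTate.muT R p) =
        OortTate.muT R p ^ m :=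
      powConv_of_grouplike (A := MonoidAlgebra R (Multiplicative (ZMod p))) (comul_of p (Multiplicative.ofAdd 1))
        (counit_of p (Multiplicative.ofAdd 1)) _
    have h2 : (toConv LinearMap.id : WithConv (A →ₗ[R] A)) ^ m = toConv (SGA3b.powConv R A m).toLinearMap := by
      rw [SGA3b.powConv, AlgHom.toLinearMap_convPow, ofConv_toConv, AlgHom.toLinearMap_id]
    rw [map_sub, map_one, h1, map_sub, map_one, map_pow, map_sub, map_one, map_pow, hϕ, h2]
    refine WithConv.ofConv_injective (LinearMap.ext fun x => ?_)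
    show SGA3b.powConv R A m x - algebraMap R A (Coalgebra.counit x) =
      SGA3b.powConv R A m (x - Bialgebra.counitAlgHom R A x • (1 : A))
    rw [map_sub, map_smul, map_one, Algebra.algebraMap_eq_smul_one, Bialgebra.counitAlgHom_apply]
  have hy : Ψ (ϕ (OortTate.ygen R p u χ i)) = u • ∑ m : (ZMod p)ˣ, (((χ m⁻¹ : Rˣ) : R) ^ i) •
      Ψ (ϕ (SGA3b.powConv R (MonoidAlgebra R (Multiplicative (ZMod p))) (m : ZMod p).val (OortTate.muT R p - 1))) := by
    simp only [OortTate.ygen, OortTate.proj, LinearMap.smul_apply, LinearMap.sum_apply, AlgHom.toLinearMap_apply,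
      map_smul, map_sum]
  rw [hy]
  simp only [hm]
  refine WithConv.ofConv_injective (LinearMap.ext fun x => ?_)
  simp only [WithConv.ofConv_smul, WithConv.ofConv_sum, LinearMap.smul_apply, LinearMap.sum_apply, P_apply,
    OortTate.proj, AlgHom.toLinearMap_apply, ofConv_toConv, LinearMap.comp_apply]
  rfl

theorem rank_dual (q : PrimeSpectrum R) (hrk : ∀ q : PrimeSpectrum R, Module.rankAtStalk A q = p) :
    Module.rankAtStalk (CartDual.D R A) q = p := by
  rw [Module.rankAtStalk_eq_of_equiv (CartDual.toDual R A), rankAtStalk_dual, hrk]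

include hu hrk in
/-- A form in an eigen-submodule of the dual factors through the projection. -/
theorem dual_eq_comp {i : ℕ} {F : CartDual.D R A} (hF : F ∈ OortTate.eigenAug R (CartDual.D R A) p χ i) (a : A) :
    F.ofConv a = F.ofConv (P p u χ i a) := by
  obtain ⟨h1, -⟩ := (mem_eigenAug p).1 hF
  have h1' : F.ofConv (1 : A) = 0 := h1
  rw [P_apply]
  have hb : F.ofConv (a - Bialgebra.counitAlgHom R A a • (1 : A)) = F.ofConv a := by
    rw [map_sub, map_smul, h1', smul_zero, sub_zero]
  conv_lhs => rw [← hb]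
  generalize a - Bialgebra.counitAlgHom R A a • (1 : A) = b
  have h3 := congrArg (fun G : CartDual.D R A => G.ofConv b) (proj_of_mem p hu hF)
  conv_lhs => rw [← h3]
  simp only [OortTate.proj, LinearMap.smul_apply, LinearMap.sum_apply, AlgHom.toLinearMap_apply,
    WithConv.ofConv_smul, WithConv.ofConv_sum, map_smul, map_sum]
  congr 1
  refine Finset.sum_congr rfl fun m _ => ?_
  congr 1
  exact powConv_dual_apply _ _ _

include hu hrk in
theorem comp_P_mem (i : ℕ) (ψ : A →ₗ[R] R) :
    toConv (ψ ∘ₗ P p u χ i) ∈ OortTate.eigenAug R (CartDual.D R A) p χ i := by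
  have hp := pow_id_eq_one' p hrk
  obtain ⟨⟨F, hF⟩, hFl⟩ := (eigen_restrict_bijective p hu hp i).2 (ψ ∘ₗ (OortTate.eigenAug R A p χ i).subtype)
  have : F = toConv (ψ ∘ₗ P p u χ i) := by
    refine WithConv.ofConv_injective (LinearMap.ext fun a => ?_)
    rw [dual_eq_comp p hu hrk hF]
    exact LinearMap.congr_fun hFl ⟨_, P_mem p hu hp i a⟩
  exact this ▸ hF

include hu hrk in
theorem dual_ext {i : ℕ} {F G : CartDual.D R A} (hF : F ∈ OortTate.eigenAug R (CartDual.D R A) p χ i)
    (hG : G ∈ OortTate.eigenAug R (CartDual.D R A) p χ i)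
    (h : ∀ x ∈ OortTate.eigenAug R A p χ i, F.ofConv x = G.ofConv x) : F = G := by
  refine WithConv.ofConv_injective (LinearMap.ext fun a => ?_)
  rw [dual_eq_comp p hu hrk hF, dual_eq_comp p hu hrk hG]
  exact h _ (P_mem p hu (pow_id_eq_one' p hrk) i a)

include hu hχ hχp hrk hϕ in
theorem tmul_eq_smul {i : ℕ} {x : A} (hx : x ∈ OortTate.eigenAug R A p χ i) {F : CartDual.D R A}
    (hF : F ∈ OortTate.eigenAug R (CartDual.D R A) p χ i) :
    x ⊗ₜ F = F.ofConv x • ϕ (OortTate.ygen R p u χ i) := by
  have hp := pow_id_eq_one' p (A := A) hrk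
  haveI := eigen_finite p (χ := χ) (A := A) hu hp i
  haveI := eigen_projective p (χ := χ) (A := A) hu hp i
  apply Psi_injective
  refine WithConv.ofConv_injective (LinearMap.ext fun z => ?_)
  rw [Psi_tmul, map_smul, Psi_ygen p hϕ, WithConv.ofConv_smul, LinearMap.smul_apply, ofConv_toConv,
    dual_eq_comp p hu hrk hF z]
  exact congrArg Subtype.val (rank_one_swap (eigen_rank_one p hu hχ hχp hrk i)
    (F.ofConv ∘ₗ (OortTate.eigenAug R A p χ i).subtype) ⟨_, P_mem p hu hp i z⟩ ⟨x, hx⟩)

include hu hχ hχp hrk in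
theorem eigen_faithful (i : ℕ) {r : R} (h : ∀ x ∈ OortTate.eigenAug R A p χ i, r • x = 0) : r = 0 := by
  rw [← Submodule.mem_bot R]
  refine eq_zero_of_exists_not_mem r ⊥ fun q hq => ?_
  obtain ⟨a, ha, hgen⟩ := exists_local_generator p hu hχ hχp hrk ⟨q, hq.isPrime⟩
  obtain ⟨ψ, hψ, -⟩ := hgen (red p i) (red_mem p i).1 (red_mem p i).2
  refine ⟨ψ (a ^ red p i), hψ, ?_⟩
  have hm : a ^ red p i ∈ OortTate.eigenAug R A p χ i :=
    (eigenAug_congr p (red_modEq p i)).ge (pow_mem_eigen p ha _ (red_mem p i).1)
  rw [Submodule.mem_bot, smul_eq_mul, mul_comm, ← smul_eq_mul, ← map_smul, h _ hm, map_zero]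

include hu hχ hχp hrk hϕ in
theorem span_pairing :
    Submodule.span R {ϕ (OortTate.ygen R p u χ 1)} =
        LinearMap.range (TensorProduct.map (OortTate.eigenAug R A p χ 1).subtype
          (OortTate.eigenAug R (CartDual.D R A) p χ 1).subtype) ∧
      ∀ r : R, r • ϕ (OortTate.ygen R p u χ 1) = 0 → r = 0 := by
  have hp := pow_id_eq_one' p (A := A) hrk
  refine ⟨le_antisymm ?_ ?_, fun r hr => eigen_faithful p hu hχ hχp hrk 1 fun x hx => ?_⟩
  · rw [Submodule.span_le, Set.singleton_subset_iff]
    obtain ⟨n, e, ψ, h⟩ := exists_dual_basis (R := R) (A := A)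
    refine ⟨∑ j, ⟨P p u χ 1 (e j), P_mem p hu hp 1 _⟩ ⊗ₜ ⟨toConv (ψ j ∘ₗ P p u χ 1), comp_P_mem p hu hrk 1 _⟩, ?_⟩
    apply Psi_injective
    refine WithConv.ofConv_injective (LinearMap.ext fun z => ?_)
    rw [Psi_ygen p hϕ, ofConv_toConv]
    simp only [map_sum, TensorProduct.map_tmul, Submodule.subtype_apply, WithConv.ofConv_sum, LinearMap.sum_apply,
      Psi_tmul, ofConv_toConv, LinearMap.comp_apply, ← map_smul]
    rw [← map_sum, h, P_of_mem p hu (P_mem p hu hp 1 z)]
  · rintro _ ⟨z, rfl⟩
    induction z using TensorProduct.induction_on with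
    | zero => rw [map_zero]; exact zero_mem _
    | add a b ha hb => rw [map_add]; exact add_mem ha hb
    | tmul x F =>
      rw [TensorProduct.map_tmul, Submodule.subtype_apply, Submodule.subtype_apply,
        tmul_eq_smul p hu hχ hχp hrk hϕ x.2 F.2]
      exact Submodule.smul_mem _ _ (Submodule.mem_span_singleton_self _)
  · have h1 := congrArg (fun w => (Ψ w).ofConv x) hr
    simp only [map_smul, map_zero, WithConv.ofConv_smul, WithConv.ofConv_zero, LinearMap.smul_apply,
      LinearMap.zero_apply, Psi_ygen p hϕ, ofConv_toConv, P_of_mem p hu hx] at h1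
    exact h1

include hu hχ hχp hrk hϕ in
/-- The pairing of products. -/
theorem pairing_prod {t : ℕ} (ht : 1 ≤ t) {c : R}
    (hc : OortTate.ygen R p u χ 1 ^ t = c • OortTate.ygen R p u χ t)
    (x : Fin t → OortTate.eigenAug R A p χ 1) (F : Fin t → OortTate.eigenAug R (CartDual.D R A) p χ 1) :
    (∏ i, (F i : CartDual.D R A)).ofConv (∏ i, (x i : A)) = c * ∏ i, (F i : CartDual.D R A).ofConv (x i : A) := by
  have hp := pow_id_eq_one' p (A := A) hrk
  set X := ∏ i, (x i : A) with hXdef
  set G := ∏ i, (F i : CartDual.D R A) with hGdef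
  have hmemX : ∀ {B : Type u} [CommRing B] [HopfAlgebra R B] (y : Fin t → OortTate.eigenAug R B p χ 1),
      ∏ i, (y i : B) ∈ OortTate.eigenAug R B p χ t := by
    intro B _ _ y
    refine pow_le p t ht ?_
    rw [← List.prod_ofFn]
    exact Submodule.pow_subset_pow _ (Set.mem_pow.2 ⟨y, rfl⟩)
  have h1 : (∏ i, ((x i : A) ⊗ₜ[R] (F i : CartDual.D R A))) =
      (c * ∏ i, (F i : CartDual.D R A).ofConv (x i : A)) • ϕ (OortTate.ygen R p u χ t) := by
    rw [Finset.prod_congr rfl fun i _ => tmul_eq_smul p hu hχ hχp hrk hϕ (x i).2 (F i).2,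
      Finset.prod_smul, Finset.prod_const, Finset.card_univ, Fintype.card_fin, ← map_pow, hc, map_smul,
      smul_smul, mul_comm]
  have h2 : ∀ (s : Finset (Fin t)),
      (∏ i ∈ s, ((x i : A) ⊗ₜ[R] (F i : CartDual.D R A))) = (∏ i ∈ s, (x i : A)) ⊗ₜ (∏ i ∈ s, (F i : CartDual.D R A)) := by
    intro s
    induction s using Finset.induction with
    | empty => simp [Algebra.TensorProduct.one_def]
    | insert j s hj ih => rw [Finset.prod_insert hj, Finset.prod_insert hj, Finset.prod_insert hj, ih,
        Algebra.TensorProduct.tmul_mul_tmul]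
  rw [h2, ← hXdef, ← hGdef, tmul_eq_smul p hu hχ hχp hrk hϕ (hmemX x) (hmemX F)] at h1
  refine sub_eq_zero.1 (eigen_faithful p hu hχ hχp hrk t fun z hz => ?_)
  have h3 := congrArg (fun w => (Ψ w).ofConv z) h1
  simp only [map_smul, WithConv.ofConv_smul, LinearMap.smul_apply,
    Psi_ygen p hϕ, ofConv_toConv, P_of_mem p hu hz] at h3
  rw [sub_smul, h3, sub_self]

end finite

end Groth.Agent.Lib.OT67
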