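import Groth.Agent.Lib.HopfConnKrull
import Groth.Agent.Lib.OT67.Height1
import Mathlib

open TensorProduct WithConv

universe u v

namespace Groth.Agent.Lib.OT67

open Groth.Agent.Lib.HopfConnKrull

variable {k : Type u} [Field k] {A : Type v} [CommRing A]

section alg
variable [Algebra k A]

theorem point_eq_of_ker {g h : WithConv (A →ₐ[k] k)} (e : RingHom.ker g.ofConv = RingHom.ker h.ofConv) : g = h := by
  refine WithConv.ofConv_injective (AlgHom.ext fun a => ?_)
  have h0 : a - algebraMap k A (g.ofConv a) ∈ RingHom.ker g.ofConv := by simp [RingHom.mem_ker]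
  rw [e, RingHom.mem_ker, map_sub, AlgHom.commutes, sub_eq_zero] at h0
  exact h0.symm

theorem ker_isMaximal (g : WithConv (A →ₐ[k] k)) : (RingHom.ker g.ofConv).IsMaximal :=
  RingHom.ker_isMaximal_of_surjective _ fun c => ⟨algebraMap k A c, g.ofConv.commutes c⟩

variable [Module.Finite k A]

theorem finite_points : Finite (WithConv (A →ₐ[k] k)) := by
  haveI : IsArtinianRing A := IsArtinianRing.of_finite k A
  exact Finite.of_injective (fun g => (⟨_, ker_isMaximal g⟩ : MaximalSpectrum A))
    fun g h e => point_eq_of_ker (congrArg MaximalSpectrum.asIdeal e)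

end alg

variable [HopfAlgebra k A] [Module.Finite k A] [IsAlgClosed k]

theorem iInf_ker_pow_eq_bot : ∃ N : ℕ, 2 ≤ N ∧ (⨅ g : WithConv (A →ₐ[k] k), RingHom.ker g.ofConv ^ N) = ⊥ := by
  classical
  haveI : IsArtinianRing A := IsArtinianRing.of_finite k A
  haveI := finite_points (k := k) (A := A)
  cases nonempty_fintype (WithConv (A →ₐ[k] k))
  obtain ⟨N, hN⟩ := IsArtinianRing.isNilpotent_nilradical (R := A)
  refine ⟨N + 2, by omega, ?_⟩
  have hcop : Pairwise fun g h : WithConv (A →ₐ[k] k) =>
      IsCoprime (RingHom.ker g.ofConv) (RingHom.ker h.ofConv) := fun g h hgh => by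
    show IsCoprime _ _
    rw [Ideal.isCoprime_iff_sup_eq]
    exact (ker_isMaximal g).coprime_of_ne (ker_isMaximal h) fun e => hgh (point_eq_of_ker e)
  have hnil : (⨅ g : WithConv (A →ₐ[k] k), RingHom.ker g.ofConv) ≤ nilradical A := fun a ha =>
    isNilpotent_of_points (k := k) fun g => (Ideal.mem_iInf.1 ha g : _)
  have hprod := Ideal.prod_eq_iInf_of_pairwise_isCoprime (s := Finset.univ)
    (J := fun g : WithConv (A →ₐ[k] k) => RingHom.ker g.ofConv ^ (N + 2))
    (fun g _ h _ hgh => (hcop hgh).pow (m := N + 2) (n := N + 2))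
  simp only [Finset.mem_univ, iInf_pos] at hprod
  rw [← hprod, Finset.prod_pow, ← le_bot_iff]
  calc (∏ g : WithConv (A →ₐ[k] k), RingHom.ker g.ofConv) ^ (N + 2)
      ≤ (nilradical A) ^ (N + 2) := by
        refine Ideal.pow_right_mono (le_trans ?_ hnil) _
        refine le_trans Ideal.prod_le_inf ?_
        rw [Finset.inf_univ_eq_iInf]
    _ ≤ (nilradical A) ^ N := Ideal.pow_le_pow_right (by omega)
    _ = ⊥ := hN

theorem aug_sq_ne_of_not_isReduced (h : ¬IsReduced A) : aug k A ^ 2 ≠ aug k A := by
  intro hsq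
  apply h
  obtain ⟨N, hN2, hN⟩ := iInf_ker_pow_eq_bot (k := k) (A := A)
  have hpow : ∀ n, 1 ≤ n → aug k A ^ n = aug k A := by
    intro n hn
    induction n, hn using Nat.le_induction with
    | base => rw [pow_one]
    | succ n _ ih => rw [pow_succ, ih, ← sq, hsq]
  have hall : ∀ g : WithConv (A →ₐ[k] k), RingHom.ker g.ofConv ^ N = RingHom.ker g.ofConv := by
    intro g
    have hmap : Ideal.map (τ g⁻¹) (aug k A) = RingHom.ker g.ofConv := by
      ext a
      rw [Ideal.mem_map_iff_of_surjective _ (τ_surjective g⁻¹)]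
      constructor
      · rintro ⟨b, hb, rfl⟩
        rw [RingHom.mem_ker, ← AlgHom.comp_apply, point_comp_τ, inv_mul_cancel]
        exact hb
      · intro ha
        refine ⟨τ g a, ?_, τ_inv_left g a⟩
        show Bialgebra.counitAlgHom k A (τ g a) = 0
        have h1 := DFunLike.congr_fun (point_comp_τ (1 : WithConv (A →ₐ[k] k)) g) a
        rw [mul_one, AlgHom.comp_apply] at h1
        exact h1.trans ha
    rw [← hmap, ← Ideal.map_pow, hpow N (by omega)]
  refine ⟨fun a ha => ?_⟩
  have : a ∈ ⨅ g : WithConv (A →ₐ[k] k), RingHom.ker g.ofConv ^ N := Ideal.mem_iInf.2 fun g => by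
    rw [hall]
    exact (ha.map g.ofConv).eq_zero
  rwa [hN, Ideal.mem_bot] at this

/-- A non-reduced algebra of prime rank is local. -/
theorem aug_le_nilradical (h : ¬IsReduced A) (hp : (Module.finrank k A).Prime) : aug k A ≤ nilradical A := by
  classical
  haveI := finite_points (k := k) (A := A)
  cases nonempty_fintype (WithConv (A →ₐ[k] k))
  obtain ⟨N, hN2, hN⟩ := iInf_ker_pow_eq_bot (k := k) (A := A)
  let I : WithConv (A →ₐ[k] k) → Ideal A := fun g => RingHom.ker g.ofConv ^ N
  have hcop : Pairwise fun g g' => IsCoprime (I g) (I g') := fun g g' hgg => by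
    refine IsCoprime.pow ?_
    rw [Ideal.isCoprime_iff_sup_eq]
    exact (ker_isMaximal g).coprime_of_ne (ker_isMaximal g') fun e => hgg (point_eq_of_ker e)
  let F : A →ₗ[k] (∀ g, A ⧸ I g) := LinearMap.pi fun g => (Ideal.Quotient.mkₐ k (I g)).toLinearMap
  have hFi : Function.Injective F := (injective_iff_map_eq_zero _).2 fun a ha => by
    have : a ∈ ⨅ g, I g := Ideal.mem_iInf.2 fun g => Ideal.Quotient.eq_zero_iff_mem.1 (congrFun ha g)
    rwa [show (⨅ g, I g) = ⊥ from hN, Ideal.mem_bot] at this
  have hFs : Function.Surjective F := by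
    intro w
    choose y hy using fun g => Ideal.Quotient.mk_surjective (w g)
    obtain ⟨a, ha⟩ := Ideal.exists_forall_sub_mem_ideal hcop y
    exact ⟨a, funext fun g => by rw [← hy g]; exact Ideal.Quotient.eq.2 (ha g)⟩
  have heq : ∀ g, Module.finrank k (A ⧸ I g) = Module.finrank k (A ⧸ aug k A ^ N) := by
    intro g
    let e : A ≃ₐ[k] A :=
      { (τ g : A →ₐ[k] A) with invFun := τ g⁻¹, left_inv := τ_inv_left g, right_inv := τ_inv_right g }
    have hker : (RingHom.ker g.ofConv).map (e : A →+* A) = aug k A := by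
      ext a
      rw [Ideal.mem_map_iff_of_surjective (e : A →+* A) e.surjective]
      constructor
      · rintro ⟨b, hb, rfl⟩
        show Bialgebra.counitAlgHom k A (τ g b) = 0
        have h1 := DFunLike.congr_fun (point_comp_τ (1 : WithConv (A →ₐ[k] k)) g) b
        rw [mul_one, AlgHom.comp_apply] at h1
        exact h1.trans hb
      · intro ha
        refine ⟨τ g⁻¹ a, ?_, τ_inv_right g a⟩
        rw [RingHom.mem_ker, ← AlgHom.comp_apply, point_comp_τ, inv_mul_cancel]
        exact ha
    exact (Ideal.quotientEquivAlg (I g) (aug k A ^ N) e (by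
      rw [← hker, ← Ideal.map_pow])).toLinearEquiv.finrank_eq
  have hdim : Module.finrank k A = Fintype.card (WithConv (A →ₐ[k] k)) * Module.finrank k (A ⧸ aug k A ^ N) := by
    rw [(LinearEquiv.ofBijective F ⟨hFi, hFs⟩).finrank_eq, Module.finrank_pi_fintype]
    simp only [heq, Finset.sum_const, Finset.card_univ, smul_eq_mul]
  have hne : Module.finrank k (A ⧸ aug k A ^ N) ≠ 1 := by
    intro h1
    have hle : aug k A ≤ aug k A ^ N := by
      intro a ha
      rw [← Ideal.Quotient.eq_zero_iff_mem]
      by_contra hne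
      have h1' : (1 : A ⧸ aug k A ^ N) ≠ 0 := fun h10 => hne (by
        rw [← mul_one (Ideal.Quotient.mk _ a), h10, mul_zero])
      obtain ⟨c, hc⟩ := exists_smul_eq_of_finrank_eq_one h1 h1' (Ideal.Quotient.mk _ a)
      have hmem : c • (1 : A) - a ∈ aug k A ^ N := Ideal.Quotient.eq.1 (by rw [← hc]; rfl)
      have h0 : Bialgebra.counitAlgHom k A (c • (1 : A) - a) = 0 :=
        (Ideal.pow_le_self (by omega : N ≠ 0) hmem : _)
      rw [map_sub, map_smul, map_one, show Bialgebra.counitAlgHom k A a = 0 from ha, smul_eq_mul, mul_one,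
        sub_zero] at h0
      rw [h0, zero_smul] at hc
      exact hne hc.symm
    exact aug_sq_ne_of_not_isReduced h (le_antisymm (Ideal.pow_le_self (by norm_num))
      (hle.trans (Ideal.pow_le_pow_right hN2)))
  have hc1 : Fintype.card (WithConv (A →ₐ[k] k)) = 1 := by
    rcases hp.eq_one_or_self_of_dvd _ ⟨_, hdim⟩ with h1 | h1
    · exact h1
    · exfalso
      apply hne
      rw [h1] at hdim
      exact mul_left_cancel₀ hp.ne_zero (hdim.symm.trans (mul_one _).symm)
  haveI := Fintype.card_le_one_iff_subsingleton.1 hc1.le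
  intro a ha
  refine isNilpotent_of_points (k := k) fun g => ?_
  rw [Subsingleton.elim g 1]
  exact ha

section reduced
variable [IsReduced A]

/-- Functions on the points. -/
noncomputable def gelfand : A ≃ₐ[k] (WithConv (A →ₐ[k] k) → k) :=
  AlgEquiv.ofBijective (AlgHom.pi fun g : WithConv (A →ₐ[k] k) => g.ofConv) <| by
    haveI := finite_points (k := k) (A := A)
    refine ⟨(injective_iff_map_eq_zero _).2 fun a ha =>
      (isNilpotent_of_points (k := k) fun g => congrFun ha g).eq_zero, fun w => ?_⟩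
    have hcop : Pairwise fun g h : WithConv (A →ₐ[k] k) =>
        IsCoprime (RingHom.ker g.ofConv) (RingHom.ker h.ofConv) := fun g h hgh => by
      show IsCoprime _ _
      rw [Ideal.isCoprime_iff_sup_eq]
      exact (ker_isMaximal g).coprime_of_ne (ker_isMaximal h) fun e => hgh (point_eq_of_ker e)
    obtain ⟨a, ha⟩ := Ideal.exists_forall_sub_mem_ideal hcop fun g => algebraMap k A (w g)
    refine ⟨a, funext fun g => ?_⟩
    have := ha g
    rw [RingHom.mem_ker, map_sub, AlgHom.commutes] at this
    exact sub_eq_zero.1 this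

theorem gelfand_apply (a : A) (g : WithConv (A →ₐ[k] k)) : gelfand a g = g.ofConv a := rfl

theorem card_points : Nat.card (WithConv (A →ₐ[k] k)) = Module.finrank k A := by
  haveI := finite_points (k := k) (A := A)
  cases nonempty_fintype (WithConv (A →ₐ[k] k))
  rw [gelfand.toLinearEquiv.finrank_eq, Module.finrank_pi, Nat.card_eq_fintype_card]

end reduced

end Groth.Agent.Lib.OT67
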