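import Groth.Agent.Lib.OT67.Mup
import Mathlib

/-!
Presentation of a Hopf algebra of prime rank by the first eigen-submodule.
-/

open TensorProduct WithConv

universe u

namespace Groth.Agent.Lib.OT67

variable {R : Type u} [CommRing R] (p : ℕ) [Fact p.Prime] {u : R} {χ : (ZMod p)ˣ →* Rˣ}
variable {A : Type u} [CommRing A] [HopfAlgebra R A] [Module.Finite R A] [Module.Projective R A]
variable (hu : u * ((p - 1 : ℕ) : R) = 1) (hχ : ∀ m : (ZMod p)ˣ, m ≠ 1 → IsUnit ((χ m : R) - 1))
  (hχp : ∀ m : (ZMod p)ˣ, ((χ m : Rˣ) : R) - (((m : ZMod p).val : ℕ) : R) ∈ Ideal.span ({(p : R)} : Set R))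
  (hrk : ∀ q : PrimeSpectrum R, Module.rankAtStalk A q = p)

theorem not_modEq_of_ne {s t : ℕ} (hs : 1 ≤ s) (hs' : s ≤ p - 1) (ht : 1 ≤ t) (ht' : t ≤ p - 1) (hst : s ≠ t) :
    ¬s ≡ t [MOD p - 1] := by
  intro h
  rcases lt_or_gt_of_ne hst with h1 | h1
  · have := Nat.le_of_dvd (by omega) ((Nat.modEq_iff_dvd' h1.le).1 h); omega
  · have := Nat.le_of_dvd (by omega) ((Nat.modEq_iff_dvd' h1.le).1 h.symm); omega

include hu hχ hχp hrk in
theorem lift_surjective : Function.Surjective (TensorAlgebra.lift R (OortTate.eigenAug R A p χ 1).subtype) := by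
  rw [← AlgHom.range_eq_top, TensorAlgebra.range_lift]
  rw [show Set.range (OortTate.eigenAug R A p χ 1).subtype = (OortTate.eigenAug R A p χ 1 : Set A) by simp]
  exact adjoin_eq_top p hu hχ hχp hrk

/-- The relations. -/
def rels (χ : (ZMod p)ˣ →* Rˣ) (A : Type u) [CommRing A] [HopfAlgebra R A] :
    Set (TensorAlgebra R (OortTate.eigenAug R A p χ 1)) :=
  {x | ∃ (f : Fin p → OortTate.eigenAug R A p χ 1) (g : OortTate.eigenAug R A p χ 1),
    (g : A) = ∏ i, (f i : A) ∧ x = (List.ofFn fun i => TensorAlgebra.ι R (f i)).prod - TensorAlgebra.ι R g}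

omit [Module.Finite R A] [Module.Projective R A] in
theorem lift_list_prod {n : ℕ} (f : Fin n → OortTate.eigenAug R A p χ 1) :
    TensorAlgebra.lift R (OortTate.eigenAug R A p χ 1).subtype (List.ofFn fun i => TensorAlgebra.ι R (f i)).prod =
      ∏ i, (f i : A) := by
  rw [map_list_prod, List.map_ofFn, List.prod_ofFn]
  exact Finset.prod_congr rfl fun i _ => TensorAlgebra.lift_ι_apply _ _

omit [Module.Finite R A] [Module.Projective R A] in
theorem prod_mem_eigen (f : Fin p → OortTate.eigenAug R A p χ 1) :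
    ∏ i, (f i : A) ∈ OortTate.eigenAug R A p χ 1 := by
  have h2 := (Fact.out : p.Prime).two_le
  have key : ∀ (n : ℕ) (g : Fin (n + 1) → OortTate.eigenAug R A p χ 1),
      ∏ i, (g i : A) ∈ OortTate.eigenAug R A p χ (n + 1) := by
    intro n
    induction n with
    | zero => intro g; rw [Fin.prod_univ_one]; exact (g 0).2
    | succ n ih =>
      intro g
      rw [Fin.prod_univ_castSucc]
      exact mul_mem p (ih fun i => g i.castSucc) (g _).2
  obtain ⟨n, hn⟩ : ∃ n, p = n + 1 := ⟨p - 1, by omega⟩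
  rw [← (finCongr hn).symm.prod_comp]
  exact (eigenAug_congr p (show 1 ≡ n + 1 [MOD p - 1] from
    (Nat.modEq_iff_dvd' (by omega)).2 (by rw [show n + 1 - 1 = p - 1 by omega]))).ge (key n _)

/-- Modulo the relations, everything has degree less than `p`. -/
theorem mem_sup_rels (z : TensorAlgebra R (OortTate.eigenAug R A p χ 1)) :
    z ∈ (⨆ t : Fin p, LinearMap.range (TensorAlgebra.ι R (M := OortTate.eigenAug R A p χ 1)) ^ (t : ℕ)) ⊔
      (Ideal.span (rels p χ A)).restrictScalars R := by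
  have h2 := (Fact.out : p.Prime).two_le
  set N := LinearMap.range (TensorAlgebra.ι R (M := OortTate.eigenAug R A p χ 1))
  set S := (⨆ t : Fin p, N ^ (t : ℕ)) ⊔ (Ideal.span (rels p χ A)).restrictScalars R
  have hN : ∀ t, t < p → N ^ t ≤ S := fun t ht => le_sup_of_le_left (le_iSup_of_le ⟨t, ht⟩ le_rfl)
  have hNp : N ^ p ≤ S := by
    have : N = Submodule.span R (Set.range (TensorAlgebra.ι R (M := OortTate.eigenAug R A p χ 1))) := by
      rw [← LinearMap.coe_range, Submodule.span_eq]
    rw [this, Submodule.span_pow, Submodule.span_le]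
    intro w hw
    obtain ⟨f, rfl⟩ := Set.mem_pow.1 hw
    choose g hg using fun i => (f i).2
    let h : OortTate.eigenAug R A p χ 1 := ⟨∏ i, (g i : A), prod_mem_eigen p g⟩
    have hrel : (List.ofFn fun i => TensorAlgebra.ι R (g i)).prod - TensorAlgebra.ι R h ∈
        Ideal.span (rels p χ A) := Ideal.subset_span ⟨g, h, rfl, rfl⟩
    have hι : TensorAlgebra.ι R h ∈ S := hN 1 (by omega) (by rw [pow_one]; exact LinearMap.mem_range_self _ h)
    have := S.add_mem (Submodule.mem_sup_right hrel : _ ∈ S) hι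
    rw [sub_add_cancel] at this
    simpa only [hg, SetLike.mem_coe] using this
  have hmul : ∀ x, ∀ s ∈ S, TensorAlgebra.ι R x * s ∈ S := by
    intro x s hs
    obtain ⟨a, ha, b, hb, rfl⟩ := Submodule.mem_sup.1 hs
    rw [mul_add]
    refine S.add_mem ?_ (Submodule.mem_sup_right (Ideal.mul_mem_left _ _ hb))
    refine Submodule.iSup_induction (motive := fun a => TensorAlgebra.ι R x * a ∈ S) _ ha (fun t w hw => ?_)
      (by rw [mul_zero]; exact zero_mem _) (fun u v hu hv => by rw [mul_add]; exact add_mem hu hv)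
    have h1 : TensorAlgebra.ι R x * w ∈ N ^ ((t : ℕ) + 1) := by
      rw [pow_succ']; exact Submodule.mul_mem_mul (LinearMap.mem_range_self _ x) hw
    rcases eq_or_lt_of_le (show (t : ℕ) + 1 ≤ p from t.2) with h | h
    · rw [h] at h1
      exact hNp h1
    · exact hN _ h h1
  let T' : Subalgebra R (TensorAlgebra R (OortTate.eigenAug R A p χ 1)) :=
    { carrier := {z | ∀ s ∈ S, z * s ∈ S}
      mul_mem' := fun {a b} ha hb s hs => by rw [mul_assoc]; exact ha _ (hb _ hs)
      add_mem' := fun {a b} ha hb s hs => by rw [add_mul]; exact S.add_mem (ha _ hs) (hb _ hs)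
      algebraMap_mem' := fun r s hs => by rw [← Algebra.smul_def]; exact S.smul_mem r hs }
  have htop : T' = ⊤ := by
    rw [eq_top_iff, ← TensorAlgebra.adjoin_range_ι, Algebra.adjoin_le_iff]
    rintro _ ⟨x, rfl⟩
    exact hmul x
  have h1 : (1 : TensorAlgebra R (OortTate.eigenAug R A p χ 1)) ∈ S :=
    hN 0 (by omega) (by rw [Submodule.pow_zero]; exact Submodule.mem_one.2 ⟨1, map_one _⟩)
  simpa using (htop ▸ Algebra.mem_top : z ∈ T') 1 h1

include hu hχ hχp hrk in
/-- In degree less than `p` there are no relations. -/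
theorem eq_zero_of_lift_eq_zero {t : ℕ} (ht1 : 1 ≤ t) (ht2 : t ≤ p - 1)
    {z : TensorAlgebra R (OortTate.eigenAug R A p χ 1)}
    (hz : z ∈ LinearMap.range (TensorAlgebra.ι R (M := OortTate.eigenAug R A p χ 1)) ^ t)
    (h0 : TensorAlgebra.lift R (OortTate.eigenAug R A p χ 1).subtype z = 0) : z = 0 := by
  have h2 := (Fact.out : p.Prime).two_le
  rw [← Submodule.mem_bot R]
  refine eq_zero_of_exists_not_mem z ⊥ fun q hq => ?_
  obtain ⟨a, ha, hgen⟩ := exists_local_generator p hu hχ hχp hrk ⟨q, hq.isPrime⟩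
  obtain ⟨ψ, hψ, hswap⟩ := hgen 1 le_rfl (by omega)
  obtain ⟨φ, hφ, hswapt⟩ := hgen t ht1 ht2
  simp only [pow_one] at hψ hswap
  have key : ∀ (n : ℕ), ∀ w ∈ LinearMap.range (TensorAlgebra.ι R (M := OortTate.eigenAug R A p χ 1)) ^ n,
      ∃ c : R, ψ a ^ n • w = c • TensorAlgebra.ι R (⟨a, ha⟩ : OortTate.eigenAug R A p χ 1) ^ n := by
    intro n
    induction n with
    | zero =>
      intro w hw
      rw [Submodule.pow_zero] at hw
      obtain ⟨c, rfl⟩ := Submodule.mem_one.1 hw
      exact ⟨c, by rw [pow_zero, one_smul, pow_zero, Algebra.algebraMap_eq_smul_one]⟩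
    | succ n ih =>
      intro w hw
      rw [pow_succ] at hw
      induction hw using Submodule.mul_induction_on' with
      | mem_mul_mem v hv y hy =>
        obtain ⟨c, hc⟩ := ih v hv
        obtain ⟨x, rfl⟩ := hy
        refine ⟨c * ψ x, ?_⟩
        have hx : ψ a • x = ψ x • (⟨a, ha⟩ : OortTate.eigenAug R A p χ 1) := Subtype.ext (hswap x.1 x.2)
        rw [pow_succ, ← smul_mul_smul_comm, hc, ← map_smul, hx, map_smul, smul_mul_smul_comm, ← pow_succ]
      | add v _ y _ hv hy =>
        obtain ⟨c, hc⟩ := hv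
        obtain ⟨c', hc'⟩ := hy
        exact ⟨c + c', by rw [smul_add, hc, hc', add_smul]⟩
  obtain ⟨c, hc⟩ := key t z hz
  have h1 := congrArg (TensorAlgebra.lift R (OortTate.eigenAug R A p χ 1).subtype) hc
  rw [map_smul, h0, smul_zero, map_smul, map_pow, TensorAlgebra.lift_ι_apply] at h1
  change (0 : A) = c • a ^ t at h1
  have hc0 : c * φ (a ^ t) = 0 := by
    rw [← smul_eq_mul, ← map_smul, ← h1, map_zero]
  refine ⟨φ (a ^ t) * ψ a ^ t, fun hmem => ?_, ?_⟩
  · rcases hq.isPrime.mem_or_mem hmem with h | h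
    · exact hφ h
    · exact hψ (hq.isPrime.mem_of_pow_mem _ h)
  · rw [Submodule.mem_bot, mul_smul, hc, smul_smul, mul_comm, hc0, zero_smul]

include hu hχ hχp hrk in
theorem ker_lift_eq :
    RingHom.ker (TensorAlgebra.lift R (OortTate.eigenAug R A p χ 1).subtype) = Ideal.span (rels p χ A) := by
  have hp := pow_id_eq_one' p (A := A) hrk
  set π := TensorAlgebra.lift R (OortTate.eigenAug R A p χ 1).subtype with hπ
  apply le_antisymm
  · intro z hz
    have hle : Ideal.span (rels p χ A) ≤ RingHom.ker π := by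
      rw [Ideal.span_le]
      rintro _ ⟨f, g, hg, rfl⟩
      rw [SetLike.mem_coe, RingHom.mem_ker, map_sub, hπ, lift_list_prod, TensorAlgebra.lift_ι_apply,
        Submodule.subtype_apply, hg, sub_self]
    obtain ⟨a, ha, b, hb, rfl⟩ := Submodule.mem_sup.1 (mem_sup_rels p z)
    rw [RingHom.mem_ker, map_add, RingHom.mem_ker.1 (hle hb), add_zero] at hz
    refine add_mem ?_ hb
    obtain ⟨w, hw, rfl⟩ := (Submodule.mem_iSup_iff_exists_finsupp _ _).1 ha
    rw [Finsupp.sum_fintype _ _ fun _ => rfl, map_sum] at hz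
    rw [Finsupp.sum_fintype _ _ fun _ => rfl]
    have hπmem : ∀ t : Fin p, 1 ≤ (t : ℕ) → π (w t) ∈ OortTate.eigenAug R A p χ (t : ℕ) := by
      intro t ht
      refine pow_le p _ ht ?_
      have h1 : π (w t) ∈ Submodule.map π.toLinearMap
          (LinearMap.range (TensorAlgebra.ι R (M := OortTate.eigenAug R A p χ 1)) ^ (t : ℕ)) := ⟨_, hw t, rfl⟩
      rw [Submodule.map_pow, ← LinearMap.range_comp] at h1
      refine SetLike.le_def.1 (pow_le_pow_left' (le_of_eq_of_le rfl ?_) _) h1
      rintro _ ⟨x, rfl⟩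
      rw [LinearMap.comp_apply, AlgHom.toLinearMap_apply, hπ, TensorAlgebra.lift_ι_apply]
      exact x.2
    have h00 : ∀ t : Fin p, (t : ℕ) = 0 → w t = 0 := by
      intro t ht
      have hwt := hw t
      rw [ht, Submodule.pow_zero] at hwt
      obtain ⟨c, hc⟩ := Submodule.mem_one.1 hwt
      have he := congrArg (Bialgebra.counitAlgHom R A) hz
      rw [map_sum, map_zero, Finset.sum_eq_single t] at he
      · rw [← hc, AlgHom.commutes, AlgHom.commutes, Algebra.algebraMap_self, RingHom.id_apply] at he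
        rw [← hc, he, map_zero]
      · intro s _ hst
        exact ((mem_eigenAug p).1 (hπmem s (Nat.one_le_iff_ne_zero.2 fun h => hst (Fin.ext (h.trans ht.symm))))).1
      · exact fun h => absurd (Finset.mem_univ _) h
    refine Submodule.sum_mem _ fun t _ => ?_
    rcases Nat.eq_zero_or_pos (t : ℕ) with ht | ht
    · rw [h00 t ht]; exact zero_mem _
    · have htp : (t : ℕ) ≤ p - 1 := by have := t.2; omega
      have he := congrArg (P p u χ (t : ℕ)) hz
      rw [map_sum, map_zero, Finset.sum_eq_single t, P_of_mem p hu (hπmem t ht)] at he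
      · rw [eq_zero_of_lift_eq_zero p hu hχ hχp hrk ht htp (hw t) he]; exact zero_mem _
      · intro s _ hst
        rcases Nat.eq_zero_or_pos (s : ℕ) with hs | hs
        · rw [h00 s hs, map_zero, map_zero]
        · exact P_of_mem_ne p hu hp hχ (not_modEq_of_ne p ht htp hs (by have := s.2; omega)
            fun h => hst (Fin.ext h.symm)) (hπmem s hs)
      · exact fun h => absurd (Finset.mem_univ _) h
  · rw [Ideal.span_le]
    rintro _ ⟨f, g, hg, rfl⟩
    rw [SetLike.mem_coe, RingHom.mem_ker, map_sub, hπ, lift_list_prod, TensorAlgebra.lift_ι_apply,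
      Submodule.subtype_apply, hg, sub_self]

end Groth.Agent.Lib.OT67
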