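import Groth.Agent.Lib.OT67.OrderP
import Mathlib

/-!
The eigen-submodules of the augmentation ideal of a group scheme of prime order are invertible.
-/

open TensorProduct WithConv

universe u v

namespace Groth.Agent.Lib.OT67

/-- The key identity in an invertible module. -/
theorem rank_one_swap {R : Type u} [CommRing R] {L : Type v} [AddCommGroup L] [Module R L] [Module.Finite R L]
    [Module.Projective R L] (hL : ∀ q : PrimeSpectrum R, Module.rankAtStalk L q = 1) (ψ : L →ₗ[R] R) (x y : L) :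
    ψ x • y = ψ y • x := by
  refine eq_of_localized (R := R) fun q _ => ?_
  let S := Localization.AtPrime q
  haveI : Module.Free S (S ⊗[R] L) := Module.free_of_flat_of_isLocalRing
  let b := (Module.finBasis S (S ⊗[R] L)).reindex (finCongr (finrank_baseChange S L 1 hL))
  let Ψ : S ⊗[R] L →ₗ[S] S := (TensorProduct.AlgebraTensorModule.rid R S S).toLinearMap ∘ₗ ψ.baseChange S
  have hΨ : ∀ z, Ψ ((1 : S) ⊗ₜ[R] z) = algebraMap R S (ψ z) := fun z => by simp [Ψ, Algebra.smul_def]
  have hb : ∀ w : S ⊗[R] L, w = b.repr w 0 • b 0 := fun w => by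
    conv_lhs => rw [← b.sum_repr w, Fin.sum_univ_one]
  rw [tmul_smul, tmul_smul, ← algebraMap_smul S (ψ x), ← algebraMap_smul S (ψ y), ← hΨ, ← hΨ]
  generalize (1 : S) ⊗ₜ[R] x = w
  generalize (1 : S) ⊗ₜ[R] y = w'
  rw [hb w, hb w', map_smul, map_smul, smul_eq_mul, smul_eq_mul, smul_smul, smul_smul]
  congr 1
  ring

theorem eq_zero_of_exists_not_mem {R : Type u} [CommRing R] {M : Type v} [AddCommGroup M] [Module R M] (x : M)
    (N : Submodule R M) (h : ∀ (q : Ideal R) [q.IsMaximal], ∃ r ∉ q, r • x ∈ N) : x ∈ N := by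
  let J : Ideal R := N.comap (LinearMap.toSpanSingleton R M x)
  have hJ : J = ⊤ := by
    by_contra hne
    obtain ⟨q, hq, hle⟩ := Ideal.exists_le_maximal J hne
    obtain ⟨r, hr, hrx⟩ := h q
    exact hr (hle hrx)
  have h1 : (1 : R) ∈ J := hJ ▸ Submodule.mem_top
  simpa [J] using h1

variable {R : Type u} [CommRing R] (p : ℕ) [Fact p.Prime] {u : R} {χ : (ZMod p)ˣ →* Rˣ}
  {A : Type u} [CommRing A] [HopfAlgebra R A]

theorem chi_pow_card (m : (ZMod p)ˣ) : ((χ m : Rˣ) : R) ^ (p - 1) = 1 := by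
  rw [← Units.val_pow_eq_pow_val, ← map_pow, ZMod.units_pow_card_sub_one_eq_one, map_one, Units.val_one]

theorem chi_pow_mod (m : (ZMod p)ˣ) (i : ℕ) : ((χ m : Rˣ) : R) ^ i = ((χ m : Rˣ) : R) ^ (i % (p - 1)) :=
  pow_eq_pow_mod i (chi_pow_card p m)

theorem eigenAug_congr {i j : ℕ} (h : i ≡ j [MOD p - 1]) :
    OortTate.eigenAug R A p χ i = OortTate.eigenAug R A p χ j := by
  ext a
  simp only [mem_eigenAug, chi_pow_mod p _ i, chi_pow_mod p _ j, show i % (p - 1) = j % (p - 1) from h]

theorem proj_congr {i j : ℕ} (h : i ≡ j [MOD p - 1]) :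
    OortTate.proj R A p u χ i = OortTate.proj R A p u χ j := by
  simp only [OortTate.proj, chi_pow_mod p _ i, chi_pow_mod p _ j, show i % (p - 1) = j % (p - 1) from h]

/-- The projection onto an eigen-submodule of the augmentation ideal. -/
noncomputable def P (u : R) (χ : (ZMod p)ˣ →* Rˣ) (i : ℕ) : A →ₗ[R] A :=
  OortTate.proj R A p u χ i ∘ₗ
    (LinearMap.id - LinearMap.toSpanSingleton R A 1 ∘ₗ (Bialgebra.counitAlgHom R A).toLinearMap)

theorem P_apply (i : ℕ) (a : A) :
    P p u χ i a = OortTate.proj R A p u χ i (a - Bialgebra.counitAlgHom R A a • (1 : A)) := rfl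

theorem P_congr {i j : ℕ} (h : i ≡ j [MOD p - 1]) : (P p u χ i : A →ₗ[R] A) = P p u χ j := by
  rw [P, P, proj_congr p h]

/-- The residue of an index in `[1, p-1]`. -/
def red (i : ℕ) : ℕ := if i % (p - 1) = 0 then p - 1 else i % (p - 1)

theorem red_mem (i : ℕ) : 1 ≤ red p i ∧ red p i ≤ p - 1 := by
  have h2 := (Fact.out : p.Prime).two_le
  have h3 := Nat.mod_lt i (show p - 1 > 0 by omega)
  unfold red
  split_ifs <;> omega

theorem red_modEq (i : ℕ) : i ≡ red p i [MOD p - 1] := by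
  unfold red
  split_ifs with h
  · rw [Nat.ModEq, h, Nat.mod_self]
  · exact (Nat.mod_modEq i (p - 1)).symm

section proj
variable (hu : u * ((p - 1 : ℕ) : R) = 1) (hp : (toConv (AlgHom.id R A)) ^ p = 1)

theorem P_of_mem (hu : u * ((p - 1 : ℕ) : R) = 1) {i : ℕ} {a : A} (ha : a ∈ OortTate.eigenAug R A p χ i) :
    P p u χ i a = a := by
  rw [P_apply, ((mem_eigenAug p).1 ha).1, zero_smul, sub_zero, proj_of_mem p hu ha]

include hu hp in
theorem range_P (i : ℕ) : LinearMap.range (P p u χ i) = OortTate.eigenAug R A p χ i := by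
  apply le_antisymm
  · rintro _ ⟨a, rfl⟩
    rw [map_proj p hu hp]
    exact ⟨_, by simp, (P_apply p i a).symm⟩
  · exact fun a ha => ⟨a, P_of_mem p hu ha⟩

include hu hp in
theorem P_mem (i : ℕ) (a : A) : P p u χ i a ∈ OortTate.eigenAug R A p χ i :=
  range_P p hu hp i ▸ LinearMap.mem_range_self _ a

include hu hp in
theorem P_of_mem_ne (hχ : ∀ m : (ZMod p)ˣ, m ≠ 1 → IsUnit ((χ m : R) - 1)) {i j : ℕ}
    (hij : ¬i ≡ j [MOD p - 1]) {a : A} (ha : a ∈ OortTate.eigenAug R A p χ j) : P p u χ i a = 0 := by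
  have h2 := (Fact.out : p.Prime).two_le
  have hlt : ∀ n, n % (p - 1) < p - 1 := fun n => Nat.mod_lt n (by omega)
  rw [P_apply, ((mem_eigenAug p).1 ha).1, zero_smul, sub_zero, proj_congr p (Nat.mod_modEq i (p - 1)).symm,
    ← proj_of_mem p hu ha, proj_congr p (Nat.mod_modEq j (p - 1)).symm]
  exact DFunLike.congr_fun ((proj_idem p hu hχ hp).ortho (i := ⟨i % (p - 1), hlt i⟩) (j := ⟨j % (p - 1), hlt j⟩)
    fun e => hij (congrArg Fin.val e)) a

include hu hp in
theorem eigen_finite [Module.Finite R A] (i : ℕ) : Module.Finite R (OortTate.eigenAug R A p χ i) := by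
  rw [← range_P p hu hp]
  infer_instance

include hu hp in
theorem eigen_projective [Module.Projective R A] (i : ℕ) : Module.Projective R (OortTate.eigenAug R A p χ i) :=
  Module.Projective.of_split (OortTate.eigenAug R A p χ i).subtype
    ((P p u χ i).codRestrict _ (P_mem p hu hp i)) (LinearMap.ext fun a => Subtype.ext (P_of_mem p hu a.2))

end proj

theorem mul_mem {i j : ℕ} {a b : A} (ha : a ∈ OortTate.eigenAug R A p χ i) (hb : b ∈ OortTate.eigenAug R A p χ j) :
    a * b ∈ OortTate.eigenAug R A p χ (i + j) := by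
  rw [mem_eigenAug] at *
  refine ⟨by rw [map_mul, ha.1, zero_mul], fun m => ?_⟩
  rw [map_mul, ha.2, hb.2, smul_mul_smul_comm, pow_add]

theorem pow_le (t : ℕ) (ht : 1 ≤ t) : OortTate.eigenAug R A p χ 1 ^ t ≤ OortTate.eigenAug R A p χ t := by
  induction t, ht using Nat.le_induction with
  | base => rw [pow_one]
  | succ t _ ih =>
    rw [pow_succ]
    exact Submodule.mul_le.2 fun a ha b hb => mul_mem p (ih ha) hb

theorem pow_mem_eigen {a : A} (ha : a ∈ OortTate.eigenAug R A p χ 1) (t : ℕ) (ht : 1 ≤ t) :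
    a ^ t ∈ OortTate.eigenAug R A p χ t :=
  pow_le p t ht (Submodule.pow_mem_pow _ ha t)

section fibre
variable (hu : u * ((p - 1 : ℕ) : R) = 1) (hχ : ∀ m : (ZMod p)ˣ, m ≠ 1 → IsUnit ((χ m : R) - 1))
  (hχp : ∀ m : (ZMod p)ˣ, ((χ m : Rˣ) : R) - (((m : ZMod p).val : ℕ) : R) ∈ Ideal.span ({(p : R)} : Set R))

include hu hχ hχp in
theorem exists_field_generator {k : Type u} [Field k] [IsAlgClosed k] [Algebra R k] [Module.Finite R A]
    [Module.Projective R A] (hrk : ∀ q : PrimeSpectrum R, Module.rankAtStalk A q = p)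
    (hp : (toConv (AlgHom.id R A)) ^ p = 1) :
    ∃ y ∈ OortTate.eigenAug k (k ⊗[R] A) p ((Units.map (algebraMap R k).toMonoidHom).comp χ) 1,
      ∀ t, 1 ≤ t → t ≤ p - 1 → y ^ t ≠ 0 ∧
        OortTate.eigenAug k (k ⊗[R] A) p ((Units.map (algebraMap R k).toMonoidHom).comp χ) t =
          Submodule.span k {y ^ t} := by
  classical
  set χk := (Units.map (algebraMap R k).toMonoidHom).comp χ
  have hval : ∀ m, ((χk m : kˣ) : k) = algebraMap R k ((χ m : Rˣ) : R) := fun m => rfl
  have huk : algebraMap R k u * ((p - 1 : ℕ) : k) = 1 := by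
    rw [← map_natCast (algebraMap R k), ← map_mul, hu, map_one]
  have hχk : ∀ m : (ZMod p)ˣ, m ≠ 1 → IsUnit ((χk m : k) - 1) := fun m hm => by
    rw [hval, ← map_one (algebraMap R k), ← map_sub]
    exact (hχ m hm).map _
  have hχpk : ∀ m : (ZMod p)ˣ,
      ((χk m : kˣ) : k) - (((m : ZMod p).val : ℕ) : k) ∈ Ideal.span ({(p : k)} : Set k) := fun m => by
    obtain ⟨c, hc⟩ := Ideal.mem_span_singleton'.1 (hχp m)
    refine Ideal.mem_span_singleton'.2 ⟨algebraMap R k c, ?_⟩
    rw [← map_natCast (algebraMap R k), ← map_mul, hc, map_sub, map_natCast, hval]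
  have hpk := pow_id_eq_one k p hp
  obtain ⟨y, hy, hspan⟩ := exists_eigen_generator (finrank_baseChange k A p hrk) huk hχk hχpk hpk
  have hmem : ∀ t, 1 ≤ t → y ^ t ∈ OortTate.eigenAug k (k ⊗[R] A) p χk t := fun t ht => pow_mem_eigen p hy t ht
  have hle : ∀ t, 1 ≤ t → t ≤ p - 1 →
      OortTate.eigenAug k (k ⊗[R] A) p χk t ≤ Submodule.span k {y ^ t} := by
    intro t ht1 ht2 z hz
    have hz' : z ∈ Submodule.span k (Set.range fun s : Fin (p - 1) => y ^ ((s : ℕ) + 1)) := by
      rw [hspan]; exact ((mem_eigenAug p).1 hz).1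
    rw [← P_of_mem p huk hz]
    suffices hm : Submodule.map (P (A := k ⊗[R] A) p (algebraMap R k u) χk t)
        (Submodule.span k (Set.range fun s : Fin (p - 1) => y ^ ((s : ℕ) + 1))) ≤ Submodule.span k {y ^ t} from
      hm ⟨z, hz', rfl⟩
    rw [Submodule.map_span, Submodule.span_le]
    rintro _ ⟨_, ⟨s, rfl⟩, rfl⟩
    show P p (algebraMap R k u) χk t (y ^ ((s : ℕ) + 1)) ∈ Submodule.span k {y ^ t}
    by_cases hst : (s : ℕ) + 1 = t
    · rw [hst, P_of_mem p huk (hmem t ht1)]
      exact Submodule.mem_span_singleton_self _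
    · rw [P_of_mem_ne p huk hpk hχk (fun h => hst ?_) (hmem _ (by omega))]
      · exact zero_mem _
      · have := h.symm
        have hs := s.2
        rw [Nat.ModEq] at this
        rcases eq_or_lt_of_le ht2 with h1 | h1
        · subst h1
          rw [Nat.mod_self] at this
          rcases eq_or_lt_of_le (show (s : ℕ) + 1 ≤ p - 1 by omega) with h4 | h4
          · exact h4
          · rw [Nat.mod_eq_of_lt h4] at this; omega
        · rw [Nat.mod_eq_of_lt h1] at this
          rcases eq_or_lt_of_le (show (s : ℕ) + 1 ≤ p - 1 by omega) with h4 | h4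
          · rw [h4, Nat.mod_self] at this; omega
          · rw [Nat.mod_eq_of_lt h4] at this; omega
  refine ⟨y, hy, fun t ht1 ht2 => ⟨fun h0 => ?_, le_antisymm (hle t ht1 ht2) ?_⟩⟩
  · have hker : Module.finrank k (LinearMap.ker (Bialgebra.counitAlgHom k (k ⊗[R] A)).toLinearMap) = p - 1 := by
      have h1 := LinearMap.finrank_range_add_finrank_ker (Bialgebra.counitAlgHom k (k ⊗[R] A)).toLinearMap
      rw [show LinearMap.range (Bialgebra.counitAlgHom k (k ⊗[R] A)).toLinearMap = ⊤ from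
        LinearMap.range_eq_top.2 fun c => ⟨algebraMap k _ c, (Bialgebra.counitAlgHom k (k ⊗[R] A)).commutes c⟩,
        finrank_top, Module.finrank_self, finrank_baseChange k A p hrk] at h1
      omega
    have hli : LinearIndependent k (fun s : Fin (p - 1) => y ^ ((s : ℕ) + 1)) := by
      rw [linearIndependent_iff_card_eq_finrank_span, Fintype.card_fin, Set.finrank, hspan, hker]
    exact hli.ne_zero ⟨t - 1, by omega⟩ (by show y ^ (t - 1 + 1) = 0; rwa [Nat.sub_add_cancel ht1])
  · rw [Submodule.span_le, Set.singleton_subset_iff]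
    exact hmem t ht1

theorem proj_one_tmul {S : Type u} [CommRing S] [Algebra R S] (i : ℕ) (a : A) :
    OortTate.proj S (S ⊗[R] A) p (algebraMap R S u) ((Units.map (algebraMap R S).toMonoidHom).comp χ) i
        ((1 : S) ⊗ₜ[R] a) = (1 : S) ⊗ₜ[R] OortTate.proj R A p u χ i a := by
  simp only [OortTate.proj, LinearMap.smul_apply, LinearMap.sum_apply, AlgHom.toLinearMap_apply, tmul_smul,
    tmul_sum, SGA3b.powConv, pow_id_one_tmul]
  rw [algebraMap_smul]
  congr 1
  refine Finset.sum_congr rfl fun m _ => ?_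
  show _ = ((χ m⁻¹ : Rˣ) : R) ^ i • _
  rw [← algebraMap_smul S (((χ m⁻¹ : Rˣ) : R) ^ i), map_pow]
  rfl

theorem P_one_tmul {S : Type u} [CommRing S] [Algebra R S] (i : ℕ) (a : A) :
    P p (algebraMap R S u) ((Units.map (algebraMap R S).toMonoidHom).comp χ) i ((1 : S) ⊗ₜ[R] a) =
      (1 : S) ⊗ₜ[R] P p u χ i a := by
  rw [P_apply, P_apply, ← proj_one_tmul, tmul_sub, tmul_smul, counit_one_tmul, algebraMap_smul,
    Algebra.TensorProduct.one_def]

end fibre

section main
variable [Module.Finite R A] [Module.Projective R A]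
variable (hu : u * ((p - 1 : ℕ) : R) = 1) (hχ : ∀ m : (ZMod p)ˣ, m ≠ 1 → IsUnit ((χ m : R) - 1))
  (hχp : ∀ m : (ZMod p)ˣ, ((χ m : Rˣ) : R) - (((m : ZMod p).val : ℕ) : R) ∈ Ideal.span ({(p : R)} : Set R))
  (hrk : ∀ q : PrimeSpectrum R, Module.rankAtStalk A q = p)

include hrk in
theorem pow_id_eq_one' : (toConv (AlgHom.id R A)) ^ p = 1 := by
  haveI : Coalgebra.IsCocomm R A := isCocomm_of_rank_prime hrk
  exact pow_id_eq_one_of_rank p hrk

include hu hχ hχp hrk in
theorem eigen_rank_one (i : ℕ) (q : PrimeSpectrum R) :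
    Module.rankAtStalk (OortTate.eigenAug R A p χ i) q = 1 := by
  have hp := pow_id_eq_one' p hrk
  rw [eigenAug_congr p (red_modEq p i)]
  obtain ⟨ht1, ht2⟩ := red_mem p i
  generalize red p i = t at ht1 ht2 ⊢
  let k := AlgebraicClosure q.asIdeal.ResidueField
  haveI := eigen_finite p (χ := χ) hu hp t
  haveI := eigen_projective p (χ := χ) hu hp t
  have h := Module.rankAtStalk_baseChange (R := R) (S := k) (M := OortTate.eigenAug R A p χ t) ⊥
  have hq : PrimeSpectrum.comap (algebraMap R k) ⊥ = q := by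
    apply PrimeSpectrum.ext
    show Ideal.comap (algebraMap R k) ⊥ = q.asIdeal
    rw [IsScalarTower.algebraMap_eq R q.asIdeal.ResidueField k, ← RingHom.ker_eq_comap_bot,
      RingHom.ker_comp_of_injective _ (algebraMap q.asIdeal.ResidueField k).injective,
      Ideal.ker_algebraMap_residueField]
  rw [Module.rankAtStalk_eq_finrank_of_free, hq] at h
  simp only [Pi.natCast_apply, Nat.cast_id] at h
  rw [← h]
  obtain ⟨y, -, hy⟩ := exists_field_generator (k := k) p hu hχ hχp hrk hp
  obtain ⟨hne, heq⟩ := hy t ht1 ht2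
  set I := OortTate.eigenAug R A p χ t
  set χk := (Units.map (algebraMap R k).toMonoidHom).comp χ
  have huk : algebraMap R k u * ((p - 1 : ℕ) : k) = 1 := by
    rw [← map_natCast (algebraMap R k), ← map_mul, hu, map_one]
  have hinj : Function.Injective (I.subtype.baseChange k) := by
    have hsplit : ((P p u χ t).codRestrict I (P_mem p hu hp t)) ∘ₗ I.subtype = LinearMap.id :=
      LinearMap.ext fun a => Subtype.ext (P_of_mem p hu a.2)
    refine Function.LeftInverse.injective (g := ((P p u χ t).codRestrict I (P_mem p hu hp t)).baseChange k)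
      fun z => ?_
    rw [← LinearMap.comp_apply, ← LinearMap.baseChange_comp, hsplit, LinearMap.baseChange_id, LinearMap.id_apply]
  rw [← LinearMap.finrank_range_of_inj hinj]
  have hr : LinearMap.range (I.subtype.baseChange k) = OortTate.eigenAug k (k ⊗[R] A) p χk t := by
    apply le_antisymm
    · rintro _ ⟨z, rfl⟩
      induction z using TensorProduct.induction_on with
      | zero => rw [map_zero]; exact zero_mem _
      | add a b ha hb => rw [map_add]; exact add_mem ha hb
      | tmul c a =>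
        have h1 : (I.subtype.baseChange k) (c ⊗ₜ a) =
            c • P p (algebraMap R k u) χk t ((1 : k) ⊗ₜ[R] (a : A)) := by
          rw [P_one_tmul, P_of_mem p hu a.2, smul_tmul', smul_eq_mul, mul_one]
          rfl
        rw [h1]
        exact Submodule.smul_mem _ _ (P_mem p huk (pow_id_eq_one k p hp) t _)
    · intro z hz
      rw [← P_of_mem p huk hz]
      clear hz
      induction z using TensorProduct.induction_on with
      | zero => rw [map_zero]; exact zero_mem _
      | add a b ha hb => rw [map_add]; exact add_mem ha hb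
      | tmul c a =>
        refine ⟨c ⊗ₜ ⟨P p u χ t a, P_mem p hu hp t a⟩, ?_⟩
        rw [show c ⊗ₜ[R] a = c • ((1 : k) ⊗ₜ[R] a) by rw [smul_tmul', smul_eq_mul, mul_one], map_smul, P_one_tmul,
          smul_tmul', smul_eq_mul, mul_one]
        rfl
  rw [hr, heq, finrank_span_singleton hne]

include hu hχ hχp hrk in
theorem exists_local_generator (q : PrimeSpectrum R) : ∃ a ∈ OortTate.eigenAug R A p χ 1,
    ∀ t, 1 ≤ t → t ≤ p - 1 → ∃ ψ : A →ₗ[R] R, ψ (a ^ t) ∉ q.asIdeal ∧
      ∀ x ∈ OortTate.eigenAug R A p χ t, ψ (a ^ t) • x = ψ x • a ^ t := by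
  classical
  have hp := pow_id_eq_one' p hrk
  let k := AlgebraicClosure q.asIdeal.ResidueField
  obtain ⟨y, hy1, hy⟩ := exists_field_generator (k := k) p hu hχ hχp hrk hp
  set χk := (Units.map (algebraMap R k).toMonoidHom).comp χ
  have huk : algebraMap R k u * ((p - 1 : ℕ) : k) = 1 := by
    rw [← map_natCast (algebraMap R k), ← map_mul, hu, map_one]
  have h2 := (Fact.out : p.Prime).two_le
  have hy0 : y ≠ 0 := by simpa using (hy 1 le_rfl (by omega)).1
  obtain ⟨a, ha, hane⟩ : ∃ a : A, a ∈ OortTate.eigenAug R A p χ 1 ∧ (1 : k) ⊗ₜ[R] a ≠ (0 : k ⊗[R] A) := by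
    by_contra hcon
    push_neg at hcon
    refine hy0 ?_
    rw [← P_of_mem p huk hy1]
    have hall : ∀ z : k ⊗[R] A, P p (algebraMap R k u) χk 1 z = 0 := by
      intro z
      induction z using TensorProduct.induction_on with
      | zero => simp
      | add a b ha hb => rw [map_add, ha, hb, add_zero]
      | tmul c a =>
        rw [show c ⊗ₜ[R] a = c • ((1 : k) ⊗ₜ[R] a) by rw [smul_tmul', smul_eq_mul, mul_one], map_smul, P_one_tmul,
          hcon _ (P_mem p hu hp 1 a), smul_zero]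
    exact hall y
  have hmem : (1 : k) ⊗ₜ[R] a ∈ Submodule.span k {y} := by
    have h := (hy 1 le_rfl (by omega)).2
    rw [pow_one] at h
    rw [← h, ← P_of_mem p hu ha, ← P_one_tmul]
    exact P_mem p huk (pow_id_eq_one k p hp) 1 _
  obtain ⟨c, hc⟩ := Submodule.mem_span_singleton.1 hmem
  have hc0 : c ≠ 0 := fun h => hane (by rw [← hc, h, zero_smul])
  refine ⟨a, ha, fun t ht1 ht2 => ?_⟩
  have hat : (1 : k) ⊗ₜ[R] (a ^ t) ≠ 0 := by
    have h1 : (1 : k) ⊗ₜ[R] (a ^ t) = c ^ t • y ^ t := by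
      rw [← smul_pow, hc, Algebra.TensorProduct.tmul_pow, one_pow]
    rw [h1]
    exact smul_ne_zero (pow_ne_zero _ hc0) (hy t ht1 ht2).1
  obtain ⟨n, f, g, -, -, hfg⟩ := Module.Finite.exists_comp_eq_id_of_projective R A
  obtain ⟨j, hj⟩ : ∃ j, g (a ^ t) j ∉ q.asIdeal := by
    by_contra hcon
    push_neg at hcon
    refine hat ?_
    have hz : f (g (a ^ t)) = a ^ t := DFunLike.congr_fun hfg _
    generalize g (a ^ t) = v at hz hcon
    rw [← hz, pi_eq_sum_univ' v, map_sum, tmul_sum]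
    refine Finset.sum_eq_zero fun j _ => ?_
    rw [map_smul, tmul_smul, ← algebraMap_smul k (v j)]
    have : algebraMap R k (v j) = 0 := by
      rw [IsScalarTower.algebraMap_apply R q.asIdeal.ResidueField k, Ideal.algebraMap_residueField_eq_zero.2 (hcon j),
        map_zero]
    rw [this, zero_smul]
  refine ⟨LinearMap.proj j ∘ₗ g, hj, fun x hx => ?_⟩
  haveI := eigen_finite p (χ := χ) hu hp t
  haveI := eigen_projective p (χ := χ) hu hp t
  exact congrArg Subtype.val (rank_one_swap (eigen_rank_one p hu hχ hχp hrk t)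
    ((LinearMap.proj j ∘ₗ g) ∘ₗ (OortTate.eigenAug R A p χ t).subtype) ⟨a ^ t, pow_mem_eigen p ha t ht1⟩ ⟨x, hx⟩)

include hu hχ hχp hrk in
theorem pow_eq (t : ℕ) (ht1 : 1 ≤ t) (ht2 : t ≤ p - 1) :
    OortTate.eigenAug R A p χ 1 ^ t = OortTate.eigenAug R A p χ t := by
  refine le_antisymm (pow_le p t ht1) fun x hx => eq_zero_of_exists_not_mem x _ fun q hq => ?_
  obtain ⟨a, ha, h⟩ := exists_local_generator p hu hχ hχp hrk ⟨q, hq.isPrime⟩
  obtain ⟨ψ, hψ, hswap⟩ := h t ht1 ht2
  refine ⟨ψ (a ^ t), hψ, ?_⟩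
  rw [hswap x hx]
  exact Submodule.smul_mem _ _ (Submodule.pow_mem_pow _ ha t)

end main

end Groth.Agent.Lib.OT67
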