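import Groth.Agent.Lib.Hopf.Irred
import Groth.Agent.Lib.HopfTransfer.FF
import Groth.Agent.S13402
import Mathlib

/-!
A simple finite commutative group scheme has no proper non-trivial quotients.
-/

universe u

namespace Groth.Agent.Lib.OT67

theorem bijective_of_simple {k : Type u} [Field k] {A B : Type u} [CommRing A] [HopfAlgebra k A]
    [Module.Finite k A] [Coalgebra.IsCocomm k A] [CommRing B] [HopfAlgebra k B] [Module.Finite k B]
    [Coalgebra.IsCocomm k B]
    (hsimple : ∀ I : Ideal A, I.IsHopfIdeal k → I = ⊥ ∨ I = RingHom.ker (Bialgebra.counitAlgHom k A))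
    (f : B →ₐc[k] A) (hinj : Function.Injective f) {b : B} (hb : b ≠ 0)
    (hb0 : Bialgebra.counitAlgHom k B b = 0) : Function.Bijective f := by
  let S := (f : B →ₐ[k] A).range
  have hI : SGA3.augIdealSpan k A S =
      Ideal.map f (RingHom.ker (Bialgebra.counitAlgHom k B)) := by
    apply le_antisymm
    · refine Ideal.span_le.2 ?_
      rintro _ ⟨⟨c, rfl⟩, hc⟩
      exact Ideal.mem_map_of_mem f (RingHom.mem_ker.2 ((CoalgHomClass.counit_comp_apply f c).symm.trans hc))
    · rw [Ideal.map_le_iff_le_comap]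
      intro c hc
      exact Ideal.subset_span ⟨⟨c, rfl⟩, (CoalgHomClass.counit_comp_apply f c).trans hc⟩
  rcases hsimple _ (Lib.Hopf.Irred.isHopfIdeal_augIdealSpan (Lib.HopfTransfer.isHopfSubalgebra_range f)) with h | h
  · exfalso
    have : f b ∈ Ideal.map f (RingHom.ker (Bialgebra.counitAlgHom k B)) :=
      Ideal.mem_map_of_mem f (RingHom.mem_ker.2 hb0)
    rw [← hI, h, Ideal.mem_bot, ← map_zero f] at this
    exact hb (hinj this)
  · exact S13402.result k A B f hinj (hI.symm.trans h)

end Groth.Agent.Lib.OT67
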