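import Groth.Agent.H83.MultType.Functorial
import Groth.Agent.H83.MultType.Quot
import Groth.Agent.H83.MultType.KerType
import Groth.Prelude.Def_SGA3b
import Mathlib

/-!
An isotrivial group which is a torus modulo an ideal in the radical is a torus.
-/

open TensorProduct

set_option linter.style.haveILetI false

universe u

namespace Groth.Agent.Lib.OT67.TorusLift

open Groth.Agent.H83.MultType

set_option synthInstance.maxHeartbeats 200000 in
set_option maxHeartbeats 1000000 in
theorem isTorus {A : Type u} [CommRing A] {I : Ideal A} (hI : I ≤ Ideal.jacobson ⊥) {C : Type u} [CommRing C]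
    [HopfAlgebra A C] (hC : SGA3b.IsIsotrivial A C) (hT : SGA3b.IsTorus (A ⧸ I) ((A ⧸ I) ⊗[A] C)) :
    SGA3b.IsTorus A C := by
  classical
  rcases subsingleton_or_nontrivial A with hA | hA
  · exact ⟨∅, Subsingleton.elim _ _, fun f hf => hf.elim⟩
  obtain ⟨S, _, _, -, -, hff, M, _, ⟨e⟩⟩ := hC
  obtain ⟨s, hs, hsf⟩ := hT
  obtain ⟨m, hm⟩ := Ideal.exists_maximal A
  have hIm : I ≤ m := hI.trans (by rw [Ideal.jacobson]; exact sInf_le ⟨bot_le, hm⟩)
  have hne : Ideal.span s ≠ (⊥ : Ideal (A ⧸ I)) ∧ ∃ f ∈ s, f ∉ m.map (Ideal.Quotient.mk I) := by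
    refine ⟨?_, ?_⟩
    · haveI : Nontrivial (A ⧸ I) := Ideal.Quotient.nontrivial_iff.2 fun h => hm.ne_top (top_le_iff.1 (h ▸ hIm))
      rw [hs]
      exact top_ne_bot
    · by_contra hcon
      push Not at hcon
      have h1 : (1 : A ⧸ I) ∈ m.map (Ideal.Quotient.mk I) :=
        (Ideal.span_le.2 hcon) (hs.symm ▸ Submodule.mem_top)
      rw [← map_one (Ideal.Quotient.mk I), Ideal.mem_quotient_iff_mem hIm] at h1
      exact hm.ne_top ((Ideal.eq_top_iff_one _).2 h1)
  obtain ⟨-, f, hf, hfm⟩ := hne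
  obtain ⟨R', _, _, hff', n, ⟨e'⟩⟩ := hsf f hf
  let L := Localization.Away f
  haveI hm0 : (m.map (Ideal.Quotient.mk I)).IsPrime :=
    Ideal.map_isPrime_of_surjective Ideal.Quotient.mk_surjective (by rwa [Ideal.mk_ker])
  haveI : Nontrivial L := by
    by_contra hL
    rw [not_nontrivial_iff_subsingleton, IsLocalization.subsingleton_iff (S := L) (M := Submonoid.powers f)] at hL
    obtain ⟨k, hk⟩ := hL
    exact hfm (hm0.mem_of_pow_mem k (by rw [show f ^ k = 0 from hk]; exact zero_mem _))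
  haveI : Nontrivial R' := by
    by_contra hR
    rw [not_nontrivial_iff_subsingleton] at hR
    have h := (Module.FaithfullyFlat.one_tmul_eq_zero_iff (R := L) (A := R') L (1 : L)).1 (by
      haveI := Module.subsingleton R' (R' ⊗[L] L)
      exact Subsingleton.elim _ _)
    exact one_ne_zero h
  letI : Algebra (A ⧸ I) R' := Algebra.compHom R' (algebraMap (A ⧸ I) L)
  haveI : IsScalarTower (A ⧸ I) L R' := IsScalarTower.of_algebraMap_eq fun _ => rfl
  letI : Algebra A R' := Algebra.compHom R' (algebraMap A (A ⧸ I))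
  haveI : IsScalarTower A (A ⧸ I) R' := IsScalarTower.of_algebraMap_eq fun _ => rfl
  obtain ⟨T₁, -⟩ := exists_towerEquiv A (A ⧸ I) R' C
  obtain ⟨T₂, -⟩ := exists_towerEquiv (A ⧸ I) L R' ((A ⧸ I) ⊗[A] C)
  haveI : Nontrivial (S ⊗[A] R') := by
    by_contra hR
    rw [not_nontrivial_iff_subsingleton] at hR
    exact one_ne_zero ((Module.FaithfullyFlat.one_tmul_eq_zero_iff (R := A) (A := S) R' (1 : R')).1 (Subsingleton.elim _ _))
  obtain ⟨mK, hmK⟩ := Ideal.exists_maximal (S ⊗[A] R')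
  let K := (S ⊗[A] R') ⧸ mK
  let g₁ : S →ₐ[A] K := (Ideal.Quotient.mkₐ A mK).comp Algebra.TensorProduct.includeLeft
  let g₂ : R' →ₐ[A] K := (Ideal.Quotient.mkₐ A mK).comp Algebra.TensorProduct.includeRight
  obtain ⟨d₁, -⟩ := exists_diag_map (A := C) g₁ e
  let e'' := e'.trans (MonoidAlgebra.domCongrBialgEquiv R' R'
    (MulEquiv.ulift : ULift.{u} (Multiplicative (Fin n → ℤ)) ≃* Multiplicative (Fin n → ℤ)).symm)
  obtain ⟨d₂, -⟩ := exists_diag_map (A := C) g₂ ((T₁.trans T₂).trans e'')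
  obtain ⟨E⟩ := nonempty_mulEquiv_of_bialgEquiv (d₁.symm.trans d₂)
  refine ⟨{1}, Ideal.span_singleton_one, fun g hg => ?_⟩
  rw [Set.mem_singleton_iff] at hg
  subst hg
  let ε : A ≃ₐ[A] Localization.Away (1 : A) := IsLocalization.atOne A (Localization.Away (1 : A))
  let γ : Localization.Away (1 : A) →+* S := (algebraMap A S).comp (ε.symm.toAlgHom.toRingHom)
  letI algLS : Algebra (Localization.Away (1 : A)) S := γ.toAlgebra
  haveI : IsScalarTower A (Localization.Away (1 : A)) S := IsScalarTower.of_algebraMap_eq fun r => by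
    show algebraMap A S r = algebraMap A S (ε.symm (algebraMap A _ r))
    rw [AlgEquiv.commutes]; rfl
  have hγ : γ.FaithfullyFlat :=
    RingHom.FaithfullyFlat.stableUnderComposition _ _ (RingHom.FaithfullyFlat.of_bijective ε.symm.bijective)
      (RingHom.faithfullyFlat_algebraMap_iff.mpr hff)
  obtain ⟨T, -⟩ := exists_towerEquiv A (Localization.Away (1 : A)) S C
  exact ⟨S, inferInstance, algLS, hγ, n, ⟨(T.symm.trans e).trans (MonoidAlgebra.domCongrBialgEquiv S S (E.trans MulEquiv.ulift))⟩⟩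

end Groth.Agent.Lib.OT67.TorusLift
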